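import Cfsg.Agent.H190.Odd.K8TE6
import Cfsg.Agent.H190.Cov.Two.Rad3c
import Cfsg.Agent.H771.KTools_m3
import Cfsg.Agent.S0243
import Mathlib
import Cfsg.Agent.H325.Same.ExcRow2
import Cfsg.Agent.H946.ExcNum_m3
import Cfsg.Agent.H563.KG.Elim_m3
import Cfsg.Agent.H946.KZ.SameF4
import Cfsg.Agent.H946.KZ.Gap
import Cfsg.Agent.H129.RealT_m3
import Cfsg.Agent.H129.CycRow
import Cfsg.Agent.H129.CycCard
import Cfsg.Agent.FastGrp
import Cfsg.Agent.Prune
set_option linter.all false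

section
prune_inst 0x7ff1bdfdffb8efffffff7e7ffed9fffe1b935fffffdff94bfff061ffaf9f230219c5fb8d1de050ff0ed6e29430b87853fbfffeffee6ffc7ffffdfff45ffbee5fe5f7bd8811968c240f344fffe3f07f8e7f3fffffffffffffffffffffffffffbeffffffffffff

-- part: H190/Cov/Rad8c
section
prune_inst 0xc4202004510000000000001240001e06ca000000002b0000f9e005060d8fde6380422e20f8900d008182a0a450388040001000190000000000000200011801a080235626933dbd0cb20001809006000000000000000000000000000000041000000000000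
set_option linter.all false
open scoped Cfsg.Agent.FastGrp

/-!
# The classes `12`, `8` are good for all primes in `E₆(q)`, `²E₆(q)` (`q ≠ 2`) (S2499)

`good_e6c`, `good_te6c` (the proofs of `H190.Odd.good_e6b`, `good_te6b`, without parity).
-/

set_option autoImplicit false

namespace Cfsg.Agent.H190.Cov

open Cfsg Cfsg.Agent.OrdDiv Cfsg.Agent.H436 Cfsg.Agent.H902 Cfsg.Agent.H290.ElReg Cfsg.Agent.H290.ElTab
  Cfsg.Agent.H56.Exc Cfsg.Agent.H325.Loc Cfsg.Agent.H563.KG Cfsg.Agent.H190.Odd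

/-- `O_t = 1` through elements of orders `r` and `s` -/
theorem kill_gen {G : Type*} [Group G] [Finite G] {t r s K : ℕ} (ht : t.Prime) (hr : r.Prime) (hs : s.Prime)
    (hd : ¬ t ^ (K + 1) ∣ Nat.card G) (hrG : r ∣ Nat.card G)
    (hcr : ∀ x : G, orderOf x = r → IsCyclic ↥(Subgroup.centralizer ({x} : Set G))) (hsG : s ∣ Nat.card G)
    (hcs : ∀ x : G, orderOf x = s → ¬ t ∣ Nat.card ↥(Subgroup.centralizer ({x} : Set G)))
    (hnum : ∀ k ≤ K, ∀ c, 1 ≤ c → c ≤ t → t ^ k ≡ c [MOD r] → k ≤ 1) (hts : ¬ s ∣ t - 1) : KillB G t := by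
  intro A hAn hAc hAt
  have := Fact.mk hr
  have := Fact.mk hs
  have := Fact.mk ht
  have hPt : IsPGroup t A := fun a => ⟨1, by rw [pow_one]; exact Subtype.ext (hAt a a.2)⟩
  obtain ⟨k, hk⟩ := IsPGroup.iff_card.1 hPt
  have hkK : k ≤ K := by
    by_contra hcon
    exact hd ((pow_dvd_pow t (by omega)).trans (hk ▸ Subgroup.card_subgroup_dvd_card A))
  obtain ⟨x, hx⟩ := exists_prime_orderOf_dvd_card' r hrG
  obtain ⟨y, hy⟩ := exists_prime_orderOf_dvd_card' s hsG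
  have h1 := modEq_comm (A := A) hr hx
  have h2 := Cfsg.Agent.H190.Exc.card_comm_le ht hAt (hcr x hx)
  have h3 : 0 < Nat.card {a : G // a ∈ A ∧ x * a = a * x} := by
    have : Nonempty {a : G // a ∈ A ∧ x * a = a * x} := ⟨⟨1, one_mem A, by rw [mul_one, one_mul]⟩⟩
    exact Nat.card_pos
  generalize Nat.card {a : G // a ∈ A ∧ x * a = a * x} = c at h1 h2 h3
  rw [hk] at h1
  have hk1 := hnum k hkK c h3 h2 h1
  have h4 := dvd_card_sub_one (A := A) hs hy fun a ha hc => by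
    have h5 : a ∈ Subgroup.centralizer ({y} : Set G) := Subgroup.mem_centralizer_singleton_iff.2 hc.symm
    have h6 : orderOf a ∣ Nat.card ↥(Subgroup.centralizer ({y} : Set G)) := by
      have h7 : orderOf (⟨a, h5⟩ : ↥(Subgroup.centralizer ({y} : Set G))) = orderOf a := by
        rw [← Subgroup.orderOf_coe]
      rw [← h7]
      exact orderOf_dvd_natCard _
    rcases (Nat.dvd_prime ht).1 (orderOf_dvd_of_pow_eq_one (hAt a ha)) with h7 | h7
    · rwa [orderOf_eq_one_iff] at h7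
    · rw [h7] at h6
      exact absurd h6 (hcs y hy)
  have hk' : k = 0 ∨ k = 1 := by omega
  rcases hk' with rfl | rfl
  · rw [pow_zero] at hk
    exact Subgroup.card_eq_one.1 hk
  · rw [hk, pow_one] at h4
    exact absurd h4 hts

/-- the factorization of the order of `E₆(2)` -/
def fe2 : List (ℕ × ℕ) := [(2, 36), (3, 6), (5, 2), (7, 3), (13, 1), (17, 1), (31, 1), (73, 1)]

theorem fe2_eq : OL .E6 2 = (fe2.map fun x => x.1 ^ x.2).prod := by decide +kernel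

theorem fe2_prime : ∀ x ∈ fe2, x.1.Prime := by
  intro x hx
  simp only [fe2, List.mem_cons, List.not_mem_nil, or_false] at hx
  rcases hx with rfl | rfl | rfl | rfl | rfl | rfl | rfl | rfl <;> norm_num

/-- **`E₆(q)`, `3 ≤ q`, the classes 12, 8.** -/
theorem good_e6c3 {G : Type*} [Group G] [Finite G] {q n : ℕ} (hn : n ≤ 78) (hq : 3 ≤ q)
    (h12 : Ord G q 12 (Ph 12 q * (q ^ 2 + q + 1)))
    (h3x : 3 ∣ q - 1 → ∀ r, Prim q 12 r → ∀ x : G, orderOf x = r →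
      ¬ 3 ∣ Nat.card ↥(Subgroup.centralizer ({x} : Set G)))
    (h8 : Ord G q 8 (Ph 8 q * (q ^ 2 - 1)))
    (hcyc : ∀ r, Prim q 8 r → ∀ x : G, orderOf x = r → IsCyclic ↥(Subgroup.centralizer ({x} : Set G)))
    (hd : Nat.card G ∣ OL .E6 q) (g12 : ncl 12 q ∣ Nat.card G) (g8 : ncl 8 q ∣ Nat.card G)
    {t : ℕ} (ht : t.Prime) (htq : ¬ t ∣ q) (ht12 : ¬ Prim q 12 t) (ht8 : ¬ Prim q 8 t) (htG : t ∣ Nat.card G) :
    Good G n t ∨ KillB G t := by
  have hq1 : 1 ≤ q := by omega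
  have c12 : Cls 12 := by unfold Cls; omega
  have c8 : Cls 8 := by unfold Cls; omega
  have k12 : ¬ t ∣ Ph 12 q := by rw [← ncl12_eq]; exact not_dvd_of_not_prim c12 hq1 ht ht12
  by_cases hA : t ∣ q ^ 2 + q + 1
  · by_cases h3 : t = 3
    · left
      subst h3
      have h4 : 3 ∣ q - 1 := by
        have h5 : (q : ZMod 3) = 1 := by
          rw [← ZMod.natCast_eq_zero_iff] at hA
          push_cast at hA
          generalize (q : ZMod 3) = x at hA ⊢
          revert x; decide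
        rw [← ZMod.natCast_eq_zero_iff, Nat.cast_sub hq1, h5, Nat.cast_one, sub_self]
      have h5 : 4 ≤ q := by
        by_contra hcon
        have : q = 3 := by omega
        subst this
        exact htq dvd_rfl
      exact ⟨ncl 12 q, g12, free_of c12 hq1 ht (h3x h4), Or.inl (lt_of_le_of_lt hn (gt12 h5))⟩
    · left
      have h4 := not8_plus (by omega) ht h3 hA ht8
      have h5 : Free G t (ncl 8 q) := h8.free c8 hq1 ht h4
      rcases eq_or_lt_of_le hq with rfl | hq4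
      · have h6 : (3 ^ 2 + 3 + 1 : ℕ) = 13 := by norm_num
        rw [h6] at hA
        obtain rfl := (Nat.prime_dvd_prime_iff_eq ht (by norm_num)).1 hA
        have h7 : ncl 8 3 = 41 := by decide +kernel
        refine ⟨ncl 8 3, g8, h5, Or.inr ⟨by rw [h7]; norm_num, fun k hk hkG => ?_⟩⟩
        have h8 : k ≤ 3 := pow_bound (M := OL .E6 3) (by decide +kernel) (hkG.trans hd)
        rw [h7]
        interval_cases k <;> norm_num
      · exact ⟨ncl 8 q, g8, h5, Or.inl (lt_of_le_of_lt hn (gt8 hq4))⟩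
  · have h4 : ¬ t ∣ Ph 12 q * (q ^ 2 + q + 1) := fun h => by
      rcases ht.dvd_mul.1 h with h | h
      · exact k12 h
      · exact hA h
    rcases eq_or_lt_of_le hq with rfl | hq4
    · have h7 : ncl 12 3 = 73 := by decide +kernel
      have h7' : ncl 8 3 = 41 := by decide +kernel
      have h5 : Free G t (ncl 12 3) := h12.free c12 hq1 ht h4
      have h6 := htG.trans hd
      rw [fe3_eq] at h6
      obtain ⟨y, hy, hty⟩ := prime_mem ht fe3 fe3_prime h6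
      simp only [fe3, List.mem_cons, List.not_mem_nil, or_false] at hy
      have key : ∀ K, ¬ t ^ (K + 1) ∣ OL .E6 3 → (∀ k ≤ K, 0 < k → ¬ 73 ∣ t ^ k - 1) → Good G n t := by
        intro K hK hk
        refine ⟨ncl 12 3, g12, h5, Or.inr ⟨by rw [h7]; norm_num, fun k hk0 hkG => ?_⟩⟩
        rw [h7]
        exact hk k (pow_bound hK (hkG.trans hd)) hk0
      rcases hy with rfl | rfl | rfl | rfl | rfl | rfl | rfl | rfl | rfl <;> (simp only at hty; subst hty)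
      · right
        refine kill_two (fun h => ?_) (h7' ▸ g8) (fun x hx => hcyc 41 ?_ x hx) (h7 ▸ g12) (fun x hx h => ?_)
        · have h8 : ¬ 2 ^ 20 ∣ OL .E6 3 := by decide +kernel
          exact h8 (h.trans hd)
        · exact prim_of_dvd c8 hq1 (by norm_num) (by rw [h7'])
        · have h9 := h12 73 (prim_of_dvd c12 hq1 (by norm_num) (by rw [h7])) x hx
          exact h4 (h.trans h9)
      · exact absurd dvd_rfl htq
      · exact Or.inl (key 2 (by decide +kernel) fun k hk hk0 => by interval_cases k <;> norm_num)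
      · exact Or.inl (key 2 (by decide +kernel) fun k hk hk0 => by interval_cases k <;> norm_num)
      · exact Or.inl (key 2 (by decide +kernel) fun k hk hk0 => by interval_cases k <;> norm_num)
      · exact absurd (by norm_num) hA
      · exact absurd (prim_of_dvd c8 hq1 (by norm_num) (by rw [h7'])) ht8
      · exact absurd (prim_of_dvd c12 hq1 (by norm_num) (by rw [h7])) ht12
      · exact Or.inl (key 1 (by decide +kernel) fun k hk hk0 => by interval_cases k <;> norm_num)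
    · left
      exact ⟨ncl 12 q, g12, h12.free c12 hq1 ht h4, Or.inl (lt_of_le_of_lt hn (gt12 hq4))⟩

/-- **`²E₆(q)`, `3 ≤ q`, the classes 12, 8.** -/
theorem good_te6c {G : Type*} [Group G] [Finite G] {q n : ℕ} (hn : n ≤ 78) (hq : 3 ≤ q)
    (h12 : Ord G q 12 (Ph 12 q * (q ^ 2 - q + 1)))
    (h3x : 3 ∣ q + 1 → ∀ r, Prim q 12 r → ∀ x : G, orderOf x = r →
      ¬ 3 ∣ Nat.card ↥(Subgroup.centralizer ({x} : Set G)))
    (h8 : Ord G q 8 (Ph 8 q * (q ^ 2 - 1)))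
    (hcyc : ∀ r, Prim q 8 r → ∀ x : G, orderOf x = r → IsCyclic ↥(Subgroup.centralizer ({x} : Set G)))
    (hd : Nat.card G ∣ OL .TE6 q) (g12 : ncl 12 q ∣ Nat.card G) (g8 : ncl 8 q ∣ Nat.card G)
    {t : ℕ} (ht : t.Prime) (htq : ¬ t ∣ q) (ht12 : ¬ Prim q 12 t) (ht8 : ¬ Prim q 8 t) (htG : t ∣ Nat.card G) :
    Good G n t ∨ KillB G t := by
  have hq1 : 1 ≤ q := by omega
  have hle : q ≤ q ^ 2 := Nat.le_self_pow (by norm_num) q
  have c12 : Cls 12 := by unfold Cls; omega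
  have c8 : Cls 8 := by unfold Cls; omega
  have k12 : ¬ t ∣ Ph 12 q := by rw [← ncl12_eq]; exact not_dvd_of_not_prim c12 hq1 ht ht12
  by_cases hA : t ∣ q ^ 2 - q + 1
  · by_cases h3 : t = 3
    · left
      subst h3
      have h4 : 3 ∣ q + 1 := by
        have h5 : (q : ZMod 3) = 2 := by
          rw [← ZMod.natCast_eq_zero_iff] at hA
          push_cast [Nat.cast_sub hle] at hA
          generalize (q : ZMod 3) = x at hA ⊢
          revert x; decide
        rw [← ZMod.natCast_eq_zero_iff]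
        push_cast
        rw [h5]
        decide
      have h5 : 4 ≤ q := by
        by_contra hcon
        have : q = 3 := by omega
        subst this
        exact htq dvd_rfl
      exact ⟨ncl 12 q, g12, free_of c12 hq1 ht (h3x h4), Or.inl (lt_of_le_of_lt hn (gt12 h5))⟩
    · left
      have h4 := not8_minus (by omega) ht h3 hA ht8
      have h5 : Free G t (ncl 8 q) := h8.free c8 hq1 ht h4
      rcases eq_or_lt_of_le hq with rfl | hq4
      · have h6 : (3 ^ 2 - 3 + 1 : ℕ) = 7 := by norm_num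
        rw [h6] at hA
        obtain rfl := (Nat.prime_dvd_prime_iff_eq ht (by norm_num)).1 hA
        have h7 : ncl 8 3 = 41 := by decide +kernel
        refine ⟨ncl 8 3, g8, h5, Or.inr ⟨by rw [h7]; norm_num, fun k hk hkG => ?_⟩⟩
        have h8 : k ≤ 3 := pow_bound (M := OL .TE6 3) (by decide +kernel) (hkG.trans hd)
        rw [h7]
        interval_cases k <;> norm_num
      · exact ⟨ncl 8 q, g8, h5, Or.inl (lt_of_le_of_lt hn (gt8 hq4))⟩
  · have h4 : ¬ t ∣ Ph 12 q * (q ^ 2 - q + 1) := fun h => by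
      rcases ht.dvd_mul.1 h with h | h
      · exact k12 h
      · exact hA h
    rcases eq_or_lt_of_le hq with rfl | hq4
    · have h7 : ncl 12 3 = 73 := by decide +kernel
      have h7' : ncl 8 3 = 41 := by decide +kernel
      have h5 : Free G t (ncl 12 3) := h12.free c12 hq1 ht h4
      have h6 := htG.trans hd
      rw [ft3_eq] at h6
      obtain ⟨y, hy, hty⟩ := prime_mem ht ft3 ft3_prime h6
      simp only [ft3, List.mem_cons, List.not_mem_nil, or_false] at hy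
      have key : ∀ K, ¬ t ^ (K + 1) ∣ OL .TE6 3 → (∀ k ≤ K, 0 < k → ¬ 73 ∣ t ^ k - 1) → Good G n t := by
        intro K hK hk
        refine ⟨ncl 12 3, g12, h5, Or.inr ⟨by rw [h7]; norm_num, fun k hk0 hkG => ?_⟩⟩
        rw [h7]
        exact hk k (pow_bound hK (hkG.trans hd)) hk0
      rcases hy with rfl | rfl | rfl | rfl | rfl | rfl | rfl | rfl | rfl | rfl <;> (simp only at hty; subst hty)
      · right
        refine kill_two (fun h => ?_) (h7' ▸ g8) (fun x hx => hcyc 41 ?_ x hx) (h7 ▸ g12) (fun x hx h => ?_)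
        · have h8 : ¬ 2 ^ 20 ∣ OL .TE6 3 := by decide +kernel
          exact h8 (h.trans hd)
        · exact prim_of_dvd c8 hq1 (by norm_num) (by rw [h7'])
        · have h9 := h12 73 (prim_of_dvd c12 hq1 (by norm_num) (by rw [h7])) x hx
          exact h4 (h.trans h9)
      · exact absurd dvd_rfl htq
      · exact Or.inl (key 2 (by decide +kernel) fun k hk hk0 => by interval_cases k <;> norm_num)
      · exact absurd (by norm_num) hA
      · exact Or.inl (key 2 (by decide +kernel) fun k hk hk0 => by interval_cases k <;> norm_num)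
      · exact Or.inl (key 1 (by decide +kernel) fun k hk hk0 => by interval_cases k <;> norm_num)
      · exact Or.inl (key 1 (by decide +kernel) fun k hk hk0 => by interval_cases k <;> norm_num)
      · exact absurd (prim_of_dvd c8 hq1 (by norm_num) (by rw [h7'])) ht8
      · exact Or.inl (key 1 (by decide +kernel) fun k hk hk0 => by interval_cases k <;> norm_num)
      · exact absurd (prim_of_dvd c12 hq1 (by norm_num) (by rw [h7])) ht12
    · left
      exact ⟨ncl 12 q, g12, h12.free c12 hq1 ht h4, Or.inl (lt_of_le_of_lt hn (gt12 hq4))⟩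

/-- **`E₆(2)`, the classes 12, 8.** -/
theorem good_e6c2 {G : Type*} [Group G] [Finite G] {n : ℕ}
    (h12 : Ord G 2 12 (Ph 12 2 * (2 ^ 2 + 2 + 1))) (h8 : Ord G 2 8 (Ph 8 2 * (2 ^ 2 - 1)))
    (hcyc : ∀ r, Prim 2 8 r → ∀ x : G, orderOf x = r → IsCyclic ↥(Subgroup.centralizer ({x} : Set G)))
    (hd : Nat.card G ∣ OL .E6 2) (g12 : ncl 12 2 ∣ Nat.card G) (g8 : ncl 8 2 ∣ Nat.card G)
    {t : ℕ} (ht : t.Prime) (htq : ¬ t ∣ 2) (ht12 : ¬ Prim 2 12 t) (ht8 : ¬ Prim 2 8 t) (htG : t ∣ Nat.card G) :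
    Good G n t ∨ KillB G t := by
  have h7 : ncl 12 2 = 13 := by decide +kernel
  have h7' : ncl 8 2 = 17 := by decide +kernel
  have h6 := htG.trans hd
  rw [fe2_eq] at h6
  obtain ⟨y, hy, hty⟩ := prime_mem ht fe2 fe2_prime h6
  simp only [fe2, List.mem_cons, List.not_mem_nil, or_false] at hy
  have key : ∀ K, ¬ t ^ (K + 1) ∣ OL .E6 2 → ¬ t ∣ Ph 12 2 * (2 ^ 2 + 2 + 1) →
      (∀ k ≤ K, 0 < k → ¬ 13 ∣ t ^ k - 1) → Good G n t := by
    intro K hK hN hk
    refine ⟨ncl 12 2, g12, h12.free c12 (by norm_num) ht hN, Or.inr ⟨by rw [h7]; norm_num, fun k hk0 hkG => ?_⟩⟩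
    rw [h7]
    exact hk k (pow_bound hK (hkG.trans hd)) hk0
  have key8 : ∀ K, ¬ t ^ (K + 1) ∣ OL .E6 2 → ¬ t ∣ Ph 8 2 * (2 ^ 2 - 1) →
      (∀ k ≤ K, 0 < k → ¬ 17 ∣ t ^ k - 1) → Good G n t := by
    intro K hK hN hk
    refine ⟨ncl 8 2, g8, h8.free c8 (by norm_num) ht hN, Or.inr ⟨by rw [h7']; norm_num, fun k hk0 hkG => ?_⟩⟩
    rw [h7']
    exact hk k (pow_bound hK (hkG.trans hd)) hk0
  rcases hy with rfl | rfl | rfl | rfl | rfl | rfl | rfl | rfl <;> (simp only at hty; subst hty)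
  · exact absurd dvd_rfl htq
  · right
    refine kill_gen (K := 6) (r := 17) (s := 13) (by norm_num) (by norm_num) (by norm_num) (fun h => ?_) (h7' ▸ g8)
      (fun x hx => hcyc 17 ?_ x hx) (h7 ▸ g12) (fun x hx h => ?_) ?_ (by norm_num)
    · have h8 : ¬ 3 ^ 7 ∣ OL .E6 2 := by decide +kernel
      exact h8 (h.trans hd)
    · exact prim_of_dvd c8 (by norm_num) (by norm_num) (by rw [h7'])
    · have h9 := h12 13 (prim_of_dvd c12 (by norm_num) (by norm_num) (by rw [h7])) x hx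
      have h10 : ¬ 3 ∣ Ph 12 2 * (2 ^ 2 + 2 + 1) := by decide +kernel
      exact h10 (h.trans h9)
    · intro k hk c hc1 hc2 hm
      interval_cases k <;> interval_cases c <;> revert hm <;> decide
  · exact Or.inl (key 2 (by decide +kernel) (by decide +kernel) fun k hk hk0 => by interval_cases k <;> norm_num)
  · exact Or.inl (key8 3 (by decide +kernel) (by decide +kernel) fun k hk hk0 => by interval_cases k <;> norm_num)
  · exact absurd (prim_of_dvd c12 (by norm_num) (by norm_num) (by rw [h7])) ht12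
  · exact absurd (prim_of_dvd c8 (by norm_num) (by norm_num) (by rw [h7'])) ht8
  · exact Or.inl (key 1 (by decide +kernel) (by decide +kernel) fun k hk hk0 => by interval_cases k <;> norm_num)
  · exact Or.inl (key 1 (by decide +kernel) (by decide +kernel) fun k hk hk0 => by interval_cases k <;> norm_num)

/-- **`E₆(q)`, the classes 12, 8.** -/
theorem good_e6c {G : Type*} [Group G] [Finite G] {q n : ℕ} (hn : n ≤ 78) (hq : 2 ≤ q)
    (h12 : Ord G q 12 (Ph 12 q * (q ^ 2 + q + 1)))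
    (h3x : 3 ∣ q - 1 → ∀ r, Prim q 12 r → ∀ x : G, orderOf x = r →
      ¬ 3 ∣ Nat.card ↥(Subgroup.centralizer ({x} : Set G)))
    (h8 : Ord G q 8 (Ph 8 q * (q ^ 2 - 1)))
    (hcyc : ∀ r, Prim q 8 r → ∀ x : G, orderOf x = r → IsCyclic ↥(Subgroup.centralizer ({x} : Set G)))
    (hd : Nat.card G ∣ OL .E6 q) (g12 : ncl 12 q ∣ Nat.card G) (g8 : ncl 8 q ∣ Nat.card G)
    {t : ℕ} (ht : t.Prime) (htq : ¬ t ∣ q) (ht12 : ¬ Prim q 12 t) (ht8 : ¬ Prim q 8 t) (htG : t ∣ Nat.card G) :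
    Good G n t ∨ KillB G t := by
  rcases eq_or_lt_of_le hq with rfl | hq3
  · exact good_e6c2 h12 h8 hcyc hd g12 g8 ht htq ht12 ht8 htG
  · exact good_e6c3 hn hq3 h12 h3x h8 hcyc hd g12 g8 ht htq ht12 ht8 htG

end Cfsg.Agent.H190.Cov

private theorem dce_29d207620b11 : _root_.True := by
  try have : _root_.True := by simp only [_root_.Cfsg.Agent.H190.Cov.fe2.eq_1]
  exact _root_.True.intro
end

-- part: H190/Cov/K128
section
prune_inst 0xe0002004300000000000000040001e42ca000000002b0000c18000060d818c4200000e20a2a0010280c0a0840070004000000110000000000000000001180080800256041211ac08b20001000000000000000000000000000000000000000000000000000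
set_option linter.all false
open scoped Cfsg.Agent.FastGrp

-- part: H190/Cov/Kill3
section
/-!
# Commuting elements of `PSL₃(q)` (S2499)

An element of prime order `r`, `r ∣ |SL₂(q)|`, and the image of `diag(a, a, a⁻²)`; `kill_psl3_big` : a simple group
`L₃(q⁴)` contains elements of class `8` centralised by an element of order `s`, `s` of class `4`.
-/

set_option autoImplicit false

namespace Cfsg.Agent.H190.Cov

open Matrix Cfsg Cfsg.Agent.H674.SUBlock Cfsg.Agent.LieClassical Cfsg.Agent.H436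

section SL

variable {K : Type*} [Field K]

/-- `SL₂ → SL₃` -/
def emb : Matrix.SpecialLinearGroup (Fin 2) K →* Matrix.SpecialLinearGroup (Fin 3) K where
  toFun A := ⟨blk (d := 2) (k := 1) (A : Matrix (Fin 2) (Fin 2) K) 1, by
    rw [det_blk, Matrix.SpecialLinearGroup.det_coe, Matrix.det_one, one_mul]⟩
  map_one' := Subtype.ext (by
    show blk (d := 2) (k := 1) ((1 : Matrix.SpecialLinearGroup (Fin 2) K) : Matrix (Fin 2) (Fin 2) K) 1 = 1
    rw [Matrix.SpecialLinearGroup.coe_one, blk_one])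
  map_mul' A B := Subtype.ext (by
    show blk (d := 2) (k := 1) ((A * B : Matrix.SpecialLinearGroup (Fin 2) K) : Matrix (Fin 2) (Fin 2) K) 1 =
      blk (d := 2) (k := 1) (A : Matrix (Fin 2) (Fin 2) K) 1 * blk (d := 2) (k := 1) (B : Matrix (Fin 2) (Fin 2) K) 1
    rw [Matrix.SpecialLinearGroup.coe_mul, ← blk_mul, one_mul])

/-- the central torus of the block -/
def zz (a : Kˣ) : Matrix.SpecialLinearGroup (Fin 3) K :=
  ⟨blk (d := 2) (k := 1) ((a : K) • (1 : Matrix (Fin 2) (Fin 2) K)) (((a⁻¹ ^ 2 : Kˣ) : K) • (1 : Matrix (Fin 1) (Fin 1) K)), by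
    rw [det_blk, Matrix.det_smul, Matrix.det_smul, Matrix.det_one, Matrix.det_one, mul_one, mul_one, Fintype.card_fin,
      Fintype.card_fin, pow_one, ← Units.val_pow_eq_pow_val, ← Units.val_mul, inv_pow, mul_inv_cancel, Units.val_one]⟩

theorem zz_mul (a b : Kˣ) : zz (a * b) = zz a * zz b := by
  apply Subtype.ext
  show blk (d := 2) (k := 1) (((a * b : Kˣ) : K) • (1 : Matrix (Fin 2) (Fin 2) K))
      ((((a * b)⁻¹ ^ 2 : Kˣ) : K) • (1 : Matrix (Fin 1) (Fin 1) K)) = blk (d := 2) (k := 1) _ _ * blk (d := 2) (k := 1) _ _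
  rw [← blk_mul]
  congr 1
  · rw [smul_mul_smul_comm, one_mul, Units.val_mul]
  · rw [smul_mul_smul_comm, one_mul, ← Units.val_mul, mul_inv, mul_pow]

theorem zz_one : zz (1 : Kˣ) = 1 := by
  apply Subtype.ext
  show blk (d := 2) (k := 1) (((1 : Kˣ) : K) • (1 : Matrix (Fin 2) (Fin 2) K))
      ((((1 : Kˣ)⁻¹ ^ 2 : Kˣ) : K) • (1 : Matrix (Fin 1) (Fin 1) K)) = 1
  rw [inv_one, one_pow, Units.val_one, one_smul, one_smul, blk_one]

theorem zz_pow (a : Kˣ) (n : ℕ) : zz a ^ n = zz (a ^ n) := by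
  induction n with
  | zero => rw [pow_zero, pow_zero, zz_one]
  | succ n ih => rw [pow_succ, ih, pow_succ, zz_mul]

theorem zz_comm (a : Kˣ) (A : Matrix.SpecialLinearGroup (Fin 2) K) : Commute (emb A) (zz a) := by
  apply Subtype.ext
  show blk (d := 2) (k := 1) (A : Matrix (Fin 2) (Fin 2) K) 1 * blk (d := 2) (k := 1) _ _ =
    blk (d := 2) (k := 1) _ _ * blk (d := 2) (k := 1) (A : Matrix (Fin 2) (Fin 2) K) 1
  rw [← blk_mul, ← blk_mul]
  congr 1
  · rw [mul_smul_comm, smul_mul_assoc, mul_one, one_mul]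
  · rw [one_mul, mul_one]

theorem center_emb {A : Matrix.SpecialLinearGroup (Fin 2) K}
    (h : emb A ∈ Subgroup.center (Matrix.SpecialLinearGroup (Fin 3) K)) : A = 1 := by
  obtain ⟨c, -, h1⟩ := Matrix.SpecialLinearGroup.mem_center_iff.1 h
  have h2 : blk (d := 2) (k := 1) (A : Matrix (Fin 2) (Fin 2) K) (1 : Matrix (Fin 1) (Fin 1) K) =
      Matrix.scalar (Fin 3) c := h1.symm
  have h3 : c = 1 := by
    have h4 := congrFun (congrFun h2 (Fin.natAdd 2 (0 : Fin 1))) (Fin.natAdd 2 (0 : Fin 1))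
    rw [blk_natAdd, Matrix.one_apply_eq, Matrix.scalar_apply, Matrix.diagonal_apply_eq] at h4
    exact h4.symm
  subst h3
  rw [map_one] at h2
  have h4 : blk (d := 2) (k := 1) (A : Matrix (Fin 2) (Fin 2) K) (1 : Matrix (Fin 1) (Fin 1) K) =
      blk (d := 2) (k := 1) (1 : Matrix (Fin 2) (Fin 2) K) 1 := by
    rw [h2]; exact (blk_one (F := K) (d := 2) (k := 1)).symm
  exact Subtype.ext (blk_inj h4).1

theorem center_zz {a : Kˣ} (h : zz a ∈ Subgroup.center (Matrix.SpecialLinearGroup (Fin 3) K)) : a ^ 3 = 1 := by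
  obtain ⟨c, -, h1⟩ := Matrix.SpecialLinearGroup.mem_center_iff.1 h
  have h2 : blk (d := 2) (k := 1) ((a : K) • (1 : Matrix (Fin 2) (Fin 2) K))
      (((a⁻¹ ^ 2 : Kˣ) : K) • (1 : Matrix (Fin 1) (Fin 1) K)) = Matrix.scalar (Fin 3) c := h1.symm
  have h3 := congrFun (congrFun h2 (Fin.natAdd 2 (0 : Fin 1))) (Fin.natAdd 2 (0 : Fin 1))
  have h4 := congrFun (congrFun h2 (Fin.castAdd 1 (0 : Fin 2))) (Fin.castAdd 1 (0 : Fin 2))
  rw [blk_natAdd, Matrix.smul_apply, Matrix.one_apply_eq, Matrix.scalar_apply, Matrix.diagonal_apply_eq, smul_eq_mul,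
    mul_one] at h3
  rw [blk_castAdd, Matrix.smul_apply, Matrix.one_apply_eq, Matrix.scalar_apply, Matrix.diagonal_apply_eq, smul_eq_mul,
    mul_one] at h4
  have h5 : a = a⁻¹ ^ 2 := Units.ext (h4.trans h3.symm)
  calc a ^ 3 = a ^ 2 * a := by rw [pow_succ]
    _ = a ^ 2 * a⁻¹ ^ 2 := by rw [← h5]
    _ = 1 := by rw [inv_pow, mul_inv_cancel]

/-- **`PSL₃(q)`.** -/
theorem psl3 [Fintype K] {r : ℕ} (hr : r.Prime) (hrd : r ∣ Nat.card (Matrix.SpecialLinearGroup (Fin 2) K)) :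
    ∃ x z : Matrix.ProjectiveSpecialLinearGroup (Fin 3) K, orderOf x = r ∧ Commute x z ∧
      z ^ (Fintype.card K - 1) = 1 ∧ ∀ k, z ^ k = 1 → Fintype.card K - 1 ∣ 3 * k := by
  have := Fact.mk hr
  obtain ⟨A, hA⟩ := exists_prime_orderOf_dvd_card' r hrd
  obtain ⟨a, ha⟩ := IsCyclic.exists_ofOrder_eq_natCard (α := Kˣ)
  have hcard : Nat.card Kˣ = Fintype.card K - 1 := by rw [Nat.card_units, Nat.card_eq_fintype_card]
  let π : Matrix.SpecialLinearGroup (Fin 3) K →* Matrix.ProjectiveSpecialLinearGroup (Fin 3) K := QuotientGroup.mk' _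
  have hπ : ∀ y, π y = 1 ↔ y ∈ Subgroup.center (Matrix.SpecialLinearGroup (Fin 3) K) := fun y =>
    QuotientGroup.eq_one_iff y
  refine ⟨π (emb A), π (zz a), ?_, (zz_comm a A).map π, ?_, fun k hk => ?_⟩
  · refine orderOf_eq_prime ?_ fun h => ?_
    · rw [← map_pow, ← map_pow, ← hA, pow_orderOf_eq_one, map_one, map_one]
    · rw [hπ] at h
      have h1 := center_emb h
      rw [h1, orderOf_one] at hA
      exact hr.one_lt.ne hA
  · rw [← map_pow, zz_pow, ← hcard, ← ha, pow_orderOf_eq_one, zz_one, map_one]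
  · rw [← map_pow, zz_pow, hπ] at hk
    have h1 := center_zz hk
    rw [← pow_mul] at h1
    have h2 := orderOf_dvd_of_pow_eq_one h1
    rwa [ha, hcard, mul_comm] at h2

theorem dvd_sl2 [Fintype K] {r : ℕ} (hr : r.Prime) (h1 : r ∣ Fintype.card K ^ 2 - 1) (h2 : ¬ r ∣ Fintype.card K - 1) :
    r ∣ Nat.card (Matrix.SpecialLinearGroup (Fin 2) K) := by
  have h := Cfsg.Agent.S0243.result (F := K) rfl 2 (by norm_num)
  have h3 : r ∣ Nat.gcd 2 (Fintype.card K - 1) * ((Fintype.card K - 1) *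
      Nat.card (Matrix.ProjectiveSpecialLinearGroup (Fin 2) K)) := by
    rw [h, Fin.prod_univ_succ]
    simp only [Fin.val_zero, pow_zero]
    exact h1.mul_right _
  rcases hr.dvd_mul.1 h3 with h4 | h4
  · exact absurd (h4.trans (Nat.gcd_dvd_right _ _)) h2
  rcases hr.dvd_mul.1 h4 with h5 | h5
  · exact absurd h5 h2
  · refine h5.trans ?_
    rw [Subgroup.card_eq_card_quotient_mul_card_subgroup (Subgroup.center (Matrix.SpecialLinearGroup (Fin 2) K))]
    exact Dvd.intro _ rfl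

end SL

/-- the centraliser order `(q⁴ + 1)(q² - 1)` of the elements of class `8` kills `L₃(q⁴)` -/
theorem kill_psl3_big {S : Type*} [Group S] {p f r : ℕ} (hp : p.Prime) (hf : 1 ≤ f)
    (hS : IsNamed (.psl 3 (p ^ (4 * f))) S) (hr : Prim (p ^ f) 8 r)
    (hC : ∀ x : S, orderOf x = r → Nat.card ↥(Subgroup.centralizer ({x} : Set S)) ∣
      ((p ^ f) ^ 4 + 1) * ((p ^ f) ^ 2 - 1)) : False := by
  have hq : 2 ≤ p ^ f := hp.two_le.trans (Nat.le_self_pow (by omega) p)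
  obtain ⟨K, _, _, hK, ⟨e⟩⟩ := hS.real
  have hK' : Fintype.card K = (p ^ f) ^ 4 := by rw [hK, ← pow_mul, mul_comm]
  generalize p ^ f = q at *
  have h1 : r ∣ Fintype.card K ^ 2 - 1 := by
    rw [hK', ← pow_mul]
    exact hr.dvd dvd_rfl
  have h2 : ¬ r ∣ Fintype.card K - 1 := by
    rw [hK', hr.dvd_iff]
    norm_num
  obtain ⟨x, z, hx, hxz, -, hz⟩ := psl3 hr.prime (dvd_sl2 hr.prime h1 h2)
  have h3 := hC (e.symm x) (by rw [← hx]; exact MulEquiv.orderOf_eq e.symm x)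
  have h4 : e.symm z ∈ Subgroup.centralizer ({e.symm x} : Set S) :=
    Subgroup.mem_centralizer_singleton_iff.2 ((hxz.map e.symm).symm)
  have h5 : orderOf (e.symm z) ∣ (q ^ 4 + 1) * (q ^ 2 - 1) := by
    have h6 : orderOf (⟨e.symm z, h4⟩ : ↥(Subgroup.centralizer ({e.symm x} : Set S))) = orderOf (e.symm z) := by
      rw [← Subgroup.orderOf_coe]
    rw [← h6]
    exact (orderOf_dvd_natCard _).trans h3
  rw [MulEquiv.orderOf_eq] at h5
  have h6 := hz _ (orderOf_dvd_iff_pow_eq_one.1 h5)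
  rw [hK'] at h6
  obtain ⟨s, hs⟩ := exists_prim (q := q) (e := 4) hq (by norm_num) (by omega)
  have h7 : s ∣ q ^ 4 - 1 := hs.dvd dvd_rfl
  have hs5 : 4 < s := by
    have h8 : 4 ∣ s - 1 := by
      have := Fact.mk hs.prime
      have h9 : (q : ZMod s) ^ (s - 1) = 1 := ZMod.pow_card_sub_one_eq_one (by
        rw [Ne, ZMod.natCast_eq_zero_iff]; exact hs.not_dvd)
      exact (Cfsg.Agent.H56.Exc.prim_pow hs _).1 h9
    have := hs.prime.two_le
    have := Nat.le_of_dvd (by omega) h8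
    omega
  have h8 : s ∣ 3 * ((q ^ 4 + 1) * (q ^ 2 - 1)) := h7.trans h6
  rcases hs.prime.dvd_mul.1 h8 with h9 | h9
  · have := Nat.le_of_dvd (by norm_num) h9
    omega
  rcases hs.prime.dvd_mul.1 h9 with h9 | h9
  · have h10 : s ∣ 2 := by
      have h11 : q ^ 4 + 1 = (q ^ 4 - 1) + 2 := by
        have := Nat.one_le_pow 4 q (by omega)
        omega
      rw [h11] at h9
      exact (Nat.dvd_add_right h7).1 h9
    have := Nat.le_of_dvd (by norm_num) h10
    omega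
  · rw [hs.dvd_iff] at h9
    norm_num at h9

end Cfsg.Agent.H190.Cov
end

-- part: H190/Cov/K128
section
/-!
# Subgroups of `E₆(q)` and `²E₆(q)` of index prime to the classes 12, 8, with a full torus of class 12 (S2499)

* `K128_E6` : such a subgroup of `E₆(q)`, containing commuting elements of prime orders of class 12 and 3, is the whole
  group;
* `K128_TE6` : such a subgroup of `²E₆(q)`, `3 ≤ q`, containing commuting elements of prime orders of class 12 and 6, is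
  the whole group.
-/

set_option autoImplicit false

namespace Cfsg.Agent.H190.Cov

open Cfsg Cfsg.Agent.OrdDiv Cfsg.Agent.H436 Cfsg.Agent.H902 Cfsg.Agent.H290.ElReg Cfsg.Agent.H290.ElTab
  Cfsg.Agent.H56.Exc Cfsg.Agent.H325.Loc Cfsg.Agent.H915.GN Cfsg.Agent.H264.FKS Cfsg.Agent.H325.Same Cfsg.Agent.H325.IsoExc
  Cfsg.Agent.H325.IsoFree Cfsg.Agent.H563.KG Cfsg.Agent.H190.Odd

/-- commuting elements of prime orders `r`, `t` of a subgroup -/
def Com {G : Type*} [Group G] (r t : ℕ) : Prop := ∃ x z : G, orderOf x = r ∧ orderOf z = t ∧ x * z = z * x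

theorem mem_of_index {G : Type*} [Group G] [Finite G] {S : Subgroup G} [S.Normal] {x : G} {r : ℕ} (hr : r.Prime)
    (hx : orderOf x = r) (h : ¬ r ∣ S.index) : x ∈ S := by
  have h1 : orderOf ((x : G) : G ⧸ S) ∣ r := by
    rw [← hx]
    exact orderOf_map_dvd (QuotientGroup.mk' S) x
  rcases (Nat.dvd_prime hr).1 h1 with h2 | h2
  · rw [orderOf_eq_one_iff, QuotientGroup.eq_one_iff] at h2
    exact h2
  · exfalso
    apply h
    rw [← h2]
    exact orderOf_dvd_natCard _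

/-- the kill of `F₄(q)` -/
theorem kill_f4 {B : Type} [Group B] [Finite B] {S : Subgroup B} [S.Normal] {q r t e m : ℕ} (hS : IsNamed (.f4 q) S)
    (hr : Prim q 12 r) (ht : t.Prime) (ht12 : ¬ Prim q 12 t) (hC : @Com B _ r t) (hrS : ¬ r ∣ S.index)
    (hidx : S.index ∣ e * m) (htm : ¬ t ∣ e * m) : False := by
  obtain ⟨x, z, hx, hz, hxz⟩ := hC
  have hxS : x ∈ S := mem_of_index hr.prime hx hrS
  have hzS : z ∈ S := mem_of_index ht hz fun h => htm (h.trans hidx)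
  obtain ⟨K, _, _, hK, ⟨φ⟩⟩ := hS.real
  have hq1 : 1 ≤ q := by rw [← hK]; exact Fintype.card_pos
  have hm12 : ((Ph 12 q : ℕ) : ℤ) = 1 - (q : ℤ) ^ 2 + (q : ℤ) ^ 4 := by
    rw [cast_Ph12 _ hq1]; ring
  have hb : Big ↥S r (Ph 12 q) 12 := (big_F4_12 hK hm12 hr).congr φ.symm
  have h1 := hb.card ⟨x, hxS⟩ (by rw [Subgroup.orderOf_mk]; exact hx)
  have h2 : (⟨z, hzS⟩ : S) ∈ Subgroup.centralizer ({(⟨x, hxS⟩ : S)} : Set S) :=
    Subgroup.mem_centralizer_singleton_iff.2 (Subtype.ext hxz.symm)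
  have h3 : orderOf (⟨⟨z, hzS⟩, h2⟩ : ↥(Subgroup.centralizer ({(⟨x, hxS⟩ : S)} : Set S))) = t := by
    rw [← Subgroup.orderOf_coe, Subgroup.orderOf_mk, hz]
  have h4 : t ∣ Ph 12 q := by
    rw [← h3]
    exact (orderOf_dvd_natCard _).trans h1
  rw [← ncl12_eq] at h4
  exact ht12 (prim_of_dvd c12 hq1 ht h4)

theorem Prim.unique {q e e' r : ℕ} (h : Prim q e r) (h' : Prim q e' r) : e = e' :=
  Nat.dvd_antisymm ((h.dvd_iff e').1 (h'.dvd dvd_rfl)) ((h'.dvd_iff e).1 (h.dvd dvd_rfl))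

theorem prim_not_two {q e r : ℕ} (h : Prim q e r) (he : 2 ≤ e) : r ≠ 2 := by
  rintro rfl
  have := Fact.mk h.prime
  have h1 : (q : ZMod 2) ^ (2 - 1) = 1 := ZMod.pow_card_sub_one_eq_one (by
    rw [Ne, ZMod.natCast_eq_zero_iff]; exact h.not_dvd)
  have h2 := Nat.le_of_dvd (by norm_num) ((Cfsg.Agent.H56.Exc.prim_pow h _).1 h1)
  omega

/-- a prime of class 3 or 6 does not divide `8 (q⁴ + 1) (q² - 1)` -/
theorem not_dvd_M8 {q e t : ℕ} (h : Prim q e t) (he : e = 3 ∨ e = 6) : ¬ t ∣ 8 * (Ph 8 q * (q ^ 2 - 1)) := by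
  have h2 := prim_not_two h (by omega)
  have hq1 : 1 ≤ q := by
    by_contra hcon
    have h0 : q = 0 := by omega
    subst h0
    exact h.not_dvd (dvd_zero _)
  intro h1
  rcases h.prime.dvd_mul.1 h1 with h3 | h3
  · exact h2 ((Nat.prime_dvd_prime_iff_eq h.prime Nat.prime_two).1 (h.prime.dvd_of_dvd_pow (show t ∣ 2 ^ 3 from h3)))
  rcases h.prime.dvd_mul.1 h3 with h4 | h4
  · have h5 : t ∣ q ^ 8 - 1 := by
      refine h4.trans ((Ph_dvd c8 hq1))
    rw [h.dvd_iff] at h5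
    rcases he with rfl | rfl <;> norm_num at h5
  · rw [h.dvd_iff] at h4
    rcases he with rfl | rfl <;> norm_num at h4

/-- **`E₆(q)`, the classes 12, 8.** -/
theorem K128_E6 (tb : OrderTable.{0}) (hcyc : CycFixSolv.{0}) (hcf : CF) {F : Type} [Field F] [Fintype F]
    (B : Subgroup ↥(Lie.chevE6.group F)) (hoff : Off (Fintype.card F) [12, 8] B) {r t : ℕ}
    (hr : Prim (Fintype.card F) 12 r) (htt : Prim (Fintype.card F) 3 t) (hcom : @Com ↥B _ r t) : B = ⊤ := by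
  obtain ⟨p, f, _, hp, hf, hq⟩ := exists_pf F
  have := Fact.mk hp
  have hfin : Finite ↥(Lie.chevE6.group F) := inferInstance
  have hT := named_e6 (F := F) tb
  rw [hq] at hT hoff hr htt
  have hq2 : 2 ≤ p ^ f := hp.two_le.trans (Nat.le_self_pow (by omega) p)
  have hq1 : 1 ≤ p ^ f := by omega
  have hOL : num (.e6 (p ^ f)) = OL .E6 (p ^ f) := rfl
  have hdT : Nat.card ↥(Lie.chevE6.group F) ∣ OL .E6 (p ^ f) := by
    rw [← hOL, ← hT.eq]
    exact Dvd.intro_left _ rfl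
  have hmem : ∀ c ∈ [12, 8], c = 12 ∨ c = 8 := by decide
  have hcl : ∀ c ∈ [12, 8], Cls c := by
    intro c hc
    have := hmem c hc
    unfold Cls
    omega
  have h7 : ∀ c ∈ [12, 8], 7 ≤ c := by decide
  have hnum : ∀ c ∈ [12, 8], ncl c (p ^ f) ∣ num (.e6 (p ^ f)) := by
    intro c hc
    have h1 : ∀ d ∈ [2, 5, 6, 8, 9, 12], (p ^ f) ^ d - 1 ∣ num (.e6 (p ^ f)) := by
      intro d hd
      show _ ∣ (p ^ f) ^ 36 * (((p ^ f) ^ 2 - 1) * ((p ^ f) ^ 5 - 1) * ((p ^ f) ^ 6 - 1) *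
        ((p ^ f) ^ 8 - 1) * ((p ^ f) ^ 9 - 1) * ((p ^ f) ^ 12 - 1))
      refine Dvd.dvd.mul_left ?_ _
      have h1 := List.dvd_prod (List.mem_map_of_mem (f := fun d => (p ^ f) ^ d - 1) hd)
      simp only [List.map_cons, List.map_nil, List.prod_cons, List.prod_nil, mul_one] at h1
      simp only [mul_assoc]
      exact h1
    refine (ncl_dvd_Ph c _).trans ((Ph_dvd (hcl c hc) hq1).trans (h1 c ?_))
    rcases hmem c hc with rfl | rfl <;> decide
  have hnT : ∀ c ∈ [12, 8], ncl c (p ^ f) ∣ Nat.card ↥(Lie.chevE6.group F) := fun c hc =>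
    ncl_dvd_card (hcl c hc) (h7 c hc) hq2 (den_pos hT.cond)
      ((Nat.gcd_le_left _ (by norm_num)).trans (by norm_num)) hT.eq (hnum c hc)
  have h12 : M8E (p ^ f) 12 = Ph 12 (p ^ f) * ((p ^ f) ^ 2 + p ^ f + 1) := rfl
  have h8 : M8E (p ^ f) 8 = Ph 8 (p ^ f) * ((p ^ f) ^ 2 - 1) := rfl
  have hm12 : ((Ph 12 (p ^ f) * ((p ^ f) ^ 2 + p ^ f + 1) : ℕ) : ℤ) =
      (1 - ((p ^ f : ℕ) : ℤ) ^ 2 + ((p ^ f : ℕ) : ℤ) ^ 4) * (1 + ((p ^ f : ℕ) : ℤ) + ((p ^ f : ℕ) : ℤ) ^ 2) := by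
    rw [Nat.cast_mul, cast_Ph12 _ hq1]; push_cast; ring
  have hm8 : ((Ph 8 (p ^ f) * ((p ^ f) ^ 2 - 1) : ℕ) : ℤ) =
      (1 + ((p ^ f : ℕ) : ℤ) ^ 4) * (((p ^ f : ℕ) : ℤ) ^ 2 - 1) := by
    rw [Nat.cast_mul, cast_Ph8, cast_sub_one hq1]; ring
  have hbig : ∀ c ∈ [12, 8], ∀ r, Prim (p ^ f) c r → Big ↥(Lie.chevE6.group F) r (M8E (p ^ f) c) c := by
    intro c hc r hr
    rcases hmem c hc with rfl | rfl
    · exact big_E6_12 hq hm12 hr
    · exact big_E6_8 hq hm8 hr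
  have hM : ∀ c ∈ [12, 8], M8E (p ^ f) c ∣ (p ^ f) ^ c - 1 := by
    intro c hc
    rcases hmem c hc with rfl | rfl
    · refine dvd_of_cast (c := (((p ^ f : ℕ) : ℤ) ^ 2 + 1) * (((p ^ f : ℕ) : ℤ) ^ 2 - 1) * (((p ^ f : ℕ) : ℤ) ^ 2 - (p ^ f : ℕ) + 1)) ?_
      rw [h12, cast_sub_one hq1, hm12]
      ring
    · refine dvd_of_cast (c := (((p ^ f : ℕ) : ℤ) ^ 2 + 1)) ?_
      rw [h8, cast_sub_one hq1, hm8]
      ring
  obtain ⟨r₀, hr₀⟩ := exists_prim hq2 (show 3 ≤ 12 by norm_num) (by norm_num)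
  have hpiso : PIso p r₀ ↥(Lie.chevE6.group F) := piso_E6_12 (F := F) (by rw [hq]; exact hr₀)
  have ho12 : Ord ↥(Lie.chevE6.group F) (p ^ f) 12 (Ph 12 (p ^ f) * ((p ^ f) ^ 2 + p ^ f + 1)) :=
    fun r hr x hx => (big_E6_12 hq hm12 hr).card x hx
  have ho8 : Ord ↥(Lie.chevE6.group F) (p ^ f) 8 (Ph 8 (p ^ f) * ((p ^ f) ^ 2 - 1)) :=
    fun r hr x hx => (big_E6_8 hq hm8 hr).card x hx
  have hdB : Nat.card ↥B ∣ OL .E6 (p ^ f) := (Subgroup.card_subgroup_dvd_card B).trans hdT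
  obtain ⟨S, hSn, hSs, hSna, hnS, hidx, hbS, g, hg, hch⟩ := core_kill tb hcyc hcf tbl_E6_8 (fam := [12, 8])
    (fun c hc => hc) (M := M8E (p ^ f)) (E := fun c => c)
    (e := 12) (e' := 8) (by decide) (by decide) (dist_12_8 hq2) hcl h7 hp hf (F := F) fth_E6 hdT
    hbig hM
    (fun c hc s hs hd => le_seven' hs (n := c) (by have := hmem c hc; omega) hd)
    (by decide) hnT (c₀ := 12) (by decide) hr₀ hpiso hoff (fun t ht htp htn htB => by
      refine good_e6c (by norm_num) hq2 (ho12.sub B) ?_ (ho8.sub B) ?_ hdB ?_ ?_ ht ?_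
        (htn 12 (by decide)) (htn 8 (by decide)) htB
      · intro h3 r hr x hx h
        exact (exact_e6_12 hq h3 hr (x := (x : ↥(Lie.chevE6.group F))) (by rw [Subgroup.orderOf_coe]; exact hx)).2
          (h.trans (card_centralizer_sub B x))
      · intro r hr x hx
        exact ((hbig 8 (by decide) r hr).subgroup B).cyc x hx
      · exact hoff.ncl_dvd (by decide) c12 hq1 (hnT 12 (by decide))
      · exact hoff.ncl_dvd (by decide) c8 hq1 (hnT 8 (by decide))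
      · intro h
        exact htp ((Nat.prime_dvd_prime_iff_eq ht hp).1 (ht.dvd_of_dvd_pow h)))
  have hdS : Nat.card S ∣ num (.e6 (p ^ f)) := IsNamed.card_dvd hT S
  rcases charp_e6_812 hp hf hg.cond hch hg.eq hdS (fun s hs _ => (hbS 8 (by decide) s hs).2.2)
    (fun s hs _ => (hbS 12 (by decide) s hs).2.2) with rfl | rfl | rfl
  · exact eq_top_of_name hT hg
  · exfalso
    exact kill_f4 hg hr htt.prime (fun h => absurd (Prim.unique h htt) (by norm_num)) hcom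
      (hbS 12 (by decide) r hr).2.1 (hidx 8 (by decide)) (not_dvd_M8 htt (Or.inl rfl))
  · exfalso
    obtain ⟨s, hs⟩ := exists_prim (q := p ^ f) (e := 8) hq2 (by norm_num) (by omega)
    exact kill_psl3_big hp hf hg hs fun x hx => (hbS 8 (by decide) s hs).1.card x hx

/-- **`²E₆(q)`, `3 ≤ q`, the classes 12, 8.** -/
theorem K128_TE6 (tb : OrderTable.{0}) (hcyc : CycFixSolv.{0}) (hcf : CF) {F : Type} [Field F] [Fintype F] {q : ℕ}
    (hq : IsPrimePow q) (hK : Fintype.card F = q ^ 2) (hq3 : 3 ≤ q)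
    (B : Subgroup ↥(Lie.twistedE6 F q)) (hoff : Off q [12, 8] B) {r t : ℕ}
    (hr : Prim q 12 r) (htt : Prim q 6 t) (hcom : @Com ↥B _ r t) : B = ⊤ := by
  obtain ⟨p, f, _, hp, hf, rfl⟩ := exists_pf' hq hK
  have := Fact.mk hp
  have hfin : Finite ↥(Lie.twistedE6 F (p ^ f)) := inferInstance
  have hT := named_te6 (F := F) tb hq hK
  have hq2 : 2 ≤ p ^ f := hp.two_le.trans (Nat.le_self_pow (by omega) p)
  have hq1 : 1 ≤ p ^ f := by omega
  have hOL : num (.te6 (p ^ f)) = OL .TE6 (p ^ f) := rfl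
  have hdT : Nat.card ↥(Lie.twistedE6 F (p ^ f)) ∣ OL .TE6 (p ^ f) := by
    rw [← hOL, ← hT.eq]
    exact Dvd.intro_left _ rfl
  have hmem : ∀ c ∈ [12, 8], c = 12 ∨ c = 8 := by decide
  have hcl : ∀ c ∈ [12, 8], Cls c := by
    intro c hc
    have := hmem c hc
    unfold Cls
    omega
  have h7 : ∀ c ∈ [12, 8], 7 ≤ c := by decide
  have hnum : ∀ c ∈ [12, 8], ncl c (p ^ f) ∣ num (.te6 (p ^ f)) := by
    intro c hc
    have h1 : ∀ d ∈ [8, 12], (p ^ f) ^ d - 1 ∣ num (.te6 (p ^ f)) := by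
      intro d hd
      show _ ∣ (p ^ f) ^ 36 * (((p ^ f) ^ 2 - 1) * ((p ^ f) ^ 5 + 1) * ((p ^ f) ^ 6 - 1) *
        ((p ^ f) ^ 8 - 1) * ((p ^ f) ^ 9 + 1) * ((p ^ f) ^ 12 - 1))
      refine Dvd.dvd.mul_left ?_ _
      have hd' : d = 8 ∨ d = 12 := by simpa using hd
      rcases hd' with rfl | rfl
      · exact (Dvd.intro_left _ rfl).trans ((Dvd.intro _ rfl).trans (Dvd.intro _ rfl))
      · exact Dvd.intro_left _ rfl
    refine (ncl_dvd_Ph c _).trans ((Ph_dvd (hcl c hc) hq1).trans (h1 c ?_))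
    rcases hmem c hc with rfl | rfl <;> decide
  have hnT : ∀ c ∈ [12, 8], ncl c (p ^ f) ∣ Nat.card ↥(Lie.twistedE6 F (p ^ f)) := fun c hc =>
    ncl_dvd_card (hcl c hc) (h7 c hc) hq2 (den_pos hT.cond)
      ((Nat.gcd_le_left _ (by norm_num)).trans (by norm_num)) hT.eq (hnum c hc)
  have hle : p ^ f ≤ (p ^ f) ^ 2 := Nat.le_self_pow (by norm_num) _
  have h12 : M8T (p ^ f) 12 = Ph 12 (p ^ f) * ((p ^ f) ^ 2 - p ^ f + 1) := rfl
  have h8 : M8T (p ^ f) 8 = Ph 8 (p ^ f) * ((p ^ f) ^ 2 - 1) := rfl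
  have hm12 : ((Ph 12 (p ^ f) * ((p ^ f) ^ 2 - p ^ f + 1) : ℕ) : ℤ) =
      (1 - ((p ^ f : ℕ) : ℤ) ^ 2 + ((p ^ f : ℕ) : ℤ) ^ 4) * (1 - ((p ^ f : ℕ) : ℤ) + ((p ^ f : ℕ) : ℤ) ^ 2) := by
    rw [Nat.cast_mul, cast_Ph12 _ hq1, Nat.cast_add, Nat.cast_sub hle]; push_cast; ring
  have hm8 : ((Ph 8 (p ^ f) * ((p ^ f) ^ 2 - 1) : ℕ) : ℤ) =
      (1 + ((p ^ f : ℕ) : ℤ) ^ 4) * (((p ^ f : ℕ) : ℤ) ^ 2 - 1) := by
    rw [Nat.cast_mul, cast_Ph8, cast_sub_one hq1]; ring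
  have hbig : ∀ c ∈ [12, 8], ∀ r, Prim (p ^ f) c r → Big ↥(Lie.twistedE6 F (p ^ f)) r (M8T (p ^ f) c) c := by
    intro c hc r hr
    rcases hmem c hc with rfl | rfl
    · exact big_TE6_12 hq hK hm12 hr
    · exact big_TE6_8 hq hK hm8 hr
  have hM : ∀ c ∈ [12, 8], M8T (p ^ f) c ∣ (p ^ f) ^ c - 1 := by
    intro c hc
    rcases hmem c hc with rfl | rfl
    · refine dvd_of_cast (c := (((p ^ f : ℕ) : ℤ) ^ 2 + 1) * (((p ^ f : ℕ) : ℤ) ^ 2 - 1) * (((p ^ f : ℕ) : ℤ) ^ 2 + (p ^ f : ℕ) + 1)) ?_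
      rw [h12, cast_sub_one hq1, hm12]
      ring
    · refine dvd_of_cast (c := (((p ^ f : ℕ) : ℤ) ^ 2 + 1)) ?_
      rw [h8, cast_sub_one hq1, hm8]
      ring
  obtain ⟨r₀, hr₀⟩ := exists_prim hq2 (show 3 ≤ 12 by norm_num) (by norm_num)
  have hpiso : PIso p r₀ ↥(Lie.twistedE6 F (p ^ f)) := piso_twE6 hq hK (Or.inl rfl) hr₀
  have ho12 : Ord ↥(Lie.twistedE6 F (p ^ f)) (p ^ f) 12 (Ph 12 (p ^ f) * ((p ^ f) ^ 2 - p ^ f + 1)) :=
    fun r hr x hx => (big_TE6_12 hq hK hm12 hr).card x hx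
  have ho8 : Ord ↥(Lie.twistedE6 F (p ^ f)) (p ^ f) 8 (Ph 8 (p ^ f) * ((p ^ f) ^ 2 - 1)) :=
    fun r hr x hx => (big_TE6_8 hq hK hm8 hr).card x hx
  have hdB : Nat.card ↥B ∣ OL .TE6 (p ^ f) := (Subgroup.card_subgroup_dvd_card B).trans hdT
  obtain ⟨S, hSn, hSs, hSna, hnS, hidx, hbS, g, hg, hch⟩ := core_kill tb hcyc hcf tbl_TE6_8 (fam := [12, 8])
    (fun c hc => hc) (M := M8T (p ^ f)) (E := fun c => c)
    (e := 12) (e' := 8) (by decide) (by decide) (dist_12_8 hq2) hcl h7 hp hf (F := F) (fth_TE6 _) hdT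
    hbig hM
    (fun c hc s hs hd => le_seven' hs (n := c) (by have := hmem c hc; omega) hd)
    (by decide) hnT (c₀ := 12) (by decide) hr₀ hpiso hoff (fun t ht htp htn htB => by
      refine good_te6c (by norm_num) hq3 (ho12.sub B) ?_ (ho8.sub B) ?_ hdB ?_ ?_ ht ?_
        (htn 12 (by decide)) (htn 8 (by decide)) htB
      · intro h3 r hr x hx h
        exact (exact_te6_12 hq hK h3 hr (x := (x : ↥(Lie.twistedE6 F (p ^ f))))
          (by rw [Subgroup.orderOf_coe]; exact hx)).2 (h.trans (card_centralizer_sub B x))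
      · intro r hr x hx
        exact ((hbig 8 (by decide) r hr).subgroup B).cyc x hx
      · exact hoff.ncl_dvd (by decide) c12 hq1 (hnT 12 (by decide))
      · exact hoff.ncl_dvd (by decide) c8 hq1 (hnT 8 (by decide))
      · intro h
        exact htp ((Nat.prime_dvd_prime_iff_eq ht hp).1 (ht.dvd_of_dvd_pow h)))
  have hdS : Nat.card S ∣ num (.te6 (p ^ f)) := IsNamed.card_dvd hT S
  rcases charp_te6_812 hp hf hg.cond hch hg.eq hdS (fun s hs _ => (hbS 8 (by decide) s hs).2.2)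
    (fun s hs _ => (hbS 12 (by decide) s hs).2.2) with rfl | rfl | rfl
  · exact eq_top_of_name hT hg
  · exfalso
    exact kill_f4 hg hr htt.prime (fun h => absurd (Prim.unique h htt) (by norm_num)) hcom
      (hbS 12 (by decide) r hr).2.1 (hidx 8 (by decide)) (not_dvd_M8 htt (Or.inr rfl))
  · exfalso
    obtain ⟨s, hs⟩ := exists_prim (q := p ^ f) (e := 8) hq2 (by norm_num) (by omega)
    exact kill_psl3_big hp hf hg hs fun x hx => (hbS 8 (by decide) s hs).1.card x hx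

end Cfsg.Agent.H190.Cov
end
end

-- part: H290/Cov/KPsl
section
set_option linter.all false
open scoped Cfsg.Agent.FastGrp

/-!
# Elements of `PSL_n(K)` fixing vectors normalise `p`-subgroups (helper290)

`not_piso_psl`: a prime dividing the order of `PSL_n(K)` and not `|K|^n - 1` is not isolated.
-/

set_option autoImplicit false

namespace Cfsg.Agent.H290.Cov30

open Cfsg Cfsg.Agent.H325.Loc Cfsg.Agent.H325.Same Matrix

variable {K : Type*} [Field K] {n : ℕ}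

/-- the transvection `x ↦ x + (w ⬝ x) u` -/
def tv (u w : Fin n → K) (h : w ⬝ᵥ u = 0) : SpecialLinearGroup (Fin n) K :=
  ⟨1 + vecMulVec u w, by
    rw [vecMulVec_eq Unit, det_one_add_replicateCol_mul_replicateRow, h, add_zero]⟩

theorem vmv_mul (u w w' : Fin n → K) (h : w ⬝ᵥ u = 0) : vecMulVec u w * vecMulVec u w' = 0 := by
  rw [vecMulVec_mul_vecMulVec, h, zero_smul, vecMulVec_zero]

/-- the vectors orthogonal to `u` -/
def Ort (u : Fin n → K) : AddSubgroup (Fin n → K) where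
  carrier := {w | w ⬝ᵥ u = 0}
  zero_mem' := by simp
  add_mem' := by
    intro a b ha hb
    show (a + b) ⬝ᵥ u = 0
    rw [add_dotProduct, show a ⬝ᵥ u = 0 from ha, show b ⬝ᵥ u = 0 from hb, add_zero]
  neg_mem' := by
    intro a ha
    show (-a) ⬝ᵥ u = 0
    rw [neg_dotProduct, show a ⬝ᵥ u = 0 from ha, neg_zero]

/-- the homomorphism -/
def TV (u : Fin n → K) : Multiplicative (Ort u) →* SpecialLinearGroup (Fin n) K where
  toFun w := tv u (w.toAdd : Fin n → K) w.toAdd.2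
  map_one' := by
    apply Subtype.ext
    show 1 + vecMulVec u (0 : Fin n → K) = 1
    rw [vecMulVec_zero, add_zero]
  map_mul' w w' := by
    apply Subtype.ext
    show 1 + vecMulVec u ((w.toAdd : Fin n → K) + (w'.toAdd : Fin n → K)) =
      (1 + vecMulVec u (w.toAdd : Fin n → K)) * (1 + vecMulVec u (w'.toAdd : Fin n → K))
    rw [mul_add, mul_one, add_mul, one_mul, vmv_mul u _ _ w.toAdd.2, add_zero, vecMulVec_add, add_assoc]

theorem pgroup_ort {p : ℕ} [Fact p.Prime] [CharP K p] (u : Fin n → K) : IsPGroup p (Multiplicative (Ort u)) := by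
  intro g
  refine ⟨1, ?_⟩
  rw [pow_one]
  apply Multiplicative.toAdd.injective
  rw [toAdd_pow, toAdd_one]
  apply Subtype.ext
  funext i
  show (p • (g.toAdd : Fin n → K)) i = 0
  rw [Pi.smul_apply, nsmul_eq_mul, CharP.cast_eq_zero, zero_mul]

theorem c_mul (a b : SpecialLinearGroup (Fin n) K) : (a * b).1 = a.1 * b.1 := rfl
theorem c_inv_mul (y : SpecialLinearGroup (Fin n) K) : (y⁻¹).1 * y.1 = 1 := by
  rw [← c_mul, inv_mul_cancel]; rfl

/-- an `r`-element fixes a nonzero vector -/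
theorem exists_fix [Fintype K] {r k : ℕ} [Fact r.Prime] {y : SpecialLinearGroup (Fin n) K} (hk : y ^ r ^ k = 1)
    (hc : ¬ r ∣ Fintype.card K ^ n - 1) : ∃ u : Fin n → K, u ≠ 0 ∧ y.1 *ᵥ u = u := by
  classical
  let f : Function.End (Fin n → K) := fun v => y.1 *ᵥ v
  have hfk : ∀ (k : ℕ) (v : Fin n → K), (f ^ k) v = (y ^ k).1 *ᵥ v := by
    intro k
    induction k with
    | zero =>
      intro v
      show v = (1 : Matrix (Fin n) (Fin n) K) *ᵥ v
      rw [one_mulVec]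
    | succ k ih =>
      intro v
      have h1 : (f ^ (k + 1)) v = f ((f ^ k) v) := by rw [pow_succ']; rfl
      have h2 : (y ^ (k + 1)).1 = y.1 * (y ^ k).1 := by rw [pow_succ']; rfl
      rw [h1, h2, ← mulVec_mulVec, ← ih]
  have hf : f ^ r ^ k = 1 := by
    funext w
    rw [hfk, hk]
    show (1 : Matrix (Fin n) (Fin n) K) *ᵥ w = w
    rw [one_mulVec]
  have h1 := Equiv.Perm.card_fixedPoints_modEq (p := r) (n := k) hf
  by_contra hcon
  push Not at hcon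
  have h2 : Fintype.card (Function.fixedPoints f) = 1 := by
    rw [Fintype.card_eq_one_iff]
    refine ⟨⟨0, mulVec_zero _⟩, ?_⟩
    rintro ⟨v, hv⟩
    apply Subtype.ext
    by_contra hv0
    exact hcon v hv0 hv
  rw [h2] at h1
  apply hc
  have h3 : Fintype.card (Fin n → K) = Fintype.card K ^ n := by
    rw [Fintype.card_fun, Fintype.card_fin]
  rw [h3] at h1
  exact (Nat.modEq_iff_dvd' (Nat.one_le_pow _ _ Fintype.card_pos)).1 h1.symm

/-- **A prime dividing `|PSL_n(K)|` and not `|K|^n - 1` is not isolated.** -/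
theorem not_piso_psl [Finite K] (hn : 2 ≤ n) {p r : ℕ} [hpf : Fact p.Prime] [CharP K p] (hr : r.Prime)
    (hd : r ∣ Nat.card (ProjectiveSpecialLinearGroup (Fin n) K)) (hc : ¬ r ∣ Nat.card K ^ n - 1) :
    ¬ PIso p r (ProjectiveSpecialLinearGroup (Fin n) K) := by
  intro hP
  have : Fact r.Prime := ⟨hr⟩
  have := Fintype.ofFinite K
  let φ : SpecialLinearGroup (Fin n) K →* ProjectiveSpecialLinearGroup (Fin n) K := QuotientGroup.mk' _
  obtain ⟨y, k, hk, hy⟩ := exists_lift hr (φ := φ) (QuotientGroup.mk'_surjective _) hd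
  obtain ⟨u, hu0, hu⟩ := exists_fix hk (by rwa [Nat.card_eq_fintype_card] at hc)
  obtain ⟨i, hi⟩ : ∃ i, u i ≠ 0 := by
    by_contra h
    push Not at h
    exact hu0 (funext h)
  obtain ⟨j, hji⟩ : ∃ j : Fin n, j ≠ i := by
    have : Nontrivial (Fin n) := Fin.nontrivial_iff_two_le.2 hn
    exact exists_ne i
  -- a nonzero vector orthogonal to `u`
  let w : Fin n → K := Pi.single i (u j) - Pi.single j (u i)
  have hwu : w ⬝ᵥ u = 0 := by
    show (Pi.single i (u j) - Pi.single j (u i)) ⬝ᵥ u = 0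
    rw [sub_dotProduct, single_dotProduct, single_dotProduct, mul_comm, sub_self]
  have hwj : w j ≠ 0 := by
    show (Pi.single i (u j) - Pi.single j (u i) : Fin n → K) j ≠ 0
    rw [Pi.sub_apply, Pi.single_eq_of_ne hji, Pi.single_eq_same, zero_sub]
    exact neg_ne_zero.2 hi
  refine kill_hom (p := p) (r := r) (pgroup_ort u) φ (TV u) y hy (v := Multiplicative.ofAdd ⟨w, hwu⟩) ?_ ?_ hP
  · intro h
    have h1 : TV u (Multiplicative.ofAdd ⟨w, hwu⟩) ∈ Subgroup.center (SpecialLinearGroup (Fin n) K) :=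
      (QuotientGroup.eq_one_iff _).1 h
    have h2 := offdiag_zero h1 hji.symm
    have h3 : (1 + vecMulVec u w : Matrix (Fin n) (Fin n) K) i j = 0 := h2
    rw [Matrix.add_apply, one_apply_ne hji.symm, vecMulVec_apply, zero_add] at h3
    exact mul_ne_zero hi hwj h3
  · intro w'
    have hinv : (y⁻¹).1 *ᵥ u = u := by
      conv_lhs => rw [← hu]
      rw [mulVec_mulVec, c_inv_mul, one_mulVec]
    have hmem : ((w'.toAdd : Fin n → K) ᵥ* (y⁻¹).1) ⬝ᵥ u = 0 := by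
      rw [← dotProduct_mulVec, hinv]
      exact w'.toAdd.2
    refine ⟨Multiplicative.ofAdd ⟨_, hmem⟩, ?_⟩
    apply Subtype.ext
    show y.1 * (1 + vecMulVec u (w'.toAdd : Fin n → K)) =
      (1 + vecMulVec u ((w'.toAdd : Fin n → K) ᵥ* (y⁻¹).1)) * y.1
    rw [mul_add, mul_one, add_mul, one_mul, mul_vecMulVec, hu, vecMulVec_mul, vecMul_vecMul, c_inv_mul, vecMul_one]

end Cfsg.Agent.H290.Cov30
end

-- part: H290/Cov/KE8
section
prune_inst 0xe42000007100000000000012400002044800000000200000f8a00104090fd622800220004a8008000002a08010000000000000100000000000000000000001208021160611150d0c820001800004000000000000000000000000000000041000000000000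
set_option linter.all false
open scoped Cfsg.Agent.FastGrp

-- part: H290/Cov/N30
section
/-!
# The cyclotomic parts `ncl e q`, `e = 20, 24, 30` (helper290, after helper563's `KG.Ncl`)
-/

set_option autoImplicit false

namespace Cfsg.Agent.H290.Cov30

open Cfsg.Agent.H436 (Prim)
open Cfsg.Agent.H563.KG (prim_mk pow_le_pow' zmod_of_dvd)

/-- the cyclotomic numbers -/
def Ph : ℕ → ℕ → ℕ
  | 20, q => (q ^ 8 + q ^ 4 + 1) - (q ^ 6 + q ^ 2)
  | 24, q => (q ^ 8 + 1) - q ^ 4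
  | 30, q => (q ^ 8 + q ^ 7 + q + 1) - (q ^ 5 + q ^ 4 + q ^ 3)
  | _, _ => 1

/-- the possible common prime divisor with `e` -/
def cc : ℕ → ℕ
  | 20 => 5
  | _ => 1

/-- the part of the cyclotomic number prime to `e` -/
def ncl (e q : ℕ) : ℕ := Ph e q / Nat.gcd (cc e) (Ph e q)

variable {q r : ℕ}

theorem cast_Ph20 (R : Type*) [CommRing R] (hq : 1 ≤ q) :
    ((Ph 20 q : ℕ) : R) = (q : R) ^ 8 - (q : R) ^ 6 + (q : R) ^ 4 - (q : R) ^ 2 + 1 := by
  simp only [Ph]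
  have h1 := pow_le_pow' hq (show 6 ≤ 8 by norm_num)
  have h2 := pow_le_pow' hq (show 2 ≤ 4 by norm_num)
  rw [Nat.cast_sub (by omega)]
  push_cast
  ring

theorem cast_Ph24 (R : Type*) [CommRing R] (hq : 1 ≤ q) : ((Ph 24 q : ℕ) : R) = (q : R) ^ 8 - (q : R) ^ 4 + 1 := by
  simp only [Ph]
  have h1 := pow_le_pow' hq (show 4 ≤ 8 by norm_num)
  rw [Nat.cast_sub (by omega)]
  push_cast
  ring

theorem le30 (hq : 1 ≤ q) : q ^ 5 + q ^ 4 + q ^ 3 ≤ q ^ 8 + q ^ 7 + q := by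
  rcases eq_or_lt_of_le hq with rfl | h2
  · norm_num
  · have h1 : 2 * q ^ 5 ≤ q ^ 7 := by
      have : q ^ 7 = q ^ 2 * q ^ 5 := by ring
      rw [this]
      exact Nat.mul_le_mul_right _ (by nlinarith)
    have h3 := pow_le_pow' hq (show 4 ≤ 5 by norm_num)
    have h4 := pow_le_pow' hq (show 3 ≤ 8 by norm_num)
    omega

theorem cast_Ph30 (R : Type*) [CommRing R] (hq : 1 ≤ q) :
    ((Ph 30 q : ℕ) : R) = (q : R) ^ 8 + (q : R) ^ 7 - (q : R) ^ 5 - (q : R) ^ 4 - (q : R) ^ 3 + (q : R) + 1 := by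
  simp only [Ph]
  have h1 := le30 hq
  rw [Nat.cast_sub (by omega)]
  push_cast
  ring

/-- the classes -/
def Cls (e : ℕ) : Prop := e = 20 ∨ e = 24 ∨ e = 30

theorem Cls.ge {e : ℕ} (h : Cls e) : 7 ≤ e := by
  unfold Cls at h
  omega

theorem Ph_pos (e : ℕ) (hq : 1 ≤ q) : 0 < Ph e q := by
  have h5 := pow_le_pow' hq (show 6 ≤ 8 by norm_num)
  have h6 := pow_le_pow' hq (show 2 ≤ 4 by norm_num)
  have h7 := pow_le_pow' hq (show 4 ≤ 8 by norm_num)
  have h8 := le30 hq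
  unfold Ph
  split <;> omega

/-- `cc e ^ 2` does not divide `Ph e q` -/
theorem not_sq_dvd {e : ℕ} (he : Cls e) (hq : 1 ≤ q) (hc : cc e ≠ 1) : ¬ cc e ^ 2 ∣ Ph e q := by
  intro h
  rcases he with rfl | rfl | rfl
  · have h1 : ((Ph 20 q : ℕ) : ZMod 25) = 0 := zmod_of_dvd _ h
    rw [cast_Ph20 _ hq] at h1
    revert h1; generalize (q : ZMod 25) = x; revert x; decide +kernel
  · exact hc rfl
  · exact hc rfl

theorem cc_prime {e : ℕ} (hc : cc e ≠ 1) : (cc e).Prime := by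
  unfold cc at hc ⊢
  split at hc <;> first | exact absurd rfl hc | norm_num

theorem ncl_mul (e q : ℕ) : ncl e q * Nat.gcd (cc e) (Ph e q) = Ph e q :=
  Nat.div_mul_cancel (Nat.gcd_dvd_right _ _)

theorem ncl_dvd_Ph (e q : ℕ) : ncl e q ∣ Ph e q := Dvd.intro _ (ncl_mul e q)

theorem ncl_pos (e : ℕ) (hq : 1 ≤ q) : 0 < ncl e q := Nat.pos_of_dvd_of_pos (ncl_dvd_Ph e q) (Ph_pos e hq)

/-- `ncl e q` is prime to `cc e` -/
theorem not_dvd_ncl {e : ℕ} (he : Cls e) (hq : 1 ≤ q) (hc : cc e ≠ 1) : ¬ cc e ∣ ncl e q := by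
  intro h
  have h1 : cc e ∣ Nat.gcd (cc e) (Ph e q) := Nat.dvd_gcd dvd_rfl (h.trans (ncl_dvd_Ph e q))
  apply not_sq_dvd he hq hc
  rw [← ncl_mul e q, pow_two]
  exact mul_dvd_mul h h1

theorem Ph_le (e q : ℕ) (hc : cc e ≠ 0) : Ph e q ≤ ncl e q * cc e := by
  rw [← ncl_mul e q]
  exact Nat.mul_le_mul_left _ (Nat.gcd_le_left _ (Nat.pos_of_ne_zero hc))

theorem dvd_thirty {s : ℕ} (hs : s.Prime) (h : s ∣ 30) : s = 2 ∨ s = 3 ∨ s = 5 := by
  rw [show 30 = 2 * 3 * 5 by norm_num] at h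
  rcases hs.dvd_mul.1 h with h | h
  · rcases hs.dvd_mul.1 h with h | h
    · exact Or.inl ((Nat.prime_dvd_prime_iff_eq hs Nat.prime_two).1 h)
    · exact Or.inr (Or.inl ((Nat.prime_dvd_prime_iff_eq hs Nat.prime_three).1 h))
  · exact Or.inr (Or.inr ((Nat.prime_dvd_prime_iff_eq hs (by norm_num)).1 h))

/-- **The prime divisors of `ncl e q` are primitive.** -/
theorem prim_of_dvd {e : ℕ} (he : Cls e) (hq : 1 ≤ q) (hr : r.Prime) (h : r ∣ ncl e q) : Prim q e r := by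
  have hF := Fact.mk hr
  have hP := h.trans (ncl_dvd_Ph e q)
  have h0 := zmod_of_dvd _ hP
  have hcc : cc e ≠ 1 → r ≠ cc e := by
    rintro hc rfl
    exact not_dvd_ncl he hq hc h
  have key : ∀ c : ℕ, c.Prime → ((c : ℕ) : ZMod r) = 0 → r = c := fun c hc hz =>
    (Nat.prime_dvd_prime_iff_eq hr hc).1 ((ZMod.natCast_eq_zero_iff c r).1 hz)
  rcases he with rfl | rfl | rfl
  · rw [cast_Ph20 _ hq] at h0
    refine prim_mk hr hq (by norm_num) (by
      linear_combination ((q : ZMod r) ^ 10 - 1) * ((q : ZMod r) ^ 2 + 1) * h0) fun s hs hs7 => ?_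
    have hs3 : s = 2 ∨ s = 5 := by
      rw [show 20 = 2 ^ 2 * 5 by norm_num] at hs7
      rcases hs.dvd_mul.1 hs7 with h | h
      · exact Or.inl ((Nat.prime_dvd_prime_iff_eq hs Nat.prime_two).1 (hs.dvd_of_dvd_pow h))
      · exact Or.inr ((Nat.prime_dvd_prime_iff_eq hs (by norm_num)).1 h)
    rcases hs3 with rfl | rfl
    · intro h1
      rw [show 20 / 2 = 10 by norm_num] at h1
      have h2 : r = 2 := key 2 Nat.prime_two (by
        push_cast; linear_combination ((q : ZMod r) ^ 2 + 1) * h0 - h1)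
      subst h2
      revert h0; generalize (q : ZMod 2) = x; revert x; decide +kernel
    · intro h1
      rw [show 20 / 5 = 4 by norm_num] at h1
      have h2 : 2 * (q : ZMod r) ^ 2 = 3 := by
        linear_combination -h0 + ((q : ZMod r) ^ 4 - (q : ZMod r) ^ 2 + 2) * h1
      exact hcc (by decide) (key 5 (by norm_num) (by
        push_cast; linear_combination 4 * h1 - (2 * (q : ZMod r) ^ 2 + 3) * h2))
  · rw [cast_Ph24 _ hq] at h0
    refine prim_mk hr hq (by norm_num) (by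
      linear_combination ((q : ZMod r) ^ 12 - 1) * ((q : ZMod r) ^ 4 + 1) * h0) fun s hs hs7 => ?_
    have hs3 : s = 2 ∨ s = 3 := by
      rw [show 24 = 2 ^ 3 * 3 by norm_num] at hs7
      rcases hs.dvd_mul.1 hs7 with h | h
      · exact Or.inl ((Nat.prime_dvd_prime_iff_eq hs Nat.prime_two).1 (hs.dvd_of_dvd_pow h))
      · exact Or.inr ((Nat.prime_dvd_prime_iff_eq hs Nat.prime_three).1 h)
    rcases hs3 with rfl | rfl
    · intro h1
      rw [show 24 / 2 = 12 by norm_num] at h1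
      have h2 : r = 2 := key 2 Nat.prime_two (by
        push_cast; linear_combination ((q : ZMod r) ^ 4 + 1) * h0 - h1)
      subst h2
      revert h0; generalize (q : ZMod 2) = x; revert x; decide +kernel
    · intro h1
      rw [show 24 / 3 = 8 by norm_num] at h1
      have h2 : (q : ZMod r) ^ 4 = 2 := by linear_combination h1 - h0
      have h3 : r = 3 := key 3 Nat.prime_three (by
        push_cast; linear_combination h1 - ((q : ZMod r) ^ 4 + 2) * h2)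
      subst h3
      revert h0; generalize (q : ZMod 3) = x; revert x; decide +kernel
  · rw [cast_Ph30 _ hq] at h0
    refine prim_mk hr hq (by norm_num) (by
      linear_combination ((q : ZMod r) ^ 15 - 1) * ((q : ZMod r) ^ 3 + 1) *
        ((q : ZMod r) ^ 4 - (q : ZMod r) ^ 3 + (q : ZMod r) ^ 2 - (q : ZMod r) + 1) * h0) fun s hs hs7 => ?_
    rcases dvd_thirty hs hs7 with rfl | rfl | rfl
    · intro h1
      rw [show 30 / 2 = 15 by norm_num] at h1
      have h2 : r = 2 := key 2 Nat.prime_two (by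
        push_cast; linear_combination ((q : ZMod r) ^ 3 + 1) *
          ((q : ZMod r) ^ 4 - (q : ZMod r) ^ 3 + (q : ZMod r) ^ 2 - (q : ZMod r) + 1) * h0 - h1)
      subst h2
      revert h0; generalize (q : ZMod 2) = x; revert x; decide +kernel
    · intro h1
      rw [show 30 / 3 = 10 by norm_num] at h1
      have h3 : r = 3 := key 3 Nat.prime_three (by
        push_cast; linear_combination ((q : ZMod r) ^ 4 + (q : ZMod r) ^ 2 + 1) *
          ((q : ZMod r) ^ 8 - (q : ZMod r) ^ 7 + (q : ZMod r) ^ 5 - (q : ZMod r) ^ 4 + (q : ZMod r) ^ 3 - (q : ZMod r) + 1) *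
          h0 - ((q : ZMod r) ^ 10 + 2) * h1)
      subst h3
      revert h0; generalize (q : ZMod 3) = x; revert x; decide +kernel
    · intro h1
      rw [show 30 / 5 = 6 by norm_num] at h1
      have h3 : r = 5 := key 5 (by norm_num) (by
        push_cast; linear_combination ((q : ZMod r) ^ 8 + (q : ZMod r) ^ 6 + (q : ZMod r) ^ 4 + (q : ZMod r) ^ 2 + 1) *
          ((q : ZMod r) ^ 8 - (q : ZMod r) ^ 7 + (q : ZMod r) ^ 5 - (q : ZMod r) ^ 4 + (q : ZMod r) ^ 3 - (q : ZMod r) + 1) *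
          h0 - ((q : ZMod r) ^ 18 + 2 * (q : ZMod r) ^ 12 + 3 * (q : ZMod r) ^ 6 + 4) * h1)
      subst h3
      revert h0; generalize (q : ZMod 5) = x; revert x; decide +kernel

/-- primitive primes divide the cyclotomic number -/
theorem dvd_Ph {e : ℕ} (he : Cls e) (hq : 1 ≤ q) (h : Prim q e r) : r ∣ Ph e q := by
  have hF := Fact.mk h.prime
  have key : ∀ m : ℕ, (q : ZMod r) ^ m = 1 ↔ e ∣ m := by
    intro m
    have h1 : 1 ≤ q ^ m := Nat.one_le_pow _ _ hq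
    rw [← h.dvd_iff, ← ZMod.natCast_eq_zero_iff, Nat.cast_sub h1, Nat.cast_pow, Nat.cast_one, sub_eq_zero]
  rw [← ZMod.natCast_eq_zero_iff]
  rcases he with rfl | rfl | rfl
  · rw [cast_Ph20 _ hq]
    have h1 := (key 20).2 dvd_rfl
    have h2 : (q : ZMod r) ^ 10 - 1 ≠ 0 := fun h0 => by
      have := (key 10).1 (sub_eq_zero.1 h0)
      omega
    have h3 : (q : ZMod r) ^ 2 + 1 ≠ 0 := fun h0 => by
      have := (key 4).1 (by linear_combination ((q : ZMod r) ^ 2 - 1) * h0)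
      omega
    apply mul_left_cancel₀ (mul_ne_zero h2 h3)
    linear_combination h1
  · rw [cast_Ph24 _ hq]
    have h1 := (key 24).2 dvd_rfl
    have h2 : (q : ZMod r) ^ 12 - 1 ≠ 0 := fun h0 => by
      have := (key 12).1 (sub_eq_zero.1 h0)
      omega
    have h3 : (q : ZMod r) ^ 4 + 1 ≠ 0 := fun h0 => by
      have := (key 8).1 (by linear_combination ((q : ZMod r) ^ 4 - 1) * h0)
      omega
    apply mul_left_cancel₀ (mul_ne_zero h2 h3)
    linear_combination h1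
  · rw [cast_Ph30 _ hq]
    have h1 := (key 30).2 dvd_rfl
    have h2 : (q : ZMod r) ^ 15 - 1 ≠ 0 := fun h0 => by
      have := (key 15).1 (sub_eq_zero.1 h0)
      omega
    have h3 : (q : ZMod r) ^ 3 + 1 ≠ 0 := fun h0 => by
      have := (key 6).1 (by linear_combination ((q : ZMod r) ^ 3 - 1) * h0)
      omega
    have h4 : (q : ZMod r) ^ 4 - (q : ZMod r) ^ 3 + (q : ZMod r) ^ 2 - (q : ZMod r) + 1 ≠ 0 := fun h0 => by
      have := (key 10).1 (by linear_combination ((q : ZMod r) ^ 5 - 1) * ((q : ZMod r) + 1) * h0)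
      omega
    apply mul_left_cancel₀ (mul_ne_zero (mul_ne_zero h2 h3) h4)
    linear_combination h1

/-- the primitive primes are the primes of `ncl` -/
theorem dvd_ncl {e : ℕ} (he : Cls e) (hq : 1 ≤ q) (h : Prim q e r) : r ∣ ncl e q := by
  have h1 := dvd_Ph he hq h
  rw [← ncl_mul e q] at h1
  rcases h.prime.dvd_mul.1 h1 with h2 | h2
  · exact h2
  · exfalso
    -- `r = cc e` is not primitive: `e ∣ r - 1`
    have hF := Fact.mk h.prime
    have h3 : r ∣ cc e := h2.trans (Nat.gcd_dvd_left _ _)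
    have h4 : e ∣ r - 1 := by
      rw [← h.dvd_iff]
      have h5 : ((q : ZMod r)) ≠ 0 := by
        rw [Ne, ZMod.natCast_eq_zero_iff]
        exact h.not_dvd
      have h6 := ZMod.pow_card_sub_one_eq_one h5
      have h7 : 1 ≤ q ^ (r - 1) := Nat.one_le_pow _ _ hq
      rw [← ZMod.natCast_eq_zero_iff, Nat.cast_sub h7, Nat.cast_pow, Nat.cast_one, h6, sub_self]
    have h8 := h.prime.two_le
    have h9 := Nat.le_of_dvd (by omega) h4
    rcases he with rfl | rfl | rfl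
    · have h10 : r ≤ 5 := Nat.le_of_dvd (by decide) h3
      omega
    · have h10 : r ≤ 1 := Nat.le_of_dvd (by decide) h3
      omega
    · have h10 : r ≤ 1 := Nat.le_of_dvd (by decide) h3
      omega

theorem ncl24_eq (q : ℕ) : ncl 24 q = Ph 24 q := by
  unfold ncl
  rw [show cc 24 = 1 from rfl, Nat.gcd_one_left, Nat.div_one]

theorem ncl30_eq (q : ℕ) : ncl 30 q = Ph 30 q := by
  unfold ncl
  rw [show cc 30 = 1 from rfl, Nat.gcd_one_left, Nat.div_one]

theorem Ph30_eq (hq : 1 ≤ q) : Ph 30 q + (q ^ 5 + q ^ 4 + q ^ 3) = q ^ 8 + q ^ 7 + q + 1 := by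
  have h1 := le30 hq
  show (q ^ 8 + q ^ 7 + q + 1) - (q ^ 5 + q ^ 4 + q ^ 3) + (q ^ 5 + q ^ 4 + q ^ 3) = _
  omega

theorem Ph30_ge (hq : 2 ≤ q) : q ^ 8 < Ph 30 q := by
  have h1 := Ph30_eq (show 1 ≤ q by omega)
  have h2 : 2 ^ 2 * q ^ 5 ≤ q ^ 7 := by
    have : q ^ 7 = q ^ 2 * q ^ 5 := by ring
    rw [this]
    exact Nat.mul_le_mul_right _ (Nat.pow_le_pow_left hq 2)
  have h3 := pow_le_pow' (show 1 ≤ q by omega) (show 4 ≤ 5 by norm_num)
  have h4 := pow_le_pow' (show 1 ≤ q by omega) (show 3 ≤ 5 by norm_num)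
  omega

theorem ncl30_gt (hq : 2 ≤ q) : 248 < ncl 30 q := by
  rw [ncl30_eq]
  have h1 := Ph30_ge hq
  have h2 : 2 ^ 8 ≤ q ^ 8 := Nat.pow_le_pow_left hq 8
  omega

theorem le_seven30 (h : ncl 30 q ≤ 600000) : q ≤ 7 := by
  by_contra hq
  have h1 := Ph30_ge (show 2 ≤ q by omega)
  have h2 : 8 ^ 8 ≤ q ^ 8 := Nat.pow_le_pow_left (by omega) 8
  rw [ncl30_eq] at h
  omega

end Cfsg.Agent.H290.Cov30
end

-- part: H290/Cov/T30
section
/-!
# Cross characteristic for the classes 20, 24, 30 (helper290, after helper563's `KG.Tab`)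
-/

set_option autoImplicit false
set_option exponentiation.threshold 700

namespace Cfsg.Agent.H290.Cov30

open Cfsg.Agent.H902 Cfsg.Agent.H290.ElReg Cfsg.Agent.H290.ElTab Cfsg.Agent.H290.ElCross Cfsg.Agent.H563.KG
open Cfsg.Agent.H436 (Prim)

/-- the test at a small field -/
def tq (Y : Art.Sh) (cls : List ℕ) (M d q : ℕ) : Bool :=
  cls.all (fun e => M % ncl e q == 0) && ((d * OL Y q) % M == 0)

/-- the survivors -/
def svR (n : ℕ) (Y : Art.Sh) (cls : List ℕ) : Bool := (reg n).all fun x => sm.all fun y =>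
  y.1 == x.2.1 || !(tq Y cls (OL x.1 (x.2.1 ^ x.2.2)) (Art.dd x.1 (x.2.1 ^ x.2.2)) y.2)

def svS (Y : Art.Sh) (cls : List ℕ) : Bool := Cfsg.Agent.OrdDiv.spor.all fun x => sm.all fun y => !(tq Y cls x.2 1 y.2)

/-- the bound -/
def bndR (n e : ℕ) : Bool := (reg n).all fun x =>
  Nat.ble (De (pd (NS x.1 x.2.1 x.2.2)) (OL x.1 (x.2.1 ^ x.2.2)) e) 600000 &&
    Nat.blt (OL x.1 (x.2.1 ^ x.2.2)) (2 ^ 600)

def bndS (e : ℕ) : Bool := Cfsg.Agent.OrdDiv.spor.all fun x => Nat.ble (De (pd x.2) x.2 e) 600000 && Nat.blt x.2 (2 ^ 600)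

private theorem _root_.Cfsg.Agent.KOa45719e.e0.{ku, kv} {α : Type kv} {M : List α → Sort ku} (φ : ∀ l, M l) {z : M List.nil} {s : ∀ a l, M l → M (List.cons a l)} (h0 : φ List.nil = z) (hs : ∀ a l, φ (List.cons a l) = s a l (φ l)) (l : List α) : φ l = @List.rec α M z s l := List.rec h0 (fun a l ih => (hs a l).trans (congrArg (s a l) ih)) l
private noncomputable def _root_.Cfsg.Agent.KOa45719e.k1.{ku0} : type_of% @List.all.{ku0} := @(fun x0 x1 x2 => @List.rec.{(ku0+1), ku0} @x0 @(fun x3 => (@x0 → @Bool) → @Bool) @(fun x3 => @Bool.true) @(fun x3 x4 x5 x6 => @Bool.rec.{1} @(fun x7 => @Bool) @Bool.false (@x5 @x6) (@x6 @x3)) @x1 @x2)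
private theorem _root_.Cfsg.Agent.KOa45719e.e1.{ku0} : @List.all.{ku0} = @_root_.Cfsg.Agent.KOa45719e.k1.{ku0} := by delta _root_.Cfsg.Agent.KOa45719e.k1; funext a0 a1 a2; refine (congrFun (_root_.Cfsg.Agent.KOa45719e.e0 (fun a1 a2 => @List.all.{ku0} a0 a1 a2) ?_ (fun c0 c1 => ?_) a1) a2 :) <;> (rfl')
private noncomputable def _root_.Cfsg.Agent.KOa45719e.k2.{ku0} : type_of% @List.append.{ku0} := @(fun x0 x1 x2 => @List.rec.{(ku0+1), ku0} @x0 @(fun x3 => (@List.{ku0} @x0) → @List.{ku0} @x0) @(fun x3 => @x3) @(fun x3 x4 x5 x6 => @x3 :: (@x5 @x6)) @x1 @x2)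
private theorem _root_.Cfsg.Agent.KOa45719e.e2.{ku0} : @List.append.{ku0} = @_root_.Cfsg.Agent.KOa45719e.k2.{ku0} := by delta _root_.Cfsg.Agent.KOa45719e.k2; funext a0 a1 a2; refine (congrFun (_root_.Cfsg.Agent.KOa45719e.e0 (fun a1 a2 => @List.append.{ku0} a0 a1 a2) ?_ (fun c0 c1 => ?_) a1) a2 :) <;> (rfl')
private noncomputable def _root_.Cfsg.Agent.KOa45719e.k3.{ku0} : type_of% @List.flatten.{ku0} := @(fun x0 x1 => @List.rec.{(ku0+1), ku0} (@List.{ku0} @x0) @(fun x2 => @List.{ku0} @x0) [] @(fun x2 x3 x4 => @Cfsg.Agent.KOa45719e.k2.{ku0} _ @x2 @x4) @x1)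
private theorem _root_.Cfsg.Agent.KOa45719e.e3.{ku0} : @List.flatten.{ku0} = @_root_.Cfsg.Agent.KOa45719e.k3.{ku0} := by delta _root_.Cfsg.Agent.KOa45719e.k3; rewrite [← Cfsg.Agent.KOa45719e.e2.{ku0}]; funext a0 a1; refine (_root_.Cfsg.Agent.KOa45719e.e0 (fun a1 => @List.flatten.{ku0} a0 a1) ?_ (fun c0 c1 => ?_) a1 :) <;> (rfl')
private noncomputable def _root_.Cfsg.Agent.KOa45719e.k4.{ku0, ku1} : type_of% @List.map.{ku0, ku1} := @(fun x0 x1 x2 x3 => @List.rec.{(ku1+1), ku0} @x0 @(fun x4 => @List.{ku1} @x1) [] @(fun x4 x5 x6 => (@x2 @x4) :: @x6) @x3)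
private theorem _root_.Cfsg.Agent.KOa45719e.e4.{ku0, ku1} : @List.map.{ku0, ku1} = @_root_.Cfsg.Agent.KOa45719e.k4.{ku0, ku1} := by delta _root_.Cfsg.Agent.KOa45719e.k4; funext a0 a1 a2 a3; refine (_root_.Cfsg.Agent.KOa45719e.e0 (fun a3 => @List.map.{ku0, ku1} a0 a1 a2 a3) ?_ (fun c0 c1 => ?_) a3 :) <;> (rfl')
private noncomputable def _root_.Cfsg.Agent.KOa45719e.k5.{ku0} : type_of% @List.filter.{ku0} := @(fun x0 x1 x2 => @List.rec.{(ku0+1), ku0} @x0 @(fun x3 => @List.{ku0} @x0) [] @(fun x3 x4 x5 => @Bool.rec.{(ku0+1)} @(fun x6 => @List.{ku0} @x0) @x5 (@x3 :: @x5) (@x1 @x3)) @x2)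
private theorem _root_.Cfsg.Agent.KOa45719e.e5.{ku0} : @List.filter.{ku0} = @_root_.Cfsg.Agent.KOa45719e.k5.{ku0} := by delta _root_.Cfsg.Agent.KOa45719e.k5; funext a0 a1 a2; refine (_root_.Cfsg.Agent.KOa45719e.e0 (fun a2 => @List.filter.{ku0} a0 a1 a2) ?_ (fun c0 c1 => ?_) a2 :) <;> (rfl')
private noncomputable def _root_.Cfsg.Agent.KOa45719e.k6 : (by first | exact type_of% @Cfsg.Agent.H290.ElTab.reg | exact Unit : Sort _) := by first | (refine @Subtype.val _ (fun g => @Cfsg.Agent.H290.ElTab.reg = @g) (@Subtype.mk _ _ (@(fun x0 => @Cfsg.Agent.KOa45719e.k3.{0} _ (@Cfsg.Agent.KOa45719e.k4.{0, 0} _ _ @(fun x1 => @Cfsg.Agent.KOa45719e.k4.{0, 0} _ _ @(fun x2 => (@x1, @x2)) (@Cfsg.Agent.KOa45719e.k5.{0} _ @(fun x2 => @Bool.rec.{1} @(fun x3 => @Bool) @Bool.false (@Decidable.rec.{1} _ @(fun x3 => @Bool) @(fun x3 => @Bool.false) @(fun x3 => @Bool.true) (@Cfsg.Agent.H902.Art.instDecidableOk @x1 (@Prod.fst.{0, 0}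 _ _ @x2) (@Prod.snd.{0, 0} _ _ @x2))) (@Nat.ble (@Cfsg.Agent.H290.ElReg.lb @x1 (@Nat.pow (@Prod.fst.{0, 0} _ _ @x2) (@Prod.snd.{0, 0} _ _ @x2))) @x0)) @Cfsg.Agent.H290.ElTab.qs)) @Cfsg.Agent.H290.ElTab.shs))) ?_); rewrite [← Cfsg.Agent.KOa45719e.e5.{0}, ← Cfsg.Agent.KOa45719e.e4.{0, 0}, ← Cfsg.Agent.KOa45719e.e3.{0}]; (try delta Cfsg.Agent.H290.ElTab.reg); (try generalize @Cfsg.Agent.H290.ElReg.lb = g0); (try generalize @Cfsg.Agent.H290.ElTab.qs = g1); (try generalize @Cfsg.Agent.H290.ElTab.shs = g2); rfl') | exact @Cfsg.Agent.H290.ElTab.reg | exact ()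
private theorem _root_.Cfsg.Agent.KOa45719e.e6 : (by first | exact @Cfsg.Agent.H290.ElTab.reg = @_root_.Cfsg.Agent.KOa45719e.k6 | exact True : Prop) := by first | (delta _root_.Cfsg.Agent.KOa45719e.k6; exact @Subtype.property _ (fun g => @Cfsg.Agent.H290.ElTab.reg = @g) _) | rfl | trivial
private noncomputable def _root_.Cfsg.Agent.KOa45719e.k7 : (by first | exact type_of% @Cfsg.Agent.H902.Art.NN | exact Unit : Sort _) := by first | (refine @Subtype.val _ (fun g => @Cfsg.Agent.H902.Art.NN = @g) (@Subtype.mk _ _ (@(fun x0 => @Cfsg.Agent.H902.Art.Sh.rec.{1} @(fun x1 => ℕ) @(fun x1 => @Nat.div (@Nat.mul @x1 (@Nat.sub @x1 (nat_lit 1))) (nat_lit 2)) @(fun x1 => @Nat.pow @x1 (nat_lit 2)) @(fun x1 => @Nat.div (@Nat.mul @x1 (@Nat.sub @x1 (nat_lit 1))) (nat_lit 2)) @(fun x1 => @Nat.mul @x1 (@Nat.sub @x1 (nat_lit 1))) @(fun x1 => @Nat.mul @x1 (@Nat.sub @x1 (nat_lit 1))) (nat_lit 6) (nat_lit 24) (nat_lit 36) (nat_lit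 63) (nat_lit 120) (nat_lit 36) (nat_lit 12) (nat_lit 2) (nat_lit 3) (nat_lit 12) @x0)) ?_); rfl') | exact @Cfsg.Agent.H902.Art.NN | exact ()
private theorem _root_.Cfsg.Agent.KOa45719e.e7 : (by first | exact @Cfsg.Agent.H902.Art.NN = @_root_.Cfsg.Agent.KOa45719e.k7 | exact True : Prop) := by first | (delta _root_.Cfsg.Agent.KOa45719e.k7; exact @Subtype.property _ (fun g => @Cfsg.Agent.H902.Art.NN = @g) _) | rfl | trivial
private noncomputable def _root_.Cfsg.Agent.KOa45719e.oEq.{ku} (α : Sort ku) (a b : Nat) (f t : α) : α := @Decidable.rec (a = b) (fun _ => α) (fun _ => f) (fun _ => t) (Nat.decEq a b)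
private noncomputable def _root_.Cfsg.Agent.KOa45719e.k8.{ku} (α : Sort ku) (a b : Nat) (f t : α) : α := @Bool.rec (fun _ => α) f t (Nat.beq a b)
private theorem _root_.Cfsg.Agent.KOa45719e.e8.{ku} : @_root_.Cfsg.Agent.KOa45719e.oEq.{ku} = @_root_.Cfsg.Agent.KOa45719e.k8.{ku} := funext fun α => funext fun a => funext fun b => funext fun f => funext fun t => by delta _root_.Cfsg.Agent.KOa45719e.oEq _root_.Cfsg.Agent.KOa45719e.k8; cases h : Nat.beq a b <;> cases Nat.decEq a b <;> rename_i g <;> first | rfl | exact absurd g (Nat.ne_of_beq_eq_false h) | exact absurd (Nat.eq_of_beq_eq_true h) g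
private noncomputable def _root_.Cfsg.Agent.KOa45719e.k9.{ku0, ku1} : type_of% @List.foldr.{ku0, ku1} := @(fun x0 x1 x2 x3 x4 => @List.rec.{(ku1+1), ku0} @x0 @(fun x5 => @x1) @x3 @(fun x5 x6 x7 => @x2 @x5 @x7) @x4)
private theorem _root_.Cfsg.Agent.KOa45719e.e9.{ku0, ku1} : @List.foldr.{ku0, ku1} = @_root_.Cfsg.Agent.KOa45719e.k9.{ku0, ku1} := by delta _root_.Cfsg.Agent.KOa45719e.k9; funext a0 a1 a2 a3 a4; refine (_root_.Cfsg.Agent.KOa45719e.e0 (fun a4 => @List.foldr.{ku0, ku1} a0 a1 a2 a3 a4) ?_ (fun c0 c1 => ?_) a4 :) <;> (rfl')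
private theorem _root_.Cfsg.Agent.KOa45719e.e10.{ku} {M : Nat → Sort ku} (φ : ∀ n, M n) {z : M Nat.zero} {s : ∀ n, M n → M (Nat.succ n)} (h0 : φ Nat.zero = z) (hs : ∀ n, φ (Nat.succ n) = s n (φ n)) (n : Nat) : φ n = @Nat.rec M z s n := Nat.rec h0 (fun n ih => (hs n).trans (congrArg (s n) ih)) n
private noncomputable def _root_.Cfsg.Agent.KOa45719e.k11 : type_of% @List.range.loop := @(fun x0 x1 => @Nat.rec.{1} @(fun x2 => (@List.{0} ℕ) → @List.{0} ℕ) @(fun x2 => @x2) @(fun x2 x3 x4 => @x3 (@x2 :: @x4)) @x0 @x1)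
private theorem _root_.Cfsg.Agent.KOa45719e.e11 : @List.range.loop = @_root_.Cfsg.Agent.KOa45719e.k11 := by delta _root_.Cfsg.Agent.KOa45719e.k11; funext a0 a1; refine (congrFun (_root_.Cfsg.Agent.KOa45719e.e10 (fun a0 a1 => @List.range.loop a0 a1) ?_ (fun c0 => ?_) a0) a1 :) <;> (rfl')
private noncomputable def _root_.Cfsg.Agent.KOa45719e.k12 : (by first | exact type_of% @Cfsg.Agent.H290.ElTab.numL | exact Unit : Sort _) := by first | (refine @Subtype.val _ (fun g => @Cfsg.Agent.H290.ElTab.numL = @g) (@Subtype.mk _ _ (@(fun x0 x1 => @Cfsg.Agent.H902.Art.Sh.rec.{1} @(fun x2 => ((@Nat.hasNotBit (nat_lit 31) (@Cfsg.Agent.H902.Art.Sh.ctorIdx @x2)) → ℕ) → ℕ) @(fun x2 x3 => @Cfsg.Agent.KOa45719e.k9.{0, 0} _ _ @(fun x4 x5 => @Nat.mul @x4 @x5) (nat_lit 1) (@Cfsg.Agent.KOa45719e.k4.{0, 0} _ _ @(fun x4 => @Nat.sub (@Nat.pow @x1 (@Nat.add @x4 (nat_lit 2))) (nat_lit 1)) (@Cfsg.Agent.KOa45719e.k11 (@Nat.sub @x2 (nat_lit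 1)) []))) @(fun x2 x3 => @Cfsg.Agent.KOa45719e.k9.{0, 0} _ _ @(fun x4 x5 => @Nat.mul @x4 @x5) (nat_lit 1) (@Cfsg.Agent.KOa45719e.k4.{0, 0} _ _ @(fun x4 => @Nat.sub (@Nat.pow @x1 (@Nat.mul (nat_lit 2) (@Nat.add @x4 (nat_lit 1)))) (nat_lit 1)) (@Cfsg.Agent.KOa45719e.k11 @x2 []))) @(fun x2 x3 => @Cfsg.Agent.KOa45719e.k9.{0, 0} _ _ @(fun x4 x5 => @Nat.mul @x4 @x5) (nat_lit 1) (@Cfsg.Agent.KOa45719e.k4.{0, 0} _ _ @(fun x4 => @Cfsg.Agent.KOa45719e.k8.{1} ℕ (@Nat.mod @x4 (nat_lit 2)) (nat_lit 0) (@Nat.add (@Nat.pow @x1 (@Nat.add @x4 (nat_lit 2))) (nat_lit 1)) (@Nat.sub (@Nat.pow @x1 (@Nat.add @x4 (nat_lit 2))) (nat_lit 1))) (@Cfsg.Agent.KOa45719e.k11 (@Nat.sub @x2 (nat_lit 1)) []))) @(fun x2 x3 => @Nat.mul (@Nat.sub (@Nat.pow @x1 @x2) (nat_lit 1)) (@Cfsg.Agent.KOa45719e.k9.{0, 0} _ _ @(fun x4 x5 => @Nat.mul @x4 @x5) (nat_lit 1) (@Cfsg.Agent.KOa45719e.k4.{0, 0} _ _ @(fun x4 => @Nat.sub (@Nat.pow @x1 (@Nat.mul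 (nat_lit 2) (@Nat.add @x4 (nat_lit 1)))) (nat_lit 1)) (@Cfsg.Agent.KOa45719e.k11 (@Nat.sub @x2 (nat_lit 1)) [])))) @(fun x2 x3 => @Nat.mul (@Nat.add (@Nat.pow @x1 @x2) (nat_lit 1)) (@Cfsg.Agent.KOa45719e.k9.{0, 0} _ _ @(fun x4 x5 => @Nat.mul @x4 @x5) (nat_lit 1) (@Cfsg.Agent.KOa45719e.k4.{0, 0} _ _ @(fun x4 => @Nat.sub (@Nat.pow @x1 (@Nat.mul (nat_lit 2) (@Nat.add @x4 (nat_lit 1)))) (nat_lit 1)) (@Cfsg.Agent.KOa45719e.k11 (@Nat.sub @x2 (nat_lit 1)) [])))) @(fun x2 => @x2 (@Nat.ne_of_beq_eq_false _ _ (@Eq.refl.{1} _ @Bool.false))) @(fun x2 => @x2 (@Nat.ne_of_beq_eq_false _ _ (@Eq.refl.{1} _ @Bool.false))) @(fun x2 => @x2 (@Nat.ne_of_beq_eq_false _ _ (@Eq.refl.{1} _ @Bool.false))) @(fun x2 => @x2 (@Nat.ne_of_beq_eq_false _ _ (@Eq.refl.{1} _ @Bool.false))) @(fun x2 => @x2 (@Nat.ne_of_beq_eq_false _ _ (@Eq.refl.{1} _ @Bool.false))) @(fun x2 => @x2 (@Nat.ne_of_beq_eq_false _ _ (@Eq.refl.{1} _ @Bool.false)))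 @(fun x2 => @x2 (@Nat.ne_of_beq_eq_false _ _ (@Eq.refl.{1} _ @Bool.false))) @(fun x2 => @x2 (@Nat.ne_of_beq_eq_false _ _ (@Eq.refl.{1} _ @Bool.false))) @(fun x2 => @x2 (@Nat.ne_of_beq_eq_false _ _ (@Eq.refl.{1} _ @Bool.false))) @(fun x2 => @x2 (@Nat.ne_of_beq_eq_false _ _ (@Eq.refl.{1} _ @Bool.false))) @x0 @(fun x2 => @Cfsg.Agent.H902.Art.num @x0 @x1))) ?_); rewrite [← Cfsg.Agent.KOa45719e.e8.{1}, ← Cfsg.Agent.KOa45719e.e11, ← Cfsg.Agent.KOa45719e.e4.{0, 0}, ← Cfsg.Agent.KOa45719e.e9.{0, 0}]; (try delta Cfsg.Agent.H290.ElTab.numL); (try generalize @Cfsg.Agent.H902.Art.Sh.ctorIdx = g0); (try generalize @Cfsg.Agent.H902.Art.num = g1); rfl') | exact @Cfsg.Agent.H290.ElTab.numL | exact ()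
private theorem _root_.Cfsg.Agent.KOa45719e.e12 : (by first | exact @Cfsg.Agent.H290.ElTab.numL = @_root_.Cfsg.Agent.KOa45719e.k12 | exact True : Prop) := by first | (delta _root_.Cfsg.Agent.KOa45719e.k12; exact @Subtype.property _ (fun g => @Cfsg.Agent.H290.ElTab.numL = @g) _) | rfl | trivial
private noncomputable def _root_.Cfsg.Agent.KOa45719e.k13 : (by first | exact type_of% @Cfsg.Agent.H563.KG.OL | exact Unit : Sort _) := by first | (refine @Subtype.val _ (fun g => @Cfsg.Agent.H563.KG.OL = @g) (@Subtype.mk _ _ (@(fun x0 x1 => @Nat.mul (@Nat.pow @x1 (@Cfsg.Agent.KOa45719e.k7 @x0)) (@Cfsg.Agent.KOa45719e.k12 @x0 @x1))) ?_); rewrite [← Cfsg.Agent.KOa45719e.e12, ← Cfsg.Agent.KOa45719e.e7]; (try delta Cfsg.Agent.H563.KG.OL); (try generalize @Cfsg.Agent.H902.Art.NN = g0); (try generalize @Cfsg.Agent.H290.ElTab.numL = g1); rfl') | exact @Cfsg.Agent.H563.KG.OL | exact ()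
private theorem _root_.Cfsg.Agent.KOa45719e.e13 : (by first | exact @Cfsg.Agent.H563.KG.OL = @_root_.Cfsg.Agent.KOa45719e.k13 | exact True : Prop) := by first | (delta _root_.Cfsg.Agent.KOa45719e.k13; exact @Subtype.property _ (fun g => @Cfsg.Agent.H563.KG.OL = @g) _) | rfl | trivial
private noncomputable def _root_.Cfsg.Agent.KOa45719e.k14 : (by first | exact type_of% @Cfsg.Agent.H563.KG.De | exact Unit : Sort _) := by first | (refine @Subtype.val _ (fun g => @Cfsg.Agent.H563.KG.De = @g) (@Subtype.mk _ _ (@(fun x0 x1 x2 => @Cfsg.Agent.KOa45719e.k9.{0, 0} _ _ @(fun x3 x4 => @Nat.mul @x3 @x4) (nat_lit 1) (@Cfsg.Agent.KOa45719e.k4.{0, 0} _ _ @(fun x3 => @Nat.gcd @x1 (@Nat.pow @x3 (nat_lit 600))) (@Cfsg.Agent.KOa45719e.k5.{0} _ @(fun x3 => @Cfsg.Agent.KOa45719e.k8.{1} @Bool (@Nat.mod (@Nat.sub @x3 (nat_lit 1)) @x2) (nat_lit 0) @Bool.false @Bool.true) @x0)))) ?_); rewrite [← Cfsg.Agent.KOa45719e.e8.{1}, ←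 Cfsg.Agent.KOa45719e.e5.{0}, ← Cfsg.Agent.KOa45719e.e4.{0, 0}, ← Cfsg.Agent.KOa45719e.e9.{0, 0}]; rfl') | exact @Cfsg.Agent.H563.KG.De | exact ()
private theorem _root_.Cfsg.Agent.KOa45719e.e14 : (by first | exact @Cfsg.Agent.H563.KG.De = @_root_.Cfsg.Agent.KOa45719e.k14 | exact True : Prop) := by first | (delta _root_.Cfsg.Agent.KOa45719e.k14; exact @Subtype.property _ (fun g => @Cfsg.Agent.H563.KG.De = @g) _) | rfl | trivial
private noncomputable def _root_.Cfsg.Agent.KOa45719e.k15 : (by first | exact type_of% @Cfsg.Agent.H290.ElTab.pd | exact Unit : Sort _) := by first | (refine @Subtype.val _ (fun g => @Cfsg.Agent.H290.ElTab.pd = @g) (@Subtype.mk _ _ (@(fun x0 => @Cfsg.Agent.KOa45719e.k5.{0} _ @(fun x1 => @Cfsg.Agent.KOa45719e.k8.{1} @Bool (@Nat.mod @x0 @x1) (nat_lit 0) @Bool.false @Bool.true) @Cfsg.Agent.H290.ElTab.prs)) ?_); rewrite [← Cfsg.Agent.KOa45719e.e8.{1}, ← Cfsg.Agent.KOa45719e.e5.{0}];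 (try delta Cfsg.Agent.H290.ElTab.pd); (try generalize @Cfsg.Agent.H290.ElTab.prs = g0); rfl') | exact @Cfsg.Agent.H290.ElTab.pd | exact ()
private theorem _root_.Cfsg.Agent.KOa45719e.e15 : (by first | exact @Cfsg.Agent.H290.ElTab.pd = @_root_.Cfsg.Agent.KOa45719e.k15 | exact True : Prop) := by first | (delta _root_.Cfsg.Agent.KOa45719e.k15; exact @Subtype.property _ (fun g => @Cfsg.Agent.H290.ElTab.pd = @g) _) | rfl | trivial
private noncomputable def _root_.Cfsg.Agent.KOa45719e.k16 : (by first | exact type_of% @Cfsg.Agent.H290.ElTab.NS | exact Unit : Sort _) := by first | (refine @Subtype.val _ (fun g => @Cfsg.Agent.H290.ElTab.NS = @g) (@Subtype.mk _ _ (@(fun x0 x1 x2 => @Nat.mul @x1 (@Cfsg.Agent.KOa45719e.k12 @x0 (@Nat.pow @x1 @x2)))) ?_); rewrite [← Cfsg.Agent.KOa45719e.e12]; (try delta Cfsg.Agent.H290.ElTab.NS); (try generalize @Cfsg.Agent.H290.ElTab.numL = g0); rfl') | exact @Cfsg.Agent.H290.ElTab.NS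 | exact ()
private theorem _root_.Cfsg.Agent.KOa45719e.e16 : (by first | exact @Cfsg.Agent.H290.ElTab.NS = @_root_.Cfsg.Agent.KOa45719e.k16 | exact True : Prop) := by first | (delta _root_.Cfsg.Agent.KOa45719e.k16; exact @Subtype.property _ (fun g => @Cfsg.Agent.H290.ElTab.NS = @g) _) | rfl | trivial
private noncomputable def _root_.Cfsg.Agent.KOa45719e.k17 : (by first | exact type_of% @Cfsg.Agent.H290.Cov30.bndR | exact Unit : Sort _) := by first | (refine @Subtype.val _ (fun g => @Cfsg.Agent.H290.Cov30.bndR = @g) (@Subtype.mk _ _ (@(fun x0 x1 => @Cfsg.Agent.KOa45719e.k1.{0} _ (@Cfsg.Agent.KOa45719e.k6 @x0) @(fun x2 => @Bool.rec.{1} @(fun x3 => @Bool) @Bool.false (@Nat.ble (@Nat.succ (@Cfsg.Agent.KOa45719e.k13 (@Prod.fst.{0, 0} _ _ @x2) (@Nat.pow (@Prod.fst.{0, 0} _ _ (@Prod.snd.{0, 0} _ _ @x2)) (@Prod.snd.{0, 0} _ _ (@Prod.snd.{0, 0} _ _ @x2))))) (@Nat.pow (nat_lit 2) (nat_lit 600))) (@Nat.ble (@Cfsg.Agent.KOa45719e.k14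 (@Cfsg.Agent.KOa45719e.k15 (@Cfsg.Agent.KOa45719e.k16 (@Prod.fst.{0, 0} _ _ @x2) (@Prod.fst.{0, 0} _ _ (@Prod.snd.{0, 0} _ _ @x2)) (@Prod.snd.{0, 0} _ _ (@Prod.snd.{0, 0} _ _ @x2)))) (@Cfsg.Agent.KOa45719e.k13 (@Prod.fst.{0, 0} _ _ @x2) (@Nat.pow (@Prod.fst.{0, 0} _ _ (@Prod.snd.{0, 0} _ _ @x2)) (@Prod.snd.{0, 0} _ _ (@Prod.snd.{0, 0} _ _ @x2)))) @x1) (nat_lit 600000))))) ?_); rewrite [← Cfsg.Agent.KOa45719e.e16, ← Cfsg.Agent.KOa45719e.e15, ← Cfsg.Agent.KOa45719e.e14, ← Cfsg.Agent.KOa45719e.e13, ← Cfsg.Agent.KOa45719e.e6, ← Cfsg.Agent.KOa45719e.e1.{0}]; (try delta Cfsg.Agent.H290.Cov30.bndR); (try generalize @Cfsg.Agent.H290.ElTab.reg = g0); (try generalize @Cfsg.Agent.H563.KG.OL = g1); (try generalize @Cfsg.Agent.H563.KG.De = g2); (try generalize @Cfsg.Agent.H290.ElTab.pd = g3); (try generalize @Cfsg.Agent.H290.ElTab.NS = g4); rfl') | exact @Cfsg.Agent.H290.Cov30.bndR | exact ()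
private theorem _root_.Cfsg.Agent.KOa45719e.e17 : (by first | exact @Cfsg.Agent.H290.Cov30.bndR = @_root_.Cfsg.Agent.KOa45719e.k17 | exact True : Prop) := by first | (delta _root_.Cfsg.Agent.KOa45719e.k17; exact @Subtype.property _ (fun g => @Cfsg.Agent.H290.Cov30.bndR = @g) _) | rfl | trivial

theorem bndR_248_30 : bndR 248 30 = true := by (first | (rewrite [Cfsg.Agent.KOa45719e.e17]; decide +kernel) | decide +kernel)
private noncomputable def _root_.Cfsg.Agent.KOa45719e.k18 : (by first | exact type_of% @Cfsg.Agent.H290.Cov30.bndS | exact Unit : Sort _) := by first | (refine @Subtype.val _ (fun g => @Cfsg.Agent.H290.Cov30.bndS = @g) (@Subtype.mk _ _ (@(fun x0 => @Cfsg.Agent.KOa45719e.k1.{0} _ @Cfsg.Agent.OrdDiv.spor @(fun x1 => @Bool.rec.{1} @(fun x2 => @Bool) @Bool.false (@Nat.ble (@Nat.succ (@Prod.snd.{0, 0} _ _ @x1)) (@Nat.pow (nat_lit 2) (nat_lit 600))) (@Nat.ble (@Cfsg.Agent.KOa45719e.k14 (@Cfsg.Agent.KOa45719e.k15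 (@Prod.snd.{0, 0} _ _ @x1)) (@Prod.snd.{0, 0} _ _ @x1) @x0) (nat_lit 600000))))) ?_); rewrite [← Cfsg.Agent.KOa45719e.e15, ← Cfsg.Agent.KOa45719e.e14, ← Cfsg.Agent.KOa45719e.e1.{0}]; (try delta Cfsg.Agent.H290.Cov30.bndS); (try generalize @Cfsg.Agent.OrdDiv.spor = g0); (try generalize @Cfsg.Agent.H563.KG.De = g1); (try generalize @Cfsg.Agent.H290.ElTab.pd = g2); rfl') | exact @Cfsg.Agent.H290.Cov30.bndS | exact ()
private theorem _root_.Cfsg.Agent.KOa45719e.e18 : (by first | exact @Cfsg.Agent.H290.Cov30.bndS = @_root_.Cfsg.Agent.KOa45719e.k18 | exact True : Prop) := by first | (delta _root_.Cfsg.Agent.KOa45719e.k18; exact @Subtype.property _ (fun g => @Cfsg.Agent.H290.Cov30.bndS = @g) _) | rfl | trivial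

theorem bndS_30 : bndS 30 = true := by (first | (rewrite [Cfsg.Agent.KOa45719e.e18]; decide +kernel) | decide +kernel)
private noncomputable def _root_.Cfsg.Agent.KOa45719e.k19 : type_of% @Nat.decEq := @(fun x0 x1 => @Bool.rec.{1} @(fun x2 => (@Eq.{1} _ (@Nat.beq @x0 @x1) @x2) → @Decidable (@Eq.{1} _ @x0 @x1)) @(fun x2 => @Decidable.isFalse _ (@Nat.ne_of_beq_eq_false _ _ @x2)) @(fun x2 => @Decidable.isTrue _ (@Nat.eq_of_beq_eq_true _ _ @x2)) (@Nat.beq @x0 @x1) (@Eq.refl.{1} _ (@Nat.beq @x0 @x1)))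
private theorem _root_.Cfsg.Agent.KOa45719e.e19 : @Nat.decEq = @_root_.Cfsg.Agent.KOa45719e.k19 := by delta _root_.Cfsg.Agent.KOa45719e.k19; rfl'
private noncomputable def _root_.Cfsg.Agent.KOa45719e.k20 : (by first | exact type_of% @Cfsg.Agent.H290.Cov30.Ph | exact Unit : Sort _) := by first | (refine @Subtype.val _ (fun g => @Cfsg.Agent.H290.Cov30.Ph = @g) (@Subtype.mk _ _ (@(fun x0 x1 => @Decidable.rec.{1} _ @(fun x2 => ℕ) @(fun x2 => @Decidable.rec.{1} _ @(fun x3 => ℕ) @(fun x3 => @Decidable.rec.{1} _ @(fun x4 => ℕ) @(fun x4 => nat_lit 1) @(fun x4 => @Eq.rec.{1, 1} ℕ (nat_lit 30) @(fun x5 x6 => ℕ) (@Nat.sub (@Nat.add (@Nat.add (@Nat.add (@Nat.pow @x1 (nat_lit 8)) (@Nat.pow @x1 (nat_lit 7))) @x1) (nat_lit 1)) (@Nat.add (@Nat.add (@Nat.pow @x1 (nat_lit 5)) (@Nat.pow @x1 (nat_lit 4))) (@Nat.pow @x1 (nat_lit 3)))) @x0 (@Eq.symm.{1} _ _ _ @x4)) (@Cfsg.Agent.KOa45719e.k19 @x0 (nat_lit 30))) @(fun x3 => @Eq.rec.{1,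 1} ℕ (nat_lit 24) @(fun x4 x5 => ℕ) (@Nat.sub (@Nat.add (@Nat.pow @x1 (nat_lit 8)) (nat_lit 1)) (@Nat.pow @x1 (nat_lit 4))) @x0 (@Eq.symm.{1} _ _ _ @x3)) (@Cfsg.Agent.KOa45719e.k19 @x0 (nat_lit 24))) @(fun x2 => @Eq.rec.{1, 1} ℕ (nat_lit 20) @(fun x3 x4 => ℕ) (@Nat.sub (@Nat.add (@Nat.add (@Nat.pow @x1 (nat_lit 8)) (@Nat.pow @x1 (nat_lit 4))) (nat_lit 1)) (@Nat.add (@Nat.pow @x1 (nat_lit 6)) (@Nat.pow @x1 (nat_lit 2)))) @x0 (@Eq.symm.{1} _ _ _ @x2)) (@Cfsg.Agent.KOa45719e.k19 @x0 (nat_lit 20)))) ?_); rewrite [← Cfsg.Agent.KOa45719e.e19]; rfl') | exact @Cfsg.Agent.H290.Cov30.Ph | exact ()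
private theorem _root_.Cfsg.Agent.KOa45719e.e20 : (by first | exact @Cfsg.Agent.H290.Cov30.Ph = @_root_.Cfsg.Agent.KOa45719e.k20 | exact True : Prop) := by first | (delta _root_.Cfsg.Agent.KOa45719e.k20; exact @Subtype.property _ (fun g => @Cfsg.Agent.H290.Cov30.Ph = @g) _) | rfl | trivial
private noncomputable def _root_.Cfsg.Agent.KOa45719e.k21 : (by first | exact type_of% @Cfsg.Agent.H290.Cov30.cc | exact Unit : Sort _) := by first | (refine @Subtype.val _ (fun g => @Cfsg.Agent.H290.Cov30.cc = @g) (@Subtype.mk _ _ (@(fun x0 => @Decidable.rec.{1} _ @(fun x1 => ℕ) @(fun x1 => nat_lit 1) @(fun x1 => @Eq.rec.{1, 1} ℕ (nat_lit 20) @(fun x2 x3 => ℕ) (nat_lit 5) @x0 (@Eq.symm.{1} _ _ _ @x1)) (@Cfsg.Agent.KOa45719e.k19 @x0 (nat_lit 20)))) ?_); rewrite [← Cfsg.Agent.KOa45719e.e19]; rfl') | exact @Cfsg.Agent.H290.Cov30.cc | exact ()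
private theorem _root_.Cfsg.Agent.KOa45719e.e21 : (by first | exact @Cfsg.Agent.H290.Cov30.cc = @_root_.Cfsg.Agent.KOa45719e.k21 | exact True : Prop) := by first | (delta _root_.Cfsg.Agent.KOa45719e.k21; exact @Subtype.property _ (fun g => @Cfsg.Agent.H290.Cov30.cc = @g) _) | rfl | trivial
private noncomputable def _root_.Cfsg.Agent.KOa45719e.k22 : (by first | exact type_of% @Cfsg.Agent.H290.Cov30.ncl | exact Unit : Sort _) := by first | (refine @Subtype.val _ (fun g => @Cfsg.Agent.H290.Cov30.ncl = @g) (@Subtype.mk _ _ (@(fun x0 x1 => @Nat.div (@Cfsg.Agent.KOa45719e.k20 @x0 @x1) (@Nat.gcd (@Cfsg.Agent.KOa45719e.k21 @x0) (@Cfsg.Agent.KOa45719e.k20 @x0 @x1)))) ?_); rewrite [← Cfsg.Agent.KOa45719e.e21, ← Cfsg.Agent.KOa45719e.e20]; (try delta Cfsg.Agent.H290.Cov30.ncl); (try generalize @Cfsg.Agent.H290.Cov30.Ph = g0); (try generalize @Cfsg.Agent.H290.Cov30.cc = g1); rfl') | exact @Cfsg.Agent.H290.Cov30.ncl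 | exact ()
private theorem _root_.Cfsg.Agent.KOa45719e.e22 : (by first | exact @Cfsg.Agent.H290.Cov30.ncl = @_root_.Cfsg.Agent.KOa45719e.k22 | exact True : Prop) := by first | (delta _root_.Cfsg.Agent.KOa45719e.k22; exact @Subtype.property _ (fun g => @Cfsg.Agent.H290.Cov30.ncl = @g) _) | rfl | trivial
private noncomputable def _root_.Cfsg.Agent.KOa45719e.k23 : (by first | exact type_of% @Cfsg.Agent.H290.Cov30.tq | exact Unit : Sort _) := by first | (refine @Subtype.val _ (fun g => @Cfsg.Agent.H290.Cov30.tq = @g) (@Subtype.mk _ _ (@(fun x0 x1 x2 x3 x4 => @Bool.rec.{1} @(fun x5 => @Bool) @Bool.false (@Cfsg.Agent.KOa45719e.k8.{1} @Bool (@Nat.mod (@Nat.mul @x3 (@Cfsg.Agent.KOa45719e.k13 @x0 @x4)) @x2) (nat_lit 0) @Bool.false @Bool.true) (@Cfsg.Agent.KOa45719e.k1.{0} _ @x1 @(fun x5 => @Cfsg.Agent.KOa45719e.k8.{1} @Bool (@Nat.mod @x2 (@Cfsg.Agent.KOa45719e.k22 @x5 @x4)) (nat_lit 0) @Bool.false @Bool.true))))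 ?_); rewrite [← Cfsg.Agent.KOa45719e.e22, ← Cfsg.Agent.KOa45719e.e1.{0}, ← Cfsg.Agent.KOa45719e.e13, ← Cfsg.Agent.KOa45719e.e8.{1}]; (try delta Cfsg.Agent.H290.Cov30.tq); (try generalize @Cfsg.Agent.H563.KG.OL = g0); (try generalize @Cfsg.Agent.H290.Cov30.ncl = g1); rfl') | exact @Cfsg.Agent.H290.Cov30.tq | exact ()
private theorem _root_.Cfsg.Agent.KOa45719e.e23 : (by first | exact @Cfsg.Agent.H290.Cov30.tq = @_root_.Cfsg.Agent.KOa45719e.k23 | exact True : Prop) := by first | (delta _root_.Cfsg.Agent.KOa45719e.k23; exact @Subtype.property _ (fun g => @Cfsg.Agent.H290.Cov30.tq = @g) _) | rfl | trivial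
private noncomputable def _root_.Cfsg.Agent.KOa45719e.k24 : (by first | exact type_of% @Cfsg.Agent.H902.Art.dd | exact Unit : Sort _) := by first | (refine @Subtype.val _ (fun g => @Cfsg.Agent.H902.Art.dd = @g) (@Subtype.mk _ _ (@(fun x0 x1 => @Cfsg.Agent.H902.Art.Sh.rec.{1} @(fun x2 => ((@Nat.hasNotBit (nat_lit 1439) (@Cfsg.Agent.H902.Art.Sh.ctorIdx @x2)) → ℕ) → ℕ) @(fun x2 x3 => @Nat.gcd @x2 (@Nat.sub @x1 (nat_lit 1))) @(fun x2 x3 => @Nat.gcd (nat_lit 2) (@Nat.sub @x1 (nat_lit 1))) @(fun x2 x3 => @Nat.gcd @x2 (@Nat.add @x1 (nat_lit 1))) @(fun x2 x3 => @Nat.gcd (nat_lit 4) (@Nat.sub (@Nat.pow @x1 @x2) (nat_lit 1))) @(fun x2 x3 => @Nat.gcd (nat_lit 4) (@Nat.add (@Nat.pow @x1 @x2) (nat_lit 1))) @(fun x2 => @x2 (@Nat.ne_of_beq_eq_false _ _ (@Eq.refl.{1} _ @Bool.false))) @(fun x2 => @x2 (@Nat.ne_of_beq_eq_false _ _ (@Eq.refl.{1} _ @Bool.false))) @(fun x2 => @Nat.gcd (nat_lit 3) (@Nat.sub @x1 (nat_lit 1)))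 @(fun x2 => @Nat.gcd (nat_lit 2) (@Nat.sub @x1 (nat_lit 1))) @(fun x2 => @x2 (@Nat.ne_of_beq_eq_false _ _ (@Eq.refl.{1} _ @Bool.false))) @(fun x2 => @Nat.gcd (nat_lit 3) (@Nat.add @x1 (nat_lit 1))) @(fun x2 => @x2 (@Nat.ne_of_beq_eq_false _ _ (@Eq.refl.{1} _ @Bool.false))) @(fun x2 => @x2 (@Nat.ne_of_beq_eq_false _ _ (@Eq.refl.{1} _ @Bool.false))) @(fun x2 => @x2 (@Nat.ne_of_beq_eq_false _ _ (@Eq.refl.{1} _ @Bool.false))) @(fun x2 => @x2 (@Nat.ne_of_beq_eq_false _ _ (@Eq.refl.{1} _ @Bool.false))) @x0 @(fun x2 => nat_lit 1))) ?_); (try delta Cfsg.Agent.H902.Art.dd); (try generalize @Cfsg.Agent.H902.Art.Sh.ctorIdx = g0); rfl') | exact @Cfsg.Agent.H902.Art.dd | exact ()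
private theorem _root_.Cfsg.Agent.KOa45719e.e24 : (by first | exact @Cfsg.Agent.H902.Art.dd = @_root_.Cfsg.Agent.KOa45719e.k24 | exact True : Prop) := by first | (delta _root_.Cfsg.Agent.KOa45719e.k24; exact @Subtype.property _ (fun g => @Cfsg.Agent.H902.Art.dd = @g) _) | rfl | trivial
private noncomputable def _root_.Cfsg.Agent.KOa45719e.k25 : (by first | exact type_of% @Cfsg.Agent.H290.Cov30.svR | exact Unit : Sort _) := by first | (refine @Subtype.val _ (fun g => @Cfsg.Agent.H290.Cov30.svR = @g) (@Subtype.mk _ _ (@(fun x0 x1 x2 => @Cfsg.Agent.KOa45719e.k1.{0} _ (@Cfsg.Agent.KOa45719e.k6 @x0) @(fun x3 => @Cfsg.Agent.KOa45719e.k1.{0} _ @Cfsg.Agent.H563.KG.sm @(fun x4 => @Bool.rec.{1} @(fun x5 => @Bool) (@Bool.rec.{1} @(fun x5 => @Bool) @Bool.true @Bool.false (@Cfsg.Agent.KOa45719e.k23 @x1 @x2 (@Cfsg.Agent.KOa45719e.k13 (@Prod.fst.{0, 0} _ _ @x3) (@Nat.pow (@Prod.fst.{0, 0} _ _ (@Prod.snd.{0, 0} _ _ @x3))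 (@Prod.snd.{0, 0} _ _ (@Prod.snd.{0, 0} _ _ @x3)))) (@Cfsg.Agent.KOa45719e.k24 (@Prod.fst.{0, 0} _ _ @x3) (@Nat.pow (@Prod.fst.{0, 0} _ _ (@Prod.snd.{0, 0} _ _ @x3)) (@Prod.snd.{0, 0} _ _ (@Prod.snd.{0, 0} _ _ @x3)))) (@Prod.snd.{0, 0} _ _ @x4))) @Bool.true (@Cfsg.Agent.KOa45719e.k8.{1} @Bool (@Prod.fst.{0, 0} _ _ @x4) (@Prod.fst.{0, 0} _ _ (@Prod.snd.{0, 0} _ _ @x3)) @Bool.false @Bool.true))))) ?_); rewrite [← Cfsg.Agent.KOa45719e.e8.{1}, ← Cfsg.Agent.KOa45719e.e24, ← Cfsg.Agent.KOa45719e.e13, ← Cfsg.Agent.KOa45719e.e23, ← Cfsg.Agent.KOa45719e.e6, ← Cfsg.Agent.KOa45719e.e1.{0}]; (try delta Cfsg.Agent.H290.Cov30.svR); (try generalize @Cfsg.Agent.H290.ElTab.reg = g0); (try generalize @Cfsg.Agent.H563.KG.sm = g1); (try generalize @Cfsg.Agent.H290.Cov30.tq = g2); (try generalize @Cfsg.Agent.H563.KG.OL = g3); (try generalize @Cfsg.Agent.H902.Art.dd = g4); rfl') | exact @Cfsg.Agent.H290.Cov30.svR | exact ()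
private theorem _root_.Cfsg.Agent.KOa45719e.e25 : (by first | exact @Cfsg.Agent.H290.Cov30.svR = @_root_.Cfsg.Agent.KOa45719e.k25 | exact True : Prop) := by first | (delta _root_.Cfsg.Agent.KOa45719e.k25; exact @Subtype.property _ (fun g => @Cfsg.Agent.H290.Cov30.svR = @g) _) | rfl | trivial

theorem svR_E8a : svR 248 .E8 [24, 30] = true := by (first | (rewrite [Cfsg.Agent.KOa45719e.e25]; decide +kernel) | decide +kernel)
theorem svR_E8b : svR 248 .E8 [20, 30] = true := by (first | (rewrite [Cfsg.Agent.KOa45719e.e25]; decide +kernel) | decide +kernel)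
theorem svS_E8a : svS .E8 [24, 30] = true := by decide +kernel
theorem svS_E8b : svS .E8 [20, 30] = true := by decide +kernel

/-- the small-field test is passed -/
theorem tq_of {Y : Art.Sh} {cls : List ℕ} {M d N q : ℕ} (hcls : ∀ e ∈ cls, ncl e q ∣ M) (hM : M = d * N)
    (hd : N ∣ OL Y q) : tq Y cls M d q = true := by
  unfold tq
  simp only [Bool.and_eq_true, List.all_eq_true, beq_iff_eq]
  exact ⟨fun e he => Nat.mod_eq_zero_of_dvd (hcls e he), Nat.mod_eq_zero_of_dvd (hM ▸ Nat.mul_dvd_mul_left d hd)⟩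

variable {n : ℕ} {Y : Art.Sh} {cls : List ℕ} {e₀ p f : ℕ}

/-- **Cross characteristic.** -/
theorem no_cross (hn : n ≤ 248) (hb : bndR n e₀ = true) (hs : svR n Y cls = true) (he₀ : Cls e₀) (hmem : e₀ ∈ cls)
    (hle : ∀ q, ncl e₀ q ≤ 600000 → q ≤ 7) {X : Art.Sh} {l a N : ℕ}
    (hR : Art.Real X l a N) (hlb : lb X (l ^ a) ≤ n) (hp : p.Prime) (hf : 1 ≤ f) (hpl : p ≠ l)
    (hcls : ∀ e ∈ cls, ncl e (p ^ f) ∣ N) (hd : N ∣ OL Y (p ^ f)) : False := by
  obtain ⟨hl, ha, hokX, heq⟩ := hR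
  have hq : 2 ≤ p ^ f := hp.two_le.trans (Nat.le_self_pow (by omega) p)
  have hreg := mem_reg hn hl ha hokX hlb
  have hs' : smooth (NA X l a) = true :=
    List.all_eq_true.1 smooth_reg (X, (l, a)) (mem_reg le_rfl hl ha hokX (hlb.trans hn))
  have hsS : smooth (NS X l a) = true := by
    have h1 : NS X l a ∣ NA X l a := Dvd.intro_left _ rfl
    have h2 : NA X l a ∣ prs.prod ^ 100 := Nat.dvd_of_mod_eq_zero (by simpa [smooth] using hs')
    simpa [smooth] using Nat.mod_eq_zero_of_dvd (h1.trans h2)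
  have hM : OL X (l ^ a) = Art.dd X (l ^ a) * N := by unfold OL; rw [numL_eq]; exact heq.symm
  have hNM : N ∣ OL X (l ^ a) := Dvd.intro_left _ hM.symm
  have hNS : ∀ r, r.Prime → r ∣ N → r ∣ NS X l a := by
    intro r hr h
    unfold NS
    have h1 : r ∣ (l ^ a) ^ Art.NN X * numL X (l ^ a) := h.trans hNM
    rcases hr.dvd_mul.1 h1 with h2 | h2
    · exact (hr.dvd_of_dvd_pow (hr.dvd_of_dvd_pow h2)).mul_right _
    · exact h2.mul_left _
  have hb' := List.all_eq_true.1 hb (X, (l, a)) hreg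
  simp only [Bool.and_eq_true, Nat.ble_eq, Nat.blt_eq] at hb'
  have hM0 : OL X (l ^ a) ≠ 0 := by
    intro h0
    have h1 := List.all_eq_true.1 hs (X, (l, a)) hreg
    -- `M = 0` is impossible: `De 0 = ...`
    have h2 : ncl e₀ (p ^ f) ∣ N := hcls e₀ hmem
    have h3 : l ^ a ≠ 0 := pow_ne_zero _ hl.ne_zero
    have h4 : NS X l a ≠ 0 := by
      intro h5
      have h6 : NS X l a ∣ prs.prod ^ 100 := Nat.dvd_of_mod_eq_zero (by simpa [smooth] using hsS)
      rw [h5] at h6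
      have h7 := Nat.eq_zero_of_zero_dvd h6
      have h8 : prs.prod ≠ 0 := by decide +kernel
      exact pow_ne_zero 100 h8 h7
    apply h4
    unfold OL at h0
    rcases Nat.mul_eq_zero.1 h0 with h5 | h5
    · exact absurd h5 (pow_ne_zero _ h3)
    · unfold NS
      rw [h5, mul_zero]
  have h1 : ncl e₀ (p ^ f) ∣ De (pd (NS X l a)) (OL X (l ^ a)) e₀ := by
    refine dvd_De hM0 hb'.2 ((hcls e₀ hmem).trans hNM) fun r hr hrd => ?_
    have hprim := prim_of_dvd he₀ (by omega) hr hrd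
    exact ⟨mem_pd hsS hr (hNS r hr (hrd.trans (hcls e₀ hmem))), mod_of_prim hq (by
      have := he₀.ge
      omega) hprim⟩
  have h2 : ncl e₀ (p ^ f) ≤ 600000 := by
    have h3 : De (pd (NS X l a)) (OL X (l ^ a)) e₀ ≠ 0 := by
      unfold De
      intro h4
      rw [List.prod_eq_zero_iff, List.mem_map] at h4
      obtain ⟨r, -, h5⟩ := h4
      exact hM0 (Nat.eq_zero_of_gcd_eq_zero_left h5)
    exact (Nat.le_of_dvd (Nat.pos_of_ne_zero h3) h1).trans hb'.1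
  have h3 := mem_sm hp hf (hle _ h2)
  have h4 := List.all_eq_true.1 (List.all_eq_true.1 hs (X, (l, a)) hreg) _ h3
  rw [tq_of (fun e he => (hcls e he).trans hNM) hM hd] at h4
  simp at h4
  exact hpl h4

/-- **Sporadic groups.** -/
theorem no_spor (hb : bndS e₀ = true) (hs : svS Y cls = true) (he₀ : Cls e₀) (hmem : e₀ ∈ cls)
    (hle : ∀ q, ncl e₀ q ≤ 600000 → q ≤ 7) {x : Cfsg.Agent.OrdDiv.Grp × ℕ} (hx : x ∈ Cfsg.Agent.OrdDiv.spor)
    (hp : p.Prime) (hf : 1 ≤ f)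
    (hcls : ∀ e ∈ cls, ncl e (p ^ f) ∣ x.2) (hd : x.2 ∣ OL Y (p ^ f)) : False := by
  have hq : 2 ≤ p ^ f := hp.two_le.trans (Nat.le_self_pow (by omega) p)
  have hs' : smooth x.2 = true := List.all_eq_true.1 smooth_spor x hx
  have hb' := List.all_eq_true.1 hb x hx
  simp only [Bool.and_eq_true, Nat.ble_eq, Nat.blt_eq] at hb'
  have hM0 : x.2 ≠ 0 := by
    have : ∀ x ∈ Cfsg.Agent.OrdDiv.spor, x.2 ≠ 0 := by decide +kernel
    exact this x hx
  have h1 : ncl e₀ (p ^ f) ∣ De (pd x.2) x.2 e₀ := by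
    refine dvd_De hM0 hb'.2 (hcls e₀ hmem) fun r hr hrd => ?_
    have hprim := prim_of_dvd he₀ (by omega) hr hrd
    exact ⟨mem_pd hs' hr (hrd.trans (hcls e₀ hmem)), mod_of_prim hq (by
      have := he₀.ge
      omega) hprim⟩
  have h2 : ncl e₀ (p ^ f) ≤ 600000 := by
    have h3 : De (pd x.2) x.2 e₀ ≠ 0 := by
      unfold De
      intro h4
      rw [List.prod_eq_zero_iff, List.mem_map] at h4
      obtain ⟨r, -, h5⟩ := h4
      exact hM0 (Nat.eq_zero_of_gcd_eq_zero_left h5)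
    exact (Nat.le_of_dvd (Nat.pos_of_ne_zero h3) h1).trans hb'.1
  have h3 := mem_sm hp hf (hle _ h2)
  have h4 := List.all_eq_true.1 (List.all_eq_true.1 hs x hx) _ h3
  rw [tq_of hcls (one_mul _).symm hd] at h4
  simp at h4

end Cfsg.Agent.H290.Cov30
end

-- part: H290/Cov/C30
section
/-!
# The core argument for the classes 20, 24, 30 of `E₈(q)` (helper290, after helper563's `KG.Elim`, `KG.Core`)
-/

set_option autoImplicit false

namespace Cfsg.Agent.H290.Cov30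

open Cfsg Cfsg.Agent.OrdDiv Cfsg.Agent.H436 Cfsg.Agent.H902 Cfsg.Agent.H902.Names Cfsg.Agent.H915.GN
  Cfsg.Agent.H290.ElReg Cfsg.Agent.H290.ElTab Cfsg.Agent.H264.FKS Cfsg.Agent.H56.Exc Cfsg.Agent.H325.Loc Cfsg.Agent.H563.KG

/-- in the alternating group `A_m` the number `ncl e q` lies between `m - 3` and `m` -/
theorem window {q e m : ℕ} (hq : 2 ≤ q) (he : Cls e) (he7 : 7 ≤ e) {S : Type*} [Group S] [Finite S] (hm : 2 ≤ m)
    (Φ : S ≃* alternatingGroup (Fin m)) (hn : ncl e q ∣ Nat.card S)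
    (hcen : ∀ r, Prim q e r → ∀ x : S, orderOf x = r → Group.IsNilpotent (Subgroup.centralizer ({x} : Set S))) :
    ncl e q ≤ m ∧ m ≤ ncl e q + 3 := by
  obtain ⟨r, hr⟩ := exists_prim hq (show 3 ≤ e by omega) (by omega)
  have key : ∀ s, Prim q e s → s ≤ m ∧ m ≤ s + 3 := fun s hs => by
    have h1 : s ∣ Nat.card S := (dvd_ncl he (by omega) hs).trans hn
    have h5 := five_le_of_cls hq he7 hs
    exact ⟨Cfsg.Agent.H290.ElRich.le_of_dvd_alt hs.prime hm Φ h1,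
      Cfsg.Agent.H290.ElRich.alt_le hs.prime (by omega) Φ h1 (hcen s hs)⟩
  have hmod : ∀ s, Prim q e s → e ∣ s - 1 := fun s hs => Nat.dvd_of_mod_eq_zero (mod_of_prim hq (by omega) hs)
  have huniq : ∀ {s : ℕ}, s.Prime → s ∣ ncl e q → s = r := by
    intro s hs hsd
    have hs' := prim_of_dvd he (by omega) hs hsd
    have h1 := key s hs'
    have h2 := key r hr
    have h3 := hmod s hs'
    have h4 := hmod r hr
    have h5 := five_le_of_cls hq he7 hs'
    have h6 := five_le_of_cls hq he7 hr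
    by_contra hne
    rcases Nat.lt_or_gt_of_ne hne with h | h
    · have h7 := Nat.le_of_dvd (by omega) (Nat.dvd_sub h4 h3)
      omega
    · have h7 := Nat.le_of_dvd (by omega) (Nat.dvd_sub h3 h4)
      omega
  have hpow := Nat.eq_prime_pow_of_unique_prime_dvd (ncl_pos e (by omega : 1 ≤ q)).ne' huniq
  set k := (ncl e q).primeFactorsList.length with hk
  have hr1 : r ∣ ncl e q := dvd_ncl he (by omega) hr
  have h2 := key r hr
  have h8 := five_le_of_cls hq he7 hr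
  have hk1 : k = 1 := by
    have hk0 : k ≠ 0 := by
      intro h0
      rw [h0, pow_zero] at hpow
      rw [hpow] at hr1
      exact hr.prime.one_lt.ne' (Nat.dvd_one.1 hr1)
    by_contra hk1
    have h3 : r ^ 2 ∣ ncl e q := by rw [hpow]; exact pow_dvd_pow _ (by omega)
    have : Nontrivial (Fin m) := Fin.nontrivial_iff_two_le.2 hm
    have h4 : 2 * Nat.card S = m.factorial := by
      rw [Nat.card_congr Φ.toEquiv, Nat.card_eq_fintype_card, two_mul_card_alternatingGroup, Fintype.card_perm,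
        Fintype.card_fin]
    refine sq_not_dvd_factorial hr.prime (m := m) (by omega) ?_
    rw [← h4]
    exact (h3.trans hn).mul_left _
  rw [hpow, hk1, pow_one]
  exact h2

variable {n : ℕ} {Y : Art.Sh} {cls : List ℕ} {e₀ p f : ℕ}

/-- **The name.** -/
theorem exists_name (tb : OrderTable.{0}) (hn : n ≤ 248) (hb : bndR n e₀ = true) (hs : svR n Y cls = true) (hbS : bndS e₀ = true)
    (hsS : svS Y cls = true) (he₀ : Cls e₀) (hmem : e₀ ∈ cls) (hle : ∀ q, ncl e₀ q ≤ 600000 → q ≤ 7)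
    (hp : p.Prime) (hf : 1 ≤ f) {F : Type} [Field F] [CharP F p] {S : Type} [Group S] [Finite S] [IsSimpleGroup S]
    (hna : ¬ IsMulCommutative S) (hK : IsKnownSimple' S) (hrep : Fth n F S)
    (hcls : ∀ e ∈ cls, ncl e (p ^ f) ∣ Nat.card S) (hd : Nat.card S ∣ OL Y (p ^ f))
    {e e' : ℕ} (he : e ∈ cls) (he' : e' ∈ cls) (hcl : Cls e) (hcl' : Cls e') (he7 : 7 ≤ e) (he7' : 7 ≤ e')
    (hd4 : ncl e (p ^ f) + 4 ≤ ncl e' (p ^ f) ∨ ncl e' (p ^ f) + 4 ≤ ncl e (p ^ f))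
    (hcyc : ∀ r, Prim (p ^ f) e r ∨ Prim (p ^ f) e' r → ∀ x : S, orderOf x = r → IsCyclic ↥(Subgroup.centralizer {x})) :
    ∃ g, IsNamed g S ∧ HasChar p g := by
  have hna' : ¬ ∀ a b : S, a * b = b * a := fun h => hna ⟨⟨h⟩⟩
  have hq : 2 ≤ p ^ f := hp.two_le.trans (Nat.le_self_pow (by omega) p)
  obtain ⟨g, hgS⟩ := exists_named tb hK hna'
  rcases Cfsg.Agent.H192.Singer.cases_name hgS.cond with ⟨m, rfl⟩ | hsp | ⟨l, hl, hch⟩
  · exfalso
    obtain ⟨Φ⟩ : Nonempty (S ≃* alternatingGroup (Fin m)) := hgS.real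
    have hm : 5 ≤ m := hgS.cond
    have hnil : ∀ r, Prim (p ^ f) e r ∨ Prim (p ^ f) e' r → ∀ x : S, orderOf x = r →
        Group.IsNilpotent (Subgroup.centralizer ({x} : Set S)) := by
      intro r hr x hx
      have := hcyc r hr x hx
      let _ := IsCyclic.commGroup (α := ↥(Subgroup.centralizer ({x} : Set S)))
      infer_instance
    have h1 := window hq hcl he7 (by omega) Φ (hcls e he) fun r hr => hnil r (Or.inl hr)
    have h2 := window hq hcl' he7' (by omega) Φ (hcls e' he') fun r hr => hnil r (Or.inr hr)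
    omega
  · exfalso
    have h1 := Cfsg.Agent.H192.Singer.spor_mem hsp
    have h2 : Nat.card S = ordN g := hgS.ord
    exact no_spor hbS hsS he₀ hmem hle h1 hp hf (fun e he => by rw [← h2]; exact hcls e he) (by rw [← h2]; exact hd)
  · by_cases hpl : p = l
    · subst hpl
      exact ⟨g, hgS, hch⟩
    · exfalso
      obtain ⟨X, f₁, h1, h2, -⟩ := exists_lie hl hgS hch
      have hlF : (l : F) ≠ 0 := by
        intro h
        exact hpl ((Nat.prime_dvd_prime_iff_eq hp hl).1 ((CharP.cast_eq_zero_iff F p l).1 h))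
      have h3 := lb_le hna' hn hrep h1 hgS.real h2 hlF
      exact no_cross hn hb hs he₀ hmem hle h2 h3 hp hf hpl hcls hd

theorem coprime_of_prim {e q n : ℕ} (he : Cls e) (hq : 1 ≤ q) (h : ∀ r, Prim q e r → ¬ r ∣ n) : Nat.Coprime (ncl e q) n := by
  by_contra hcon
  obtain ⟨r, hr, h1, h2⟩ := Nat.Prime.not_coprime_iff_dvd.1 hcon
  exact h r (prim_of_dvd he hq hr h1) h2

theorem off_coprime {T : Type*} [Group T] {q : ℕ} {cls : List ℕ} {B : Subgroup T} (h : Off q cls B) {e : ℕ}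
    (hm : e ∈ cls) (he : Cls e) (hq : 1 ≤ q) : Nat.Coprime (ncl e q) B.index :=
  coprime_of_prim he hq (h e hm)

theorem off_ncl_dvd {T : Type*} [Group T] {q : ℕ} {cls : List ℕ} {B : Subgroup T} (h : Off q cls B) {e : ℕ}
    (hm : e ∈ cls) (he : Cls e) (hq : 1 ≤ q) (hT : ncl e q ∣ Nat.card T) : ncl e q ∣ Nat.card B := by
  rw [← B.index_mul_card] at hT
  exact (off_coprime h hm he hq).dvd_of_dvd_mul_left hT

variable {fam : List ℕ} {M E : ℕ → ℕ}

/-- the tables needed for a shape `Y` and the classes `cls` in dimension `n` -/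
structure Tbl (n : ℕ) (Y : Art.Sh) (cls : List ℕ) (e₀ : ℕ) : Prop where
  hn : n ≤ 248
  hb : bndR n e₀ = true
  hs : svR n Y cls = true
  hbS : bndS e₀ = true
  hsS : svS Y cls = true
  he₀ : Cls e₀
  hmem : e₀ ∈ cls
  hle : ∀ q, ncl e₀ q ≤ 600000 → q ≤ 7

/-- the family of big primes of a subgroup -/
theorem rfam_of {T : Type*} [Group T] [Finite T] (hp : p.Prime) (hf : 1 ≤ f)
    (hcl : ∀ c ∈ fam, Cls c) (h7 : ∀ c ∈ fam, 7 ≤ c)
    (hbig : ∀ c ∈ fam, ∀ r, Prim (p ^ f) c r → Big T r (M c) (E c)) (hM : ∀ c ∈ fam, M c ∣ (p ^ f) ^ c - 1)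
    (hE : ∀ c ∈ fam, ∀ s, s.Prime → s ∣ E c → s ≤ 7) (hsep : ∀ c ∈ fam, ∃ c' ∈ fam, ¬ c' ∣ c)
    (hnT : ∀ c ∈ fam, ncl c (p ^ f) ∣ Nat.card T) {B : Subgroup T} (hoff : Off (p ^ f) fam B) :
    RFam ↥B (Fm (p ^ f) fam M E) where
  big := by
    rintro r m e ⟨c, hc, h, rfl, rfl⟩
    exact (hbig c hc r h).subgroup B
  dvd := by
    rintro r m e ⟨c, hc, h, rfl, rfl⟩
    have hq : 1 ≤ p ^ f := Nat.one_le_pow _ _ hp.pos
    exact (dvd_ncl (hcl c hc) hq h).trans (off_ncl_dvd hoff hc (hcl c hc) hq (hnT c hc))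
  sep := by
    rintro r m e ⟨c, hc, h, rfl, rfl⟩ hcon
    have hq2 : 2 ≤ p ^ f := hp.two_le.trans (Nat.le_self_pow (by omega) p)
    obtain ⟨c', hc', hcc⟩ := hsep c hc
    obtain ⟨s, hs⟩ := exists_prim hq2 (show 3 ≤ c' by have := h7 c' hc'; omega) (by have := h7 c' hc'; omega)
    have h1 : s ∣ Nat.card B :=
      (dvd_ncl (hcl c' hc') (by omega) hs).trans (off_ncl_dvd hoff hc' (hcl c' hc') (by omega) (hnT c' hc'))
    rcases hs.prime.dvd_mul.1 (h1.trans hcon) with h2 | h2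
    · have h3 := hE c hc s hs.prime h2
      have h4 := lt_of_prim hq2 (by have := h7 c' hc'; omega) hs
      have := h7 c' hc'
      omega
    · exact hcc ((hs.dvd_iff c).1 (h2.trans (hM c hc)))

/-- **The simple normal subgroup.** -/
theorem core (tb : OrderTable.{0}) (hcyc : CycFixSolv.{0})
    (hcfsg : ∀ (S : Type) [Group S] [Finite S] [IsSimpleGroup S], IsKnownSimple' S)
    (ht : Tbl n Y cls e₀) (hsub : ∀ c ∈ cls, c ∈ fam) {e e' : ℕ} (hee : e ∈ cls) (hee' : e' ∈ cls)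
    (hd4 : ncl e (p ^ f) + 4 ≤ ncl e' (p ^ f) ∨ ncl e' (p ^ f) + 4 ≤ ncl e (p ^ f))
    (hcl : ∀ c ∈ fam, Cls c) (h7 : ∀ c ∈ fam, 7 ≤ c)
    (hp : p.Prime) (hf : 1 ≤ f) {F : Type} [Field F] [CharP F p]
    {T : Type} [Group T] [Finite T] (hrep : Fth n F T) (hdT : Nat.card T ∣ OL Y (p ^ f))
    (hbig : ∀ c ∈ fam, ∀ r, Prim (p ^ f) c r → Big T r (M c) (E c)) (hM : ∀ c ∈ fam, M c ∣ (p ^ f) ^ c - 1)
    (hE : ∀ c ∈ fam, ∀ s, s.Prime → s ∣ E c → s ≤ 7) (hsep : ∀ c ∈ fam, ∃ c' ∈ fam, ¬ c' ∣ c)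
    (hnT : ∀ c ∈ fam, ncl c (p ^ f) ∣ Nat.card T)
    {c₀ r₀ : ℕ} (hc₀ : c₀ ∈ fam) (hr₀ : Prim (p ^ f) c₀ r₀) (hpiso : PIso p r₀ T)
    {B : Subgroup T} (hoff : Off (p ^ f) fam B)
    (hgood : ∀ t : ℕ, t.Prime → t ≠ p → (∀ c ∈ fam, ¬ Prim (p ^ f) c t) → t ∣ Nat.card B → _root_.Cfsg.Agent.H563.KG.Good B n t) :
    ∃ (S : Subgroup B) (_ : S.Normal) (_ : IsSimpleGroup S), ¬ IsMulCommutative S ∧
      (∀ c ∈ fam, ncl c (p ^ f) ∣ Nat.card S) ∧ (∀ c ∈ fam, S.index ∣ E c * M c) ∧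
      (∀ c ∈ fam, ∀ r, Prim (p ^ f) c r → Big S r (M c) (E c) ∧ ¬ r ∣ S.index ∧ r ∣ Nat.card S) ∧
      ∃ g, IsNamed g S ∧ HasChar p g := by
  have := Fact.mk hp
  have hq2 : 2 ≤ p ^ f := hp.two_le.trans (Nat.le_self_pow (by omega) p)
  have hq1 : 1 ≤ p ^ f := by omega
  have hrf := rfam_of hp hf hcl h7 hbig hM hE hsep hnT hoff
  obtain ⟨τ, hτ⟩ := hrep.sub B.subtype B.subtype_injective
  have hr₀B : r₀ ∣ Nat.card B :=
    (dvd_ncl (hcl c₀ hc₀) hq1 hr₀).trans (off_ncl_dvd hoff hc₀ (hcl c₀ hc₀) hq1 (hnT c₀ hc₀))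
  have hred : Red ↥B (Pr (Fm (p ^ f) fam M E)) := by
    refine red_of hcyc hτ (fun A hA hAp => pcore_of_piso (hpiso.sub B) hr₀B A hA hAp)
      (pr_fm.2 ⟨c₀, hc₀, hr₀⟩) hr₀.prime hr₀B
      (fun x hx => ((hbig c₀ hc₀ r₀ hr₀).subgroup B).cyc x hx) fun t ht htp htn htB => ?_
    rw [Fintype.card_fin]
    exact hgood t ht htp (fun c hc h => htn (pr_fm.2 ⟨c, hc, h⟩)) htB
  obtain ⟨S, hSn, hSs, hSna, hS⟩ :=
    hrf.exists_full hcyc hred (r₁ := r₀) (m₁ := M c₀) (e₁ := E c₀) ⟨c₀, hc₀, hr₀, rfl, rfl⟩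
  have hall : ∀ c ∈ fam, ∀ r, Prim (p ^ f) c r →
      Big S r (M c) (E c) ∧ r ∣ Nat.card S ∧ ¬ r ∣ S.index ∧ S.index ∣ E c * M c :=
    fun c hc r h => hS r (M c) (E c) ⟨c, hc, h, rfl, rfl⟩
  have hnS : ∀ c ∈ fam, ncl c (p ^ f) ∣ Nat.card S := by
    intro c hc
    have h1 := off_ncl_dvd hoff hc (hcl c hc) hq1 (hnT c hc)
    rw [← S.index_mul_card] at h1
    exact (coprime_of_prim (hcl c hc) hq1 fun r h => (hall c hc r h).2.2.1).dvd_of_dvd_mul_left h1
  have hSs' : IsSimpleGroup S := hSs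
  refine ⟨S, hSn, hSs, hSna, hnS, fun c hc => ?_, fun c hc r h => ⟨(hall c hc r h).1, (hall c hc r h).2.2.1,
    (hall c hc r h).2.1⟩, ?_⟩
  · obtain ⟨r, hr⟩ := exists_prim hq2 (show 3 ≤ c by have := h7 c hc; omega) (by have := h7 c hc; omega)
    exact (hall c hc r hr).2.2.2
  · have hdS : Nat.card S ∣ OL Y (p ^ f) :=
      ((Subgroup.card_subgroup_dvd_card S).trans (Subgroup.card_subgroup_dvd_card B)).trans hdT
    refine exists_name tb ht.hn ht.hb ht.hs ht.hbS ht.hsS ht.he₀ ht.hmem ht.hle hp hf hSna (hcfsg S)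
      ((hrep.sub B.subtype B.subtype_injective).sub S.subtype S.subtype_injective) (fun c hc => hnS c (hsub c hc)) hdS
      hee hee' (hcl e (hsub e hee)) (hcl e' (hsub e' hee')) (h7 e (hsub e hee)) (h7 e' (hsub e' hee')) hd4 ?_
    · rintro r (h | h) x hx
      · exact (hall e (hsub e hee) r h).1.cyc x hx
      · exact (hall e' (hsub e' hee') r h).1.cyc x hx


theorem ord_free {G : Type*} [Group G] [Finite G] {q e N t : ℕ} (h : Ord G q e N) (he : Cls e) (hq : 1 ≤ q)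
    (ht : t.Prime) (hN : ¬ t ∣ N) : Free G t (ncl e q) := by
  intro x hx hxm a ha hc
  have h1 := h _ (prim_of_dvd he hq hx hxm) x rfl
  have h2 : a ∈ Subgroup.centralizer ({x} : Set G) := Subgroup.mem_centralizer_singleton_iff.2 hc.symm
  have h3 : orderOf a ∣ N := by
    have h4 : orderOf (⟨a, h2⟩ : ↥(Subgroup.centralizer ({x} : Set G))) = orderOf a := by
      rw [← Subgroup.orderOf_coe]
    rw [← h4]
    exact (orderOf_dvd_natCard _).trans h1
  have h4 : orderOf a ∣ t := orderOf_dvd_of_pow_eq_one ha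
  rcases (Nat.dvd_prime ht).1 h4 with h5 | h5
  · rwa [orderOf_eq_one_iff] at h5
  · rw [h5] at h3
    exact absurd h3 hN

/-- a prime dividing `ncl e q` is of class `e` -/
theorem not_dvd_of_not_prim {q e t : ℕ} (he : Cls e) (hq : 1 ≤ q) (ht : t.Prime) (h : ¬ Prim q e t) : ¬ t ∣ ncl e q :=
  fun h1 => h (prim_of_dvd he hq ht h1)

/-- the case of a large class -/
theorem good_one {G : Type*} [Group G] [Finite G] {q e N t n : ℕ} (h : Ord G q e N) (he : Cls e) (hq : 1 ≤ q)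
    (ht : t.Prime) (hN : ¬ t ∣ N) (hn : n < ncl e q) (hG : ncl e q ∣ Nat.card G) : _root_.Cfsg.Agent.H563.KG.Good G n t :=
  ⟨ncl e q, hG, ord_free h he hq ht hN, Or.inl hn⟩

/-- **`E₈(q)`, the class 30.** -/
theorem good_E8 {G : Type*} [Group G] [Finite G] {q n : ℕ} (hn : n ≤ 248) (hq : 2 ≤ q) (h30 : Ord G q 30 (Ph 30 q))
    (g30 : ncl 30 q ∣ Nat.card G) {t : ℕ} (ht : t.Prime) (ht30 : ¬ Prim q 30 t) : _root_.Cfsg.Agent.H563.KG.Good G n t := by
  have hq1 : 1 ≤ q := by omega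
  have c30 : Cls 30 := by unfold Cls; omega
  have h1 := not_dvd_of_not_prim c30 hq1 ht ht30
  rw [← ncl30_eq] at h30
  exact good_one h30 c30 hq1 ht h1 (lt_of_le_of_lt hn (ncl30_gt hq)) g30

theorem Ph_dvd {e q : ℕ} (he : Cls e) (hq : 1 ≤ q) : Ph e q ∣ q ^ e - 1 := by
  rcases he with rfl | rfl | rfl
  · exact dvd_of_cast (c := ((q : ℤ) ^ 2 + 1) * ((q : ℤ) ^ 10 - 1)) (by rw [cast_sub_one hq, cast_Ph20 _ hq]; ring)
  · exact dvd_of_cast (c := ((q : ℤ) ^ 4 + 1) * ((q : ℤ) ^ 12 - 1)) (by rw [cast_sub_one hq, cast_Ph24 _ hq]; ring)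
  · exact dvd_of_cast (c := ((q : ℤ) ^ 15 - 1) * ((q : ℤ) ^ 3 + 1) * ((q : ℤ) ^ 4 - (q : ℤ) ^ 3 + (q : ℤ) ^ 2 - (q : ℤ) + 1))
      (by rw [cast_sub_one hq, cast_Ph30 _ hq]; ring)

/-- `ncl e q` divides the order if it divides the numerator -/
theorem ncl_dvd_card {e d c N q : ℕ} (he : Cls e) (h7 : 7 ≤ e) (hq : 2 ≤ q) (hd0 : 0 < d) (hd : d ≤ 6) (h : d * c = N)
    (hN : ncl e q ∣ N) : ncl e q ∣ c := by
  rw [← h] at hN
  refine (coprime_of_prim he (by omega) fun r hr hrd => ?_).dvd_of_dvd_mul_left hN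
  have h1 := lt_of_prim hq (by omega) hr
  have h2 := Nat.le_of_dvd hd0 hrd
  omega

/-- the numbers are at distance at least four -/
theorem dist_24_30 {q : ℕ} (hq : 2 ≤ q) : ncl 24 q + 4 ≤ ncl 30 q := by
  rw [ncl24_eq, ncl30_eq]
  have h1 := Ph30_ge hq
  have p2 : Ph 24 q = (q ^ 8 + 1) - q ^ 4 := rfl
  have h2 : 2 ^ 4 ≤ q ^ 4 := Nat.pow_le_pow_left hq 4
  have h3 : q ^ 4 ≤ q ^ 8 := Nat.pow_le_pow_right (by omega) (by norm_num)
  omega

theorem dist_20_30 {q : ℕ} (hq : 2 ≤ q) : ncl 20 q + 4 ≤ ncl 30 q := by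
  rw [ncl30_eq]
  have h0 : ncl 20 q ≤ Ph 20 q := Nat.le_of_dvd (Ph_pos 20 (by omega)) (ncl_dvd_Ph 20 q)
  have h1 := Ph30_ge hq
  have p2 : Ph 20 q = (q ^ 8 + q ^ 4 + 1) - (q ^ 6 + q ^ 2) := rfl
  have h2 : 2 ^ 2 ≤ q ^ 2 := Nat.pow_le_pow_left hq 2
  have h3 : 4 * q ^ 4 ≤ q ^ 6 := by
    have : q ^ 6 = q ^ 2 * q ^ 4 := by ring
    rw [this]
    exact Nat.mul_le_mul_right _ h2
  have h4 : 4 * q ^ 2 ≤ q ^ 4 := by
    have : q ^ 4 = q ^ 2 * q ^ 2 := by ring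
    rw [this]
    exact Nat.mul_le_mul_right _ h2
  have h5 : q ^ 6 ≤ q ^ 8 := Nat.pow_le_pow_right (by omega) (by norm_num)
  omega

end Cfsg.Agent.H290.Cov30
end

-- part: H290/Cov/P30
section
/-!
# Elimination for the classes {24, 30}, {20, 30} of `E₈(q)` (helper290, after helper325's `Same.ExcPairE`)
-/

set_option autoImplicit false
set_option linter.unreachableTactic false
set_option linter.unusedTactic false

namespace Cfsg.Agent.H290.Cov30

open Cfsg.Agent.OrdDiv Cfsg.Agent.H436 Cfsg.Agent.H915.GN Cfsg.Agent.H264.GN Cfsg.Agent.H264.FKS Cfsg.Agent.H325.Same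

variable {p f c : ℕ} {g : Grp}

/-- candidates -/
def Out24 : Grp → Prop
  | .psl m _ => m = 5
  | .psp m _ => m = 5
  | .oodd m _ => m = 5
  | .oplus m _ => m = 6
  | .ominus m _ => m = 5
  | .e8 _ => True
  | _ => False

/-- candidates -/
def Out20 : Grp → Prop
  | .psl m _ => m = 3
  | .psp m _ => m = 3
  | .oodd m _ => m = 3
  | .psu m _ => m = 4
  | .oplus m _ => m = 4
  | .f4 _ => True
  | .e8 _ => True
  | _ => False

theorem elimP_e8_24_30 (hg : Cond g) (hch : HasChar p g)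
    (h2 : ag g * 30 ≤ 120 * Mg g) (h1 : ∃ x, Xg g x ∧ 24 * Mg g ∣ 30 * x) (h3 : ∃ x, Xg g x ∧ 30 * Mg g ∣ 30 * x)
    (hY : ∀ k, (k = 4 ∨ k = 5 ∨ 7 ≤ k) → Yg g k → ∃ j, j ∈ [2, 8, 12, 14, 18, 20, 24, 30] ∧ 30 * k ∣ Mg g * j) :
    Out24 g := by
  obtain ⟨x, hx, hxd⟩ := h1
  obtain ⟨y, hy, hyd⟩ := h3
  have h2' : 2 * ag g ≤ 8 * Mg g := by omega
  clear h2
  cases g
  case psl m q =>
    obtain ⟨hm, -, -⟩ := hg
    have hb := bd_psl (ρ := 8) (by omega) h2'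
    have hx' : 1 ≤ x ∧ x ≤ m := hx
    have hy' : 1 ≤ y ∧ y ≤ m := hy
    have hxd' : 24 * m ∣ 30 * x := hxd
    have hyd' : 30 * m ∣ 30 * y := hyd
    have hY4 : 4 ≤ m → 120 ∣ m * 2 ∨ 120 ∣ m * 8 ∨ 120 ∣ m * 12 ∨ 120 ∣ m * 14 ∨ 120 ∣ m * 18 ∨ 120 ∣ m * 20 ∨ 120 ∣ m * 24 ∨ 120 ∣ m * 30 := by
      intro h
      obtain ⟨j, hj, hjd⟩ := hY 4 (by norm_num) (show 2 ≤ 4 ∧ 4 ≤ m from ⟨by norm_num, h⟩)
      have hjd' : 30 * 4 ∣ m * j := hjd
      simp only [List.mem_cons, List.not_mem_nil, or_false] at hj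
      norm_num only at hjd'
      rcases hj with rfl | rfl | rfl | rfl | rfl | rfl | rfl | rfl <;> simp only [hjd', true_or, or_true]
    clear hx hy hxd hyd h2' hch hY
    interval_cases m <;> first | (clear * - hx' hxd'; (solve | lia | omega)) | exact trivial | exact rfl
  case psp m q =>
    obtain ⟨hm, -, -⟩ := hg
    have hb := bd_psp (ρ := 8) (by omega) h2'
    have hx' : 1 ≤ x ∧ x ≤ 2 * m ∧ 2 ∣ x := hx
    have hy' : 1 ≤ y ∧ y ≤ 2 * m ∧ 2 ∣ y := hy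
    have hxd' : 24 * (2 * m) ∣ 30 * x := hxd
    have hyd' : 30 * (2 * m) ∣ 30 * y := hyd
    have hY8 : 8 ≤ 2 * m → 240 ∣ (2 * m) * 2 ∨ 240 ∣ (2 * m) * 8 ∨ 240 ∣ (2 * m) * 12 ∨ 240 ∣ (2 * m) * 14 ∨ 240 ∣ (2 * m) * 18 ∨ 240 ∣ (2 * m) * 20 ∨ 240 ∣ (2 * m) * 24 ∨ 240 ∣ (2 * m) * 30 := by
      intro h
      obtain ⟨j, hj, hjd⟩ := hY 8 (by norm_num) (show 1 ≤ 8 ∧ 8 ≤ 2 * m ∧ 2 ∣ 8 from ⟨by norm_num, h, by norm_num⟩)
      have hjd' : 30 * 8 ∣ (2 * m) * j := hjd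
      simp only [List.mem_cons, List.not_mem_nil, or_false] at hj
      norm_num only at hjd'
      rcases hj with rfl | rfl | rfl | rfl | rfl | rfl | rfl | rfl <;> simp only [hjd', true_or, or_true]
    clear hx hy hxd hyd h2' hch hY
    interval_cases m <;> first | (solve | lia) | exact trivial | exact rfl
  case oodd m q =>
    obtain ⟨hm, -, -⟩ := hg
    have hb := bd_psp (ρ := 8) (by omega) h2'
    have hx' : 1 ≤ x ∧ x ≤ 2 * m ∧ 2 ∣ x := hx
    have hy' : 1 ≤ y ∧ y ≤ 2 * m ∧ 2 ∣ y := hy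
    have hxd' : 24 * (2 * m) ∣ 30 * x := hxd
    have hyd' : 30 * (2 * m) ∣ 30 * y := hyd
    have hY8 : 8 ≤ 2 * m → 240 ∣ (2 * m) * 2 ∨ 240 ∣ (2 * m) * 8 ∨ 240 ∣ (2 * m) * 12 ∨ 240 ∣ (2 * m) * 14 ∨ 240 ∣ (2 * m) * 18 ∨ 240 ∣ (2 * m) * 20 ∨ 240 ∣ (2 * m) * 24 ∨ 240 ∣ (2 * m) * 30 := by
      intro h
      obtain ⟨j, hj, hjd⟩ := hY 8 (by norm_num) (show 1 ≤ 8 ∧ 8 ≤ 2 * m ∧ 2 ∣ 8 from ⟨by norm_num, h, by norm_num⟩)
      have hjd' : 30 * 8 ∣ (2 * m) * j := hjd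
      simp only [List.mem_cons, List.not_mem_nil, or_false] at hj
      norm_num only at hjd'
      rcases hj with rfl | rfl | rfl | rfl | rfl | rfl | rfl | rfl <;> simp only [hjd', true_or, or_true]
    clear hx hy hxd hyd h2' hch hY
    interval_cases m <;> first | (clear * - hx' hxd'; (solve | lia)) | exact trivial | exact rfl
  case psu m q =>
    obtain ⟨hm, -, -⟩ := hg
    have hb := bd_psu (ρ := 8) hm h2'
    have hx' : (1 ≤ x ∧ x ≤ m ∧ 2 ∣ x) ∨ ∃ j, x = 2 * j ∧ j ≤ m ∧ j % 2 = 1 := hx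
    have hy' : (1 ≤ y ∧ y ≤ m ∧ 2 ∣ y) ∨ ∃ j, y = 2 * j ∧ j ≤ m ∧ j % 2 = 1 := hy
    obtain ⟨k, hk⟩ : ∃ k, k = (if m % 2 = 0 then m - 1 else m) := ⟨_, rfl⟩
    have hk' : (m % 2 = 0 ∧ k = m - 1) ∨ (m % 2 = 1 ∧ k = m) := by
      rw [hk]
      split_ifs <;> omega
    have hM : Mg (.psu m q) = 2 * k := by rw [hk]; rfl
    have hxd' : 24 * (2 * k) ∣ 30 * x := hM ▸ hxd
    have hyd' : 30 * (2 * k) ∣ 30 * y := hM ▸ hyd
    clear hx hy hxd hyd h2' hch hY hM hk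
    rcases hk' with ⟨hk1, hk2⟩ | ⟨hk1, hk2⟩ <;> rcases hx' with hx' | ⟨j, rfl, hx'⟩ <;>
      rcases hy' with hy' | ⟨l, rfl, hy'⟩ <;> interval_cases m <;> subst hk2 <;> first | (solve | lia | omega) | exact trivial | exact rfl
  case oplus m q =>
    obtain ⟨hm, -⟩ := hg
    have hb := bd_oplus (ρ := 8) (by omega) h2'
    have hx' : 1 ≤ x ∧ x ≤ 2 * (m - 1) ∧ (2 ∣ x ∨ x = m) := hx
    have hy' : 1 ≤ y ∧ y ≤ 2 * (m - 1) ∧ (2 ∣ y ∨ y = m) := hy
    have hxd' : 24 * (2 * (m - 1)) ∣ 30 * x := hxd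
    have hyd' : 30 * (2 * (m - 1)) ∣ 30 * y := hyd
    have hY8 : 8 ≤ 2 * (m - 1) → 240 ∣ (2 * (m - 1)) * 2 ∨ 240 ∣ (2 * (m - 1)) * 8 ∨ 240 ∣ (2 * (m - 1)) * 12 ∨ 240 ∣ (2 * (m - 1)) * 14 ∨ 240 ∣ (2 * (m - 1)) * 18 ∨ 240 ∣ (2 * (m - 1)) * 20 ∨ 240 ∣ (2 * (m - 1)) * 24 ∨ 240 ∣ (2 * (m - 1)) * 30 := by
      intro h
      obtain ⟨j, hj, hjd⟩ := hY 8 (by norm_num) (show 4 ≤ 8 ∧ 8 ≤ 2 * (m - 1) ∧ 2 ∣ 8 from ⟨by norm_num, h, by norm_num⟩)
      have hjd' : 30 * 8 ∣ (2 * (m - 1)) * j := hjd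
      simp only [List.mem_cons, List.not_mem_nil, or_false] at hj
      norm_num only at hjd'
      rcases hj with rfl | rfl | rfl | rfl | rfl | rfl | rfl | rfl <;> simp only [hjd', true_or, or_true]
    clear hx hy hxd hyd h2' hch hY
    interval_cases m <;> first | (solve | lia | omega) | exact trivial | exact rfl
  case ominus m q =>
    obtain ⟨hm, -⟩ := hg
    have hb := bd_ominus (ρ := 8) (by omega) h2'
    have hx' : 1 ≤ x ∧ x ≤ 2 * m ∧ 2 ∣ x := hx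
    have hy' : 1 ≤ y ∧ y ≤ 2 * m ∧ 2 ∣ y := hy
    have hxd' : 24 * (2 * m) ∣ 30 * x := hxd
    have hyd' : 30 * (2 * m) ∣ 30 * y := hyd
    have hY8 : 8 ≤ 2 * m → 240 ∣ (2 * m) * 2 ∨ 240 ∣ (2 * m) * 8 ∨ 240 ∣ (2 * m) * 12 ∨ 240 ∣ (2 * m) * 14 ∨ 240 ∣ (2 * m) * 18 ∨ 240 ∣ (2 * m) * 20 ∨ 240 ∣ (2 * m) * 24 ∨ 240 ∣ (2 * m) * 30 := by
      intro h
      obtain ⟨j, hj, hjd⟩ := hY 8 (by norm_num) (show 4 ≤ 8 ∧ 8 ≤ 2 * m ∧ 2 ∣ 8 from ⟨by norm_num, h, by norm_num⟩)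
      have hjd' : 30 * 8 ∣ (2 * m) * j := hjd
      simp only [List.mem_cons, List.not_mem_nil, or_false] at hj
      norm_num only at hjd'
      rcases hj with rfl | rfl | rfl | rfl | rfl | rfl | rfl | rfl <;> simp only [hjd', true_or, or_true]
    clear hx hy hxd hyd h2' hch hY
    interval_cases m <;> first | (clear * - hx' hxd'; omega) | exact trivial | exact rfl
  case g2 q =>
    have hx' : x ∈ [2, 6] := hx
    have hy' : y ∈ [2, 6] := hy
    have hxd' : 24 * 6 ∣ 30 * x := hxd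
    have hyd' : 30 * 6 ∣ 30 * y := hyd
    have h4 : 2 * 6 ≤ 8 * 6 := h2'
    simp only [List.mem_cons, List.not_mem_nil, or_false] at hx' hy'
    clear hx hy hxd hyd h2' hch hY
    first | (clear * - hxd' hx'; omega) | exact trivial | exact rfl
  case f4 q =>
    have hx' : x ∈ [2, 6, 8, 12] := hx
    have hy' : y ∈ [2, 6, 8, 12] := hy
    have hxd' : 24 * 12 ∣ 30 * x := hxd
    have hyd' : 30 * 12 ∣ 30 * y := hyd
    have h4 : 2 * 24 ≤ 8 * 12 := h2'
    simp only [List.mem_cons, List.not_mem_nil, or_false] at hx' hy'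
    clear hx hy hxd hyd h2' hch hY
    first | (solve | lia | omega) | exact trivial | exact rfl
  case e6 q =>
    have hx' : x ∈ [2, 5, 6, 8, 9, 12] := hx
    have hy' : y ∈ [2, 5, 6, 8, 9, 12] := hy
    have hxd' : 24 * 12 ∣ 30 * x := hxd
    have hyd' : 30 * 12 ∣ 30 * y := hyd
    have h4 : 2 * 36 ≤ 8 * 12 := h2'
    simp only [List.mem_cons, List.not_mem_nil, or_false] at hx' hy'
    clear hx hy hxd hyd h2' hch hY
    first | omega | exact trivial | exact rfl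
  case e7 q =>
    have hx' : x ∈ [2, 6, 8, 10, 12, 14, 18] := hx
    have hy' : y ∈ [2, 6, 8, 10, 12, 14, 18] := hy
    have hxd' : 24 * 18 ∣ 30 * x := hxd
    have hyd' : 30 * 18 ∣ 30 * y := hyd
    have h4 : 2 * 63 ≤ 8 * 18 := h2'
    simp only [List.mem_cons, List.not_mem_nil, or_false] at hx' hy'
    clear hx hy hxd hyd h2' hch hY
    first | (clear * - hxd' hyd' hx'; (solve | lia | omega)) | exact trivial | exact rfl
  case e8 q =>
    have hx' : x ∈ [2, 8, 12, 14, 18, 20, 24, 30] := hx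
    have hy' : y ∈ [2, 8, 12, 14, 18, 20, 24, 30] := hy
    have hxd' : 24 * 30 ∣ 30 * x := hxd
    have hyd' : 30 * 30 ∣ 30 * y := hyd
    have h4 : 2 * 120 ≤ 8 * 30 := h2'
    simp only [List.mem_cons, List.not_mem_nil, or_false] at hx' hy'
    clear hx hy hxd hyd h2' hch hY
    first | fail | exact trivial | exact rfl
  case te6 q =>
    have hx' : x ∈ [2, 10, 6, 8, 18, 12] := hx
    have hy' : y ∈ [2, 10, 6, 8, 18, 12] := hy
    have hxd' : 24 * 18 ∣ 30 * x := hxd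
    have hyd' : 30 * 18 ∣ 30 * y := hyd
    have h4 : 2 * 36 ≤ 8 * 18 := h2'
    simp only [List.mem_cons, List.not_mem_nil, or_false] at hx' hy'
    clear hx hy hxd hyd h2' hch hY
    first | (solve | lia | omega) | exact trivial | exact rfl
  case td4 q =>
    have hx' : x ∈ [2, 6, 12] := hx
    have hy' : y ∈ [2, 6, 12] := hy
    have hxd' : 24 * 12 ∣ 30 * x := hxd
    have hyd' : 30 * 12 ∣ 30 * y := hyd
    have h4 : 2 * 12 ≤ 8 * 12 := h2'
    simp only [List.mem_cons, List.not_mem_nil, or_false] at hx' hy'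
    clear hx hy hxd hyd h2' hch hY
    first | (solve | lia | omega) | exact trivial | exact rfl
  case sz q =>
    have hx' : x ∈ [1, 4] := hx
    have hy' : y ∈ [1, 4] := hy
    have hxd' : 24 * 4 ∣ 30 * x := hxd
    have hyd' : 30 * 4 ∣ 30 * y := hyd
    have h4 : 2 * 2 ≤ 8 * 4 := h2'
    simp only [List.mem_cons, List.not_mem_nil, or_false] at hx' hy'
    clear hx hy hxd hyd h2' hch hY
    first | (solve | lia | omega) | exact trivial | exact rfl
  case ree q =>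
    have hx' : x ∈ [1, 6] := hx
    have hy' : y ∈ [1, 6] := hy
    have hxd' : 24 * 6 ∣ 30 * x := hxd
    have hyd' : 30 * 6 ∣ 30 * y := hyd
    have h4 : 2 * 3 ≤ 8 * 6 := h2'
    simp only [List.mem_cons, List.not_mem_nil, or_false] at hx' hy'
    clear hx hy hxd hyd h2' hch hY
    first | (clear * - hxd' hx'; omega) | exact trivial | exact rfl
  case tf4 q =>
    have hx' : x ∈ [1, 6, 4, 12] := hx
    have hy' : y ∈ [1, 6, 4, 12] := hy
    have hxd' : 24 * 12 ∣ 30 * x := hxd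
    have hyd' : 30 * 12 ∣ 30 * y := hyd
    have h4 : 2 * 12 ≤ 8 * 12 := h2'
    simp only [List.mem_cons, List.not_mem_nil, or_false] at hx' hy'
    clear hx hy hxd hyd h2' hch hY
    first | (solve | lia | omega) | exact trivial | exact rfl
  all_goals exact absurd hch not_false


theorem elimP_e8_20_30 (hg : Cond g) (hch : HasChar p g)
    (h2 : ag g * 30 ≤ 120 * Mg g) (h1 : ∃ x, Xg g x ∧ 20 * Mg g ∣ 30 * x) (h3 : ∃ x, Xg g x ∧ 30 * Mg g ∣ 30 * x)
    (hY : ∀ k, (k = 4 ∨ k = 5 ∨ 7 ≤ k) → Yg g k → ∃ j, j ∈ [2, 8, 12, 14, 18, 20, 24, 30] ∧ 30 * k ∣ Mg g * j) :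
    Out20 g := by
  obtain ⟨x, hx, hxd⟩ := h1
  obtain ⟨y, hy, hyd⟩ := h3
  have h2' : 2 * ag g ≤ 8 * Mg g := by omega
  clear h2
  cases g
  case psl m q =>
    obtain ⟨hm, -, -⟩ := hg
    have hb := bd_psl (ρ := 8) (by omega) h2'
    have hx' : 1 ≤ x ∧ x ≤ m := hx
    have hy' : 1 ≤ y ∧ y ≤ m := hy
    have hxd' : 20 * m ∣ 30 * x := hxd
    have hyd' : 30 * m ∣ 30 * y := hyd
    have hY4 : 4 ≤ m → 120 ∣ m * 2 ∨ 120 ∣ m * 8 ∨ 120 ∣ m * 12 ∨ 120 ∣ m * 14 ∨ 120 ∣ m * 18 ∨ 120 ∣ m * 20 ∨ 120 ∣ m * 24 ∨ 120 ∣ m * 30 := by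
      intro h
      obtain ⟨j, hj, hjd⟩ := hY 4 (by norm_num) (show 2 ≤ 4 ∧ 4 ≤ m from ⟨by norm_num, h⟩)
      have hjd' : 30 * 4 ∣ m * j := hjd
      simp only [List.mem_cons, List.not_mem_nil, or_false] at hj
      norm_num only at hjd'
      rcases hj with rfl | rfl | rfl | rfl | rfl | rfl | rfl | rfl <;> simp only [hjd', true_or, or_true]
    have hY5 : 5 ≤ m → 150 ∣ m * 2 ∨ 150 ∣ m * 8 ∨ 150 ∣ m * 12 ∨ 150 ∣ m * 14 ∨ 150 ∣ m * 18 ∨ 150 ∣ m * 20 ∨ 150 ∣ m * 24 ∨ 150 ∣ m * 30 := by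
      intro h
      obtain ⟨j, hj, hjd⟩ := hY 5 (by norm_num) (show 2 ≤ 5 ∧ 5 ≤ m from ⟨by norm_num, h⟩)
      have hjd' : 30 * 5 ∣ m * j := hjd
      simp only [List.mem_cons, List.not_mem_nil, or_false] at hj
      norm_num only at hjd'
      rcases hj with rfl | rfl | rfl | rfl | rfl | rfl | rfl | rfl <;> simp only [hjd', true_or, or_true]
    clear hx hy hxd hyd h2' hch hY
    interval_cases m <;> first | (clear * - hx' hxd' hY5; omega) | exact trivial | exact rfl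
  case psp m q =>
    obtain ⟨hm, -, -⟩ := hg
    have hb := bd_psp (ρ := 8) (by omega) h2'
    have hx' : 1 ≤ x ∧ x ≤ 2 * m ∧ 2 ∣ x := hx
    have hy' : 1 ≤ y ∧ y ≤ 2 * m ∧ 2 ∣ y := hy
    have hxd' : 20 * (2 * m) ∣ 30 * x := hxd
    have hyd' : 30 * (2 * m) ∣ 30 * y := hyd
    have hY8 : 8 ≤ 2 * m → 240 ∣ (2 * m) * 2 ∨ 240 ∣ (2 * m) * 8 ∨ 240 ∣ (2 * m) * 12 ∨ 240 ∣ (2 * m) * 14 ∨ 240 ∣ (2 * m) * 18 ∨ 240 ∣ (2 * m) * 20 ∨ 240 ∣ (2 * m) * 24 ∨ 240 ∣ (2 * m) * 30 := by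
      intro h
      obtain ⟨j, hj, hjd⟩ := hY 8 (by norm_num) (show 1 ≤ 8 ∧ 8 ≤ 2 * m ∧ 2 ∣ 8 from ⟨by norm_num, h, by norm_num⟩)
      have hjd' : 30 * 8 ∣ (2 * m) * j := hjd
      simp only [List.mem_cons, List.not_mem_nil, or_false] at hj
      norm_num only at hjd'
      rcases hj with rfl | rfl | rfl | rfl | rfl | rfl | rfl | rfl <;> simp only [hjd', true_or, or_true]
    have hY10 : 10 ≤ 2 * m → 300 ∣ (2 * m) * 2 ∨ 300 ∣ (2 * m) * 8 ∨ 300 ∣ (2 * m) * 12 ∨ 300 ∣ (2 * m) * 14 ∨ 300 ∣ (2 * m) * 18 ∨ 300 ∣ (2 * m) * 20 ∨ 300 ∣ (2 * m) * 24 ∨ 300 ∣ (2 * m) * 30 := by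
      intro h
      obtain ⟨j, hj, hjd⟩ := hY 10 (by norm_num) (show 1 ≤ 10 ∧ 10 ≤ 2 * m ∧ 2 ∣ 10 from ⟨by norm_num, h, by norm_num⟩)
      have hjd' : 30 * 10 ∣ (2 * m) * j := hjd
      simp only [List.mem_cons, List.not_mem_nil, or_false] at hj
      norm_num only at hjd'
      rcases hj with rfl | rfl | rfl | rfl | rfl | rfl | rfl | rfl <;> simp only [hjd', true_or, or_true]
    clear hx hy hxd hyd h2' hch hY
    interval_cases m <;> first | (solve | lia) | exact trivial | exact rfl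
  case oodd m q =>
    obtain ⟨hm, -, -⟩ := hg
    have hb := bd_psp (ρ := 8) (by omega) h2'
    have hx' : 1 ≤ x ∧ x ≤ 2 * m ∧ 2 ∣ x := hx
    have hy' : 1 ≤ y ∧ y ≤ 2 * m ∧ 2 ∣ y := hy
    have hxd' : 20 * (2 * m) ∣ 30 * x := hxd
    have hyd' : 30 * (2 * m) ∣ 30 * y := hyd
    have hY8 : 8 ≤ 2 * m → 240 ∣ (2 * m) * 2 ∨ 240 ∣ (2 * m) * 8 ∨ 240 ∣ (2 * m) * 12 ∨ 240 ∣ (2 * m) * 14 ∨ 240 ∣ (2 * m) * 18 ∨ 240 ∣ (2 * m) * 20 ∨ 240 ∣ (2 * m) * 24 ∨ 240 ∣ (2 * m) * 30 := by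
      intro h
      obtain ⟨j, hj, hjd⟩ := hY 8 (by norm_num) (show 1 ≤ 8 ∧ 8 ≤ 2 * m ∧ 2 ∣ 8 from ⟨by norm_num, h, by norm_num⟩)
      have hjd' : 30 * 8 ∣ (2 * m) * j := hjd
      simp only [List.mem_cons, List.not_mem_nil, or_false] at hj
      norm_num only at hjd'
      rcases hj with rfl | rfl | rfl | rfl | rfl | rfl | rfl | rfl <;> simp only [hjd', true_or, or_true]
    have hY10 : 10 ≤ 2 * m → 300 ∣ (2 * m) * 2 ∨ 300 ∣ (2 * m) * 8 ∨ 300 ∣ (2 * m) * 12 ∨ 300 ∣ (2 * m) * 14 ∨ 300 ∣ (2 * m) * 18 ∨ 300 ∣ (2 * m) * 20 ∨ 300 ∣ (2 * m) * 24 ∨ 300 ∣ (2 * m) * 30 := by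
      intro h
      obtain ⟨j, hj, hjd⟩ := hY 10 (by norm_num) (show 1 ≤ 10 ∧ 10 ≤ 2 * m ∧ 2 ∣ 10 from ⟨by norm_num, h, by norm_num⟩)
      have hjd' : 30 * 10 ∣ (2 * m) * j := hjd
      simp only [List.mem_cons, List.not_mem_nil, or_false] at hj
      norm_num only at hjd'
      rcases hj with rfl | rfl | rfl | rfl | rfl | rfl | rfl | rfl <;> simp only [hjd', true_or, or_true]
    clear hx hy hxd hyd h2' hch hY
    interval_cases m <;> first | (clear * - hx' hxd' hY10; omega) | exact trivial | exact rfl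
  case psu m q =>
    obtain ⟨hm, -, -⟩ := hg
    have hb := bd_psu (ρ := 8) hm h2'
    have hx' : (1 ≤ x ∧ x ≤ m ∧ 2 ∣ x) ∨ ∃ j, x = 2 * j ∧ j ≤ m ∧ j % 2 = 1 := hx
    have hy' : (1 ≤ y ∧ y ≤ m ∧ 2 ∣ y) ∨ ∃ j, y = 2 * j ∧ j ≤ m ∧ j % 2 = 1 := hy
    obtain ⟨k, hk⟩ : ∃ k, k = (if m % 2 = 0 then m - 1 else m) := ⟨_, rfl⟩
    have hk' : (m % 2 = 0 ∧ k = m - 1) ∨ (m % 2 = 1 ∧ k = m) := by
      rw [hk]
      split_ifs <;> omega
    have hM : Mg (.psu m q) = 2 * k := by rw [hk]; rfl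
    have hxd' : 20 * (2 * k) ∣ 30 * x := hM ▸ hxd
    have hyd' : 30 * (2 * k) ∣ 30 * y := hM ▸ hyd
    clear hx hy hxd hyd h2' hch hY hM hk
    rcases hk' with ⟨hk1, hk2⟩ | ⟨hk1, hk2⟩ <;> rcases hx' with hx' | ⟨j, rfl, hx'⟩ <;>
      rcases hy' with hy' | ⟨l, rfl, hy'⟩ <;> interval_cases m <;> subst hk2 <;> first | (solve | lia | omega) | exact trivial | exact rfl
  case oplus m q =>
    obtain ⟨hm, -⟩ := hg
    have hb := bd_oplus (ρ := 8) (by omega) h2'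
    have hx' : 1 ≤ x ∧ x ≤ 2 * (m - 1) ∧ (2 ∣ x ∨ x = m) := hx
    have hy' : 1 ≤ y ∧ y ≤ 2 * (m - 1) ∧ (2 ∣ y ∨ y = m) := hy
    have hxd' : 20 * (2 * (m - 1)) ∣ 30 * x := hxd
    have hyd' : 30 * (2 * (m - 1)) ∣ 30 * y := hyd
    have hY8 : 8 ≤ 2 * (m - 1) → 240 ∣ (2 * (m - 1)) * 2 ∨ 240 ∣ (2 * (m - 1)) * 8 ∨ 240 ∣ (2 * (m - 1)) * 12 ∨ 240 ∣ (2 * (m - 1)) * 14 ∨ 240 ∣ (2 * (m - 1)) * 18 ∨ 240 ∣ (2 * (m - 1)) * 20 ∨ 240 ∣ (2 * (m - 1)) * 24 ∨ 240 ∣ (2 * (m - 1)) * 30 := by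
      intro h
      obtain ⟨j, hj, hjd⟩ := hY 8 (by norm_num) (show 4 ≤ 8 ∧ 8 ≤ 2 * (m - 1) ∧ 2 ∣ 8 from ⟨by norm_num, h, by norm_num⟩)
      have hjd' : 30 * 8 ∣ (2 * (m - 1)) * j := hjd
      simp only [List.mem_cons, List.not_mem_nil, or_false] at hj
      norm_num only at hjd'
      rcases hj with rfl | rfl | rfl | rfl | rfl | rfl | rfl | rfl <;> simp only [hjd', true_or, or_true]
    have hY10 : 10 ≤ 2 * (m - 1) → 300 ∣ (2 * (m - 1)) * 2 ∨ 300 ∣ (2 * (m - 1)) * 8 ∨ 300 ∣ (2 * (m - 1)) * 12 ∨ 300 ∣ (2 * (m - 1)) * 14 ∨ 300 ∣ (2 * (m - 1)) * 18 ∨ 300 ∣ (2 * (m - 1)) * 20 ∨ 300 ∣ (2 * (m - 1)) * 24 ∨ 300 ∣ (2 * (m - 1)) * 30 := by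
      intro h
      obtain ⟨j, hj, hjd⟩ := hY 10 (by norm_num) (show 4 ≤ 10 ∧ 10 ≤ 2 * (m - 1) ∧ 2 ∣ 10 from ⟨by norm_num, h, by norm_num⟩)
      have hjd' : 30 * 10 ∣ (2 * (m - 1)) * j := hjd
      simp only [List.mem_cons, List.not_mem_nil, or_false] at hj
      norm_num only at hjd'
      rcases hj with rfl | rfl | rfl | rfl | rfl | rfl | rfl | rfl <;> simp only [hjd', true_or, or_true]
    clear hx hy hxd hyd h2' hch hY
    interval_cases m <;> first | omega | exact trivial | exact rfl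
  case ominus m q =>
    obtain ⟨hm, -⟩ := hg
    have hb := bd_ominus (ρ := 8) (by omega) h2'
    have hx' : 1 ≤ x ∧ x ≤ 2 * m ∧ 2 ∣ x := hx
    have hy' : 1 ≤ y ∧ y ≤ 2 * m ∧ 2 ∣ y := hy
    have hxd' : 20 * (2 * m) ∣ 30 * x := hxd
    have hyd' : 30 * (2 * m) ∣ 30 * y := hyd
    have hY8 : 8 ≤ 2 * m → 240 ∣ (2 * m) * 2 ∨ 240 ∣ (2 * m) * 8 ∨ 240 ∣ (2 * m) * 12 ∨ 240 ∣ (2 * m) * 14 ∨ 240 ∣ (2 * m) * 18 ∨ 240 ∣ (2 * m) * 20 ∨ 240 ∣ (2 * m) * 24 ∨ 240 ∣ (2 * m) * 30 := by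
      intro h
      obtain ⟨j, hj, hjd⟩ := hY 8 (by norm_num) (show 4 ≤ 8 ∧ 8 ≤ 2 * m ∧ 2 ∣ 8 from ⟨by norm_num, h, by norm_num⟩)
      have hjd' : 30 * 8 ∣ (2 * m) * j := hjd
      simp only [List.mem_cons, List.not_mem_nil, or_false] at hj
      norm_num only at hjd'
      rcases hj with rfl | rfl | rfl | rfl | rfl | rfl | rfl | rfl <;> simp only [hjd', true_or, or_true]
    have hY10 : 10 ≤ 2 * m → 300 ∣ (2 * m) * 2 ∨ 300 ∣ (2 * m) * 8 ∨ 300 ∣ (2 * m) * 12 ∨ 300 ∣ (2 * m) * 14 ∨ 300 ∣ (2 * m) * 18 ∨ 300 ∣ (2 * m) * 20 ∨ 300 ∣ (2 * m) * 24 ∨ 300 ∣ (2 * m) * 30 := by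
      intro h
      obtain ⟨j, hj, hjd⟩ := hY 10 (by norm_num) (show 4 ≤ 10 ∧ 10 ≤ 2 * m ∧ 2 ∣ 10 from ⟨by norm_num, h, by norm_num⟩)
      have hjd' : 30 * 10 ∣ (2 * m) * j := hjd
      simp only [List.mem_cons, List.not_mem_nil, or_false] at hj
      norm_num only at hjd'
      rcases hj with rfl | rfl | rfl | rfl | rfl | rfl | rfl | rfl <;> simp only [hjd', true_or, or_true]
    clear hx hy hxd hyd h2' hch hY
    interval_cases m <;> first | (clear * - hx' hxd' hY10; omega) | exact trivial | exact rfl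
  case g2 q =>
    have hx' : x ∈ [2, 6] := hx
    have hy' : y ∈ [2, 6] := hy
    have hxd' : 20 * 6 ∣ 30 * x := hxd
    have hyd' : 30 * 6 ∣ 30 * y := hyd
    have h4 : 2 * 6 ≤ 8 * 6 := h2'
    simp only [List.mem_cons, List.not_mem_nil, or_false] at hx' hy'
    clear hx hy hxd hyd h2' hch hY
    first | (solve | lia | omega) | exact trivial | exact rfl
  case f4 q =>
    have hx' : x ∈ [2, 6, 8, 12] := hx
    have hy' : y ∈ [2, 6, 8, 12] := hy
    have hxd' : 20 * 12 ∣ 30 * x := hxd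
    have hyd' : 30 * 12 ∣ 30 * y := hyd
    have h4 : 2 * 24 ≤ 8 * 12 := h2'
    simp only [List.mem_cons, List.not_mem_nil, or_false] at hx' hy'
    clear hx hy hxd hyd h2' hch hY
    first | omega | exact trivial | exact rfl
  case e6 q =>
    obtain ⟨j, hj, hjd⟩ := hY 5 (by norm_num) (by show 5 ∈ _; decide)
    have hjd' : 30 * 5 ∣ 12 * j := hjd
    simp only [List.mem_cons, List.not_mem_nil, or_false] at hj
    exfalso
    rcases hj with rfl | rfl | rfl | rfl | rfl | rfl | rfl | rfl <;> revert hjd' <;> decide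
  case e7 q =>
    obtain ⟨j, hj, hjd⟩ := hY 8 (by norm_num) (by show 8 ∈ _; decide)
    have hjd' : 30 * 8 ∣ 18 * j := hjd
    simp only [List.mem_cons, List.not_mem_nil, or_false] at hj
    exfalso
    rcases hj with rfl | rfl | rfl | rfl | rfl | rfl | rfl | rfl <;> revert hjd' <;> decide
  case e8 q =>
    have hx' : x ∈ [2, 8, 12, 14, 18, 20, 24, 30] := hx
    have hy' : y ∈ [2, 8, 12, 14, 18, 20, 24, 30] := hy
    have hxd' : 20 * 30 ∣ 30 * x := hxd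
    have hyd' : 30 * 30 ∣ 30 * y := hyd
    have h4 : 2 * 120 ≤ 8 * 30 := h2'
    simp only [List.mem_cons, List.not_mem_nil, or_false] at hx' hy'
    clear hx hy hxd hyd h2' hch hY
    first | omega | exact trivial | exact rfl
  case te6 q =>
    obtain ⟨j, hj, hjd⟩ := hY 8 (by norm_num) (by show 8 ∈ _; decide)
    have hjd' : 30 * 8 ∣ 18 * j := hjd
    simp only [List.mem_cons, List.not_mem_nil, or_false] at hj
    exfalso
    rcases hj with rfl | rfl | rfl | rfl | rfl | rfl | rfl | rfl <;> revert hjd' <;> decide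
  case td4 q =>
    have hx' : x ∈ [2, 6, 12] := hx
    have hy' : y ∈ [2, 6, 12] := hy
    have hxd' : 20 * 12 ∣ 30 * x := hxd
    have hyd' : 30 * 12 ∣ 30 * y := hyd
    have h4 : 2 * 12 ≤ 8 * 12 := h2'
    simp only [List.mem_cons, List.not_mem_nil, or_false] at hx' hy'
    clear hx hy hxd hyd h2' hch hY
    first | omega | exact trivial | exact rfl
  case sz q =>
    have hx' : x ∈ [1, 4] := hx
    have hy' : y ∈ [1, 4] := hy
    have hxd' : 20 * 4 ∣ 30 * x := hxd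
    have hyd' : 30 * 4 ∣ 30 * y := hyd
    have h4 : 2 * 2 ≤ 8 * 4 := h2'
    simp only [List.mem_cons, List.not_mem_nil, or_false] at hx' hy'
    clear hx hy hxd hyd h2' hch hY
    first | (clear * - hxd' hx'; (solve | lia | omega)) | exact trivial | exact rfl
  case ree q =>
    have hx' : x ∈ [1, 6] := hx
    have hy' : y ∈ [1, 6] := hy
    have hxd' : 20 * 6 ∣ 30 * x := hxd
    have hyd' : 30 * 6 ∣ 30 * y := hyd
    have h4 : 2 * 3 ≤ 8 * 6 := h2'
    simp only [List.mem_cons, List.not_mem_nil, or_false] at hx' hy'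
    clear hx hy hxd hyd h2' hch hY
    first | omega | exact trivial | exact rfl
  case tf4 q =>
    have hx' : x ∈ [1, 6, 4, 12] := hx
    have hy' : y ∈ [1, 6, 4, 12] := hy
    have hxd' : 20 * 12 ∣ 30 * x := hxd
    have hyd' : 30 * 12 ∣ 30 * y := hyd
    have h4 : 2 * 12 ≤ 8 * 12 := h2'
    simp only [List.mem_cons, List.not_mem_nil, or_false] at hx' hy'
    clear hx hy hxd hyd h2' hch hY
    first | omega | exact trivial | exact rfl
  all_goals exact absurd hch not_false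


end Cfsg.Agent.H290.Cov30
end

-- part: H290/Cov/P30b
section
/-!
# Lie type groups in the characteristic of `E₈(q)` containing the classes {24, 30} or {20, 30} (helper290)
-/

set_option autoImplicit false

namespace Cfsg.Agent.H290.Cov30

open Cfsg.Agent.OrdDiv Cfsg.Agent.H436 Cfsg.Agent.H915.GN Cfsg.Agent.H264.GN Cfsg.Agent.H264.FKS Cfsg.Agent.H325.Same

variable {p f c : ℕ} {g : Grp}

theorem prB_five (q : ℕ) : prB q 5 = (q ^ 2 - 1) * ((q ^ 4 - 1) * ((q ^ 6 - 1) * ((q ^ 8 - 1) * (q ^ 10 - 1)))) := by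
  rw [prB_eq, Finset.prod_range_succ, Finset.prod_range_succ, Finset.prod_range_succ, Finset.prod_range_succ,
    Finset.prod_range_succ, Finset.prod_range_zero]
  norm_num only [one_mul]
  ring

theorem prB_three3 (q : ℕ) : prB q 3 = (q ^ 2 - 1) * ((q ^ 4 - 1) * (q ^ 6 - 1)) := by
  rw [prB_eq, Finset.prod_range_succ, Finset.prod_range_succ, Finset.prod_range_succ, Finset.prod_range_zero]
  norm_num only [one_mul]
  ring

theorem pow3 (p f k : ℕ) : (p ^ (f * 3)) ^ k = (p ^ f) ^ (3 * k) := by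
  rw [pow_mul p f 3, ← pow_mul]

theorem pow5 (p f k : ℕ) : (p ^ (f * 5)) ^ k = (p ^ f) ^ (5 * k) := by
  rw [pow_mul p f 5, ← pow_mul]

/-- the order of `E₈(q)` -/
theorem e8_dvd (hdvd : c ∣ num (.e8 (p ^ f))) : c ∣ (p ^ f) ^ 120 * (((p ^ f) ^ 2 - 1) * ((p ^ f) ^ 8 - 1) *
    ((p ^ f) ^ 12 - 1) * ((p ^ f) ^ 14 - 1) * ((p ^ f) ^ 18 - 1) * ((p ^ f) ^ 20 - 1) * ((p ^ f) ^ 24 - 1) *
    ((p ^ f) ^ 30 - 1)) := hdvd

/-- the classical groups over `q³` -/
theorem kill_q3 {D A : ℕ} (hp : p.Prime) (hf : 1 ≤ f) (hD0 : 0 < D) (hD : D ≤ 4) (h1 : D * c = A * prB (p ^ (f * 3)) 5)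
    (hdvd : c ∣ num (.e8 (p ^ f))) : False := by
  have hq : 2 ≤ p ^ f := hp.two_le.trans (Nat.le_self_pow (by omega) _)
  have hd := e8_dvd hdvd
  rw [prB_five, pow3, pow3, pow3, pow3, pow3] at h1
  norm_num only at h1
  generalize p ^ f = q at *
  have b2 := sub_pos' (d := 2) hq (by norm_num)
  have b8 := sub_pos' (d := 8) hq (by norm_num)
  have b12 := sub_pos' (d := 12) hq (by norm_num)
  have b14 := sub_pos' (d := 14) hq (by norm_num)
  have b18 := sub_pos' (d := 18) hq (by norm_num)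
  have b20 := sub_pos' (d := 20) hq (by norm_num)
  have b24 := sub_pos' (d := 24) hq (by norm_num)
  have b30 := sub_pos' (d := 30) hq (by norm_num)
  have hc0 : 0 < c := pos_of_dvd (by (clear * - hq b2 b8 b12 b14 b18 b20 b24 b30; positivity)) hd
  obtain ⟨s, hs⟩ := exists_prim (q := q) (e := 3) hq le_rfl (by omega)
  refine cancel_prime hs.prime (Z := (q ^ 12 - 1) * ((q ^ 18 - 1) * ((q ^ 24 - 1) * (q ^ 30 - 1)))) (by (clear * - b12 b18 b24 b30; positivity)) hc0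
    (A := A) (x := q ^ 6 - 1) (D := D) (B := q ^ 120)
    (y := (q ^ 2 - 1) * (q ^ 8 - 1) * (q ^ 14 - 1) * (q ^ 20 - 1)) h1 (hd.trans (dvd_of_eq (by ring)))
    (hs.dvd (by norm_num)) (fun h => ?_) (hs.not_dvd_pow _) (fun h => ?_)
  · have h9 := lt_of_prim hs
    have := Nat.le_of_dvd hD0 h
    have : s = 4 := by omega
    subst this
    exact absurd hs.prime (by norm_num)
  · rcases hs.prime.dvd_mul.1 h with h | h
    · rcases hs.prime.dvd_mul.1 h with h | h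
      · rcases hs.prime.dvd_mul.1 h with h | h
        · exact hs.not_dvd_sub (by norm_num) h
        · exact hs.not_dvd_sub (by norm_num) h
      · exact hs.not_dvd_sub (by norm_num) h
    · exact hs.not_dvd_sub (by norm_num) h

/-- the classical groups over `q⁵` -/
theorem kill_q5 {D A : ℕ} (hp : p.Prime) (hf : 1 ≤ f) (hD0 : 0 < D) (hD : D ≤ 4) (h1 : D * c = A * prB (p ^ (f * 5)) 3)
    (hdvd : c ∣ num (.e8 (p ^ f))) : False := by
  have hq : 2 ≤ p ^ f := hp.two_le.trans (Nat.le_self_pow (by omega) _)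
  have hd := e8_dvd hdvd
  rw [prB_three3, pow5, pow5, pow5] at h1
  norm_num only at h1
  generalize p ^ f = q at *
  have b2 := sub_pos' (d := 2) hq (by norm_num)
  have b8 := sub_pos' (d := 8) hq (by norm_num)
  have b12 := sub_pos' (d := 12) hq (by norm_num)
  have b14 := sub_pos' (d := 14) hq (by norm_num)
  have b18 := sub_pos' (d := 18) hq (by norm_num)
  have b20 := sub_pos' (d := 20) hq (by norm_num)
  have b24 := sub_pos' (d := 24) hq (by norm_num)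
  have b30 := sub_pos' (d := 30) hq (by norm_num)
  have hc0 : 0 < c := pos_of_dvd (by (clear * - hq b2 b8 b12 b14 b18 b20 b24 b30; positivity)) hd
  obtain ⟨s, hs⟩ := exists_prim (q := q) (e := 5) hq (by norm_num) (by omega)
  refine cancel_prime hs.prime (Z := (q ^ 20 - 1) * (q ^ 30 - 1)) (by (clear * - b20 b30; positivity)) hc0
    (A := A) (x := q ^ 10 - 1) (D := D) (B := q ^ 120)
    (y := (q ^ 2 - 1) * (q ^ 8 - 1) * (q ^ 12 - 1) * (q ^ 14 - 1) * (q ^ 18 - 1) * (q ^ 24 - 1)) h1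
    (hd.trans (dvd_of_eq (by ring)))
    (hs.dvd (by norm_num)) (fun h => ?_) (hs.not_dvd_pow _) (fun h => ?_)
  · have h9 := lt_of_prim hs
    have := Nat.le_of_dvd hD0 h
    omega
  · rcases hs.prime.dvd_mul.1 h with h | h
    · rcases hs.prime.dvd_mul.1 h with h | h
      · rcases hs.prime.dvd_mul.1 h with h | h
        · rcases hs.prime.dvd_mul.1 h with h | h
          · rcases hs.prime.dvd_mul.1 h with h | h
            · exact hs.not_dvd_sub (by norm_num) h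
            · exact hs.not_dvd_sub (by norm_num) h
          · exact hs.not_dvd_sub (by norm_num) h
        · exact hs.not_dvd_sub (by norm_num) h
      · exact hs.not_dvd_sub (by norm_num) h
    · exact hs.not_dvd_sub (by norm_num) h

/-- **`E₈(q)`, classes 24 and 30.** -/
theorem charp_e8_2430 (hp : p.Prime) (hf : 1 ≤ f) (hg : Cond g) (hch : HasChar p g)
    (hc : den g * c = num g) (hdvd : c ∣ num (.e8 (p ^ f))) (hs1 : HT p f 24 g c) (hs2 : HT p f 30 g c) :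
    g = .e8 (p ^ f) ∨ g = .psl 5 (p ^ (f * 6)) ∨ g = .ominus 5 (p ^ (f * 3)) := by
  obtain ⟨f₁, hf₁, hfl, hK, hY⟩ := kd_all hp hg hch hc
  obtain ⟨i, hi, hei, hfM, h2, h1, h3, hYc⟩ := compP hp hf hg hch hf₁ hfl hK hY (td_e8 hp hf hdvd)
    (by norm_num) (by norm_num) (by norm_num) (fun i hi hei s hs h5 => by
      have hi' : i ∈ [2, 8, 12, 14, 18, 20, 24, 30] := hi
      refine hpr_aux ?_ hs (by omega)
      simp only [List.mem_cons, List.not_mem_nil, or_false] at hi' ⊢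
      omega) hs1 hs2
  have hi' : i ∈ [2, 8, 12, 14, 18, 20, 24, 30] := hi
  obtain rfl : i = 30 := by
    simp only [List.mem_cons, List.not_mem_nil, or_false] at hi'
    omega
  have hO := elimP_e8_24_30 hg hch h2 h1 h3 hYc
  cases g
  case psl m q =>
    obtain rfl : m = 5 := hO
    obtain rfl : q = p ^ f₁ := hfl
    have h5 : f₁ * 5 = f * 30 := hfM
    obtain rfl : f₁ = f * 6 := by omega
    exact Or.inr (Or.inl rfl)
  case psp m q =>
    obtain rfl : m = 5 := hO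
    obtain rfl : q = p ^ f₁ := hfl
    have h5 : f₁ * (2 * 5) = f * 30 := hfM
    obtain rfl : f₁ = f * 3 := by omega
    have h6 : Nat.gcd 2 (p ^ (f * 3) - 1) * c = (p ^ (f * 3)) ^ (5 ^ 2) * prB (p ^ (f * 3)) 5 := hc
    exact (kill_q3 hp hf (Nat.gcd_pos_of_pos_left _ (by norm_num))
      ((Nat.gcd_le_left _ (by norm_num)).trans (by norm_num)) h6 hdvd).elim
  case oodd m q =>
    obtain rfl : m = 5 := hO
    obtain rfl : q = p ^ f₁ := hfl
    have h5 : f₁ * (2 * 5) = f * 30 := hfM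
    obtain rfl : f₁ = f * 3 := by omega
    have h6 : 2 * c = (p ^ (f * 3)) ^ (5 ^ 2) * prB (p ^ (f * 3)) 5 := hc
    exact (kill_q3 hp hf (by norm_num) (by norm_num) h6 hdvd).elim
  case oplus m q =>
    obtain rfl : m = 6 := hO
    obtain rfl : q = p ^ f₁ := hfl
    have h5 : f₁ * (2 * (6 - 1)) = f * 30 := hfM
    obtain rfl : f₁ = f * 3 := by omega
    have h6 : Nat.gcd 4 ((p ^ (f * 3)) ^ 6 - 1) * c =
        (p ^ (f * 3)) ^ (6 * (6 - 1)) * (((p ^ (f * 3)) ^ 6 - 1) * prB (p ^ (f * 3)) (6 - 1)) := hc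
    rw [← mul_assoc] at h6
    exact (kill_q3 hp hf (Nat.gcd_pos_of_pos_left _ (by norm_num))
      (Nat.gcd_le_left _ (by norm_num)) h6 hdvd).elim
  case ominus m q =>
    obtain rfl : m = 5 := hO
    obtain rfl : q = p ^ f₁ := hfl
    have h5 : f₁ * (2 * 5) = f * 30 := hfM
    obtain rfl : f₁ = f * 3 := by omega
    exact Or.inr (Or.inr rfl)
  case e8 q =>
    obtain rfl : q = p ^ f₁ := hfl
    left
    rw [same_fld (M := 30) (by norm_num) hfM]
  all_goals exact absurd hO not_false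

/-- **`E₈(q)`, classes 20 and 30.** -/
theorem charp_e8_2030 (hp : p.Prime) (hf : 1 ≤ f) (hg : Cond g) (hch : HasChar p g)
    (hc : den g * c = num g) (hdvd : c ∣ num (.e8 (p ^ f))) (hs1 : HT p f 20 g c) (hs2 : HT p f 30 g c) :
    g = .e8 (p ^ f) ∨ g = .psl 3 (p ^ (f * 10)) := by
  obtain ⟨f₁, hf₁, hfl, hK, hY⟩ := kd_all hp hg hch hc
  obtain ⟨i, hi, hei, hfM, h2, h1, h3, hYc⟩ := compP hp hf hg hch hf₁ hfl hK hY (td_e8 hp hf hdvd)
    (by norm_num) (by norm_num) (by norm_num) (fun i hi hei s hs h5 => by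
      have hi' : i ∈ [2, 8, 12, 14, 18, 20, 24, 30] := hi
      refine hpr_aux ?_ hs (by omega)
      simp only [List.mem_cons, List.not_mem_nil, or_false] at hi' ⊢
      omega) hs1 hs2
  have hi' : i ∈ [2, 8, 12, 14, 18, 20, 24, 30] := hi
  obtain rfl : i = 30 := by
    simp only [List.mem_cons, List.not_mem_nil, or_false] at hi'
    omega
  have hO := elimP_e8_20_30 hg hch h2 h1 h3 hYc
  cases g
  case psl m q =>
    obtain rfl : m = 3 := hO
    obtain rfl : q = p ^ f₁ := hfl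
    have h5 : f₁ * 3 = f * 30 := hfM
    obtain rfl : f₁ = f * 10 := by omega
    exact Or.inr rfl
  case psp m q =>
    obtain rfl : m = 3 := hO
    obtain rfl : q = p ^ f₁ := hfl
    have h5 : f₁ * (2 * 3) = f * 30 := hfM
    obtain rfl : f₁ = f * 5 := by omega
    have h6 : Nat.gcd 2 (p ^ (f * 5) - 1) * c = (p ^ (f * 5)) ^ (3 ^ 2) * prB (p ^ (f * 5)) 3 := hc
    exact (kill_q5 hp hf (Nat.gcd_pos_of_pos_left _ (by norm_num))
      ((Nat.gcd_le_left _ (by norm_num)).trans (by norm_num)) h6 hdvd).elim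
  case oodd m q =>
    obtain rfl : m = 3 := hO
    obtain rfl : q = p ^ f₁ := hfl
    have h5 : f₁ * (2 * 3) = f * 30 := hfM
    obtain rfl : f₁ = f * 5 := by omega
    have h6 : 2 * c = (p ^ (f * 5)) ^ (3 ^ 2) * prB (p ^ (f * 5)) 3 := hc
    exact (kill_q5 hp hf (by norm_num) (by norm_num) h6 hdvd).elim
  case oplus m q =>
    obtain rfl : m = 4 := hO
    obtain rfl : q = p ^ f₁ := hfl
    have h5 : f₁ * (2 * (4 - 1)) = f * 30 := hfM
    obtain rfl : f₁ = f * 5 := by omega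
    have h6 : Nat.gcd 4 ((p ^ (f * 5)) ^ 4 - 1) * c =
        (p ^ (f * 5)) ^ (4 * (4 - 1)) * (((p ^ (f * 5)) ^ 4 - 1) * prB (p ^ (f * 5)) (4 - 1)) := hc
    rw [← mul_assoc] at h6
    exact (kill_q5 hp hf (Nat.gcd_pos_of_pos_left _ (by norm_num))
      (Nat.gcd_le_left _ (by norm_num)) h6 hdvd).elim
  case psu m q =>
    exfalso
    obtain rfl : m = 4 := hO
    obtain rfl : q = p ^ f₁ := hfl
    have h5 : f₁ * 6 = f * 30 := hfM
    obtain rfl : f₁ = f * 5 := by omega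
    have hq : 2 ≤ p ^ f := hp.two_le.trans (Nat.le_self_pow (by omega) _)
    have h6 : Nat.gcd 4 (p ^ (f * 5) + 1) * (p ^ (f * 5) + 1) * c =
        (p ^ (f * 5)) ^ (4 * (4 - 1) / 2) * prU (p ^ (f * 5)) 4 := hc
    have hU : prU (p ^ (f * 5)) 4 = ((p ^ (f * 5)) ^ 1 + 1) * (((p ^ (f * 5)) ^ 2 - 1) * (((p ^ (f * 5)) ^ 3 + 1) *
      (((p ^ (f * 5)) ^ 4 - 1) * 1))) := rfl
    have hd := e8_dvd hdvd
    have h7 : Nat.gcd 4 (p ^ (f * 5) + 1) * c = (p ^ (f * 5)) ^ (4 * (4 - 1) / 2) *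
        (((p ^ f) ^ 10 - 1) * (((p ^ f) ^ 20 - 1) * ((p ^ f) ^ 15 + 1))) := by
      have e2 : (p ^ (f * 5)) ^ 2 = (p ^ f) ^ 10 := pow5 p f 2
      have e3 : (p ^ (f * 5)) ^ 3 = (p ^ f) ^ 15 := pow5 p f 3
      have e4 : (p ^ (f * 5)) ^ 4 = (p ^ f) ^ 20 := pow5 p f 4
      rw [hU, e2, e3, e4, pow_one] at h6
      apply Nat.eq_of_mul_eq_mul_left (show 0 < p ^ (f * 5) + 1 by omega)
      calc (p ^ (f * 5) + 1) * (Nat.gcd 4 (p ^ (f * 5) + 1) * c)
          = Nat.gcd 4 (p ^ (f * 5) + 1) * (p ^ (f * 5) + 1) * c := by ring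
        _ = _ := h6
        _ = _ := by ring
    have hgp : 0 < Nat.gcd 4 (p ^ (f * 5) + 1) := Nat.gcd_pos_of_pos_left _ (by norm_num)
    have hgl : Nat.gcd 4 (p ^ (f * 5) + 1) ≤ 4 := Nat.gcd_le_left _ (by norm_num)
    generalize Nat.gcd 4 (p ^ (f * 5) + 1) = D at *
    generalize (p ^ (f * 5)) ^ (4 * (4 - 1) / 2) = A at *
    clear h6 hU hs1 hs2 hK hY hYc h1 h2 h3 hc hdvd hg hch hfM
    generalize p ^ f = q at *
    have b2 := sub_pos' (d := 2) hq (by norm_num)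
    have b8 := sub_pos' (d := 8) hq (by norm_num)
    have b12 := sub_pos' (d := 12) hq (by norm_num)
    have b14 := sub_pos' (d := 14) hq (by norm_num)
    have b18 := sub_pos' (d := 18) hq (by norm_num)
    have b20 := sub_pos' (d := 20) hq (by norm_num)
    have b24 := sub_pos' (d := 24) hq (by norm_num)
    have b30 := sub_pos' (d := 30) hq (by norm_num)
    have hc0 : 0 < c := pos_of_dvd (by (clear * - hq b2 b8 b12 b14 b18 b20 b24 b30; positivity)) hd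
    have h30 : q ^ 30 - 1 = (q ^ 15 - 1) * (q ^ 15 + 1) := by
      have := Nat.sq_sub_sq (q ^ 15) 1
      rw [one_pow, ← pow_mul] at this
      rw [mul_comm]
      exact this
    rw [h30] at hd
    obtain ⟨s, hs⟩ := exists_prim (q := q) (e := 10) hq (by norm_num) (by omega)
    refine cancel_prime hs.prime (Z := (q ^ 20 - 1) * (q ^ 15 + 1)) (by (clear * - hq b20; positivity)) hc0
      (A := A) (x := q ^ 10 - 1) (D := D) (B := q ^ 120)
      (y := (q ^ 2 - 1) * (q ^ 8 - 1) * (q ^ 12 - 1) * (q ^ 14 - 1) * (q ^ 18 - 1) * (q ^ 24 - 1) * (q ^ 15 - 1)) h7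
      (hd.trans (dvd_of_eq (by ring)))
      (hs.dvd (by norm_num)) (fun h => ?_) (hs.not_dvd_pow _) (fun h => ?_)
    · have h9 := lt_of_prim hs
      have := Nat.le_of_dvd hgp h
      omega
    · rcases hs.prime.dvd_mul.1 h with h | h
      · rcases hs.prime.dvd_mul.1 h with h | h
        · rcases hs.prime.dvd_mul.1 h with h | h
          · rcases hs.prime.dvd_mul.1 h with h | h
            · rcases hs.prime.dvd_mul.1 h with h | h
              · rcases hs.prime.dvd_mul.1 h with h | h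
                · exact hs.not_dvd_sub (by norm_num) h
                · exact hs.not_dvd_sub (by norm_num) h
              · exact hs.not_dvd_sub (by norm_num) h
            · exact hs.not_dvd_sub (by norm_num) h
          · exact hs.not_dvd_sub (by norm_num) h
        · exact hs.not_dvd_sub (by norm_num) h
      · exact hs.not_dvd_sub (by norm_num) h
  case f4 q =>
    exfalso
    obtain rfl : q = p ^ f₁ := hfl
    have h5 : f₁ * 12 = f * 30 := hfM
    have h5' : 2 * f₁ = 5 * f := by omega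
    have hq : 2 ≤ p ^ f := hp.two_le.trans (Nat.le_self_pow (by omega) _)
    have hd := e8_dvd hdvd
    have h6 : 1 * c = (p ^ f₁) ^ 24 * (((p ^ f₁) ^ 2 - 1) * ((p ^ f₁) ^ 6 - 1) * ((p ^ f₁) ^ 8 - 1) *
        ((p ^ f₁) ^ 12 - 1)) := hc
    have key : ∀ k, (p ^ f₁) ^ (2 * k) = (p ^ f) ^ (5 * k) := fun k => by
      rw [← pow_mul, ← pow_mul, show f₁ * (2 * k) = 2 * f₁ * k by ring, h5']
      congr 1
      ring
    have e1 : (p ^ f₁) ^ 2 = (p ^ f) ^ 5 := key 1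
    have e2 : (p ^ f₁) ^ 6 = (p ^ f) ^ 15 := key 3
    have e3 : (p ^ f₁) ^ 8 = (p ^ f) ^ 20 := key 4
    have e4 : (p ^ f₁) ^ 12 = (p ^ f) ^ 30 := key 6
    rw [e1, e2, e3, e4] at h6
    generalize (p ^ f₁) ^ 24 = A at *
    clear hs1 hs2 hK hY hYc h1 h2 h3 hc hdvd hg hch hfM key e1 e2 e3 e4
    generalize p ^ f = q at *
    have b2 := sub_pos' (d := 2) hq (by norm_num)
    have b8 := sub_pos' (d := 8) hq (by norm_num)
    have b12 := sub_pos' (d := 12) hq (by norm_num)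
    have b14 := sub_pos' (d := 14) hq (by norm_num)
    have b18 := sub_pos' (d := 18) hq (by norm_num)
    have b20 := sub_pos' (d := 20) hq (by norm_num)
    have b24 := sub_pos' (d := 24) hq (by norm_num)
    have b30 := sub_pos' (d := 30) hq (by norm_num)
    have hc0 : 0 < c := pos_of_dvd (by (clear * - hq b2 b8 b12 b14 b18 b20 b24 b30; positivity)) hd
    obtain ⟨s, hs⟩ := exists_prim (q := q) (e := 5) hq (by norm_num) (by omega)
    refine cancel_prime hs.prime (Z := (q ^ 20 - 1) * (q ^ 30 - 1)) (by (clear * - b20 b30; positivity)) hc0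
      (A := A * (q ^ 15 - 1)) (x := q ^ 5 - 1) (D := 1) (B := q ^ 120)
      (y := (q ^ 2 - 1) * (q ^ 8 - 1) * (q ^ 12 - 1) * (q ^ 14 - 1) * (q ^ 18 - 1) * (q ^ 24 - 1)) (by rw [h6]; ring)
      (hd.trans (dvd_of_eq (by ring)))
      (hs.dvd (by norm_num)) (fun h => ?_) (hs.not_dvd_pow _) (fun h => ?_)
    · exact hs.prime.one_lt.ne' (Nat.dvd_one.1 h)
    · rcases hs.prime.dvd_mul.1 h with h | h
      · rcases hs.prime.dvd_mul.1 h with h | h
        · rcases hs.prime.dvd_mul.1 h with h | h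
          · rcases hs.prime.dvd_mul.1 h with h | h
            · rcases hs.prime.dvd_mul.1 h with h | h
              · exact hs.not_dvd_sub (by norm_num) h
              · exact hs.not_dvd_sub (by norm_num) h
            · exact hs.not_dvd_sub (by norm_num) h
          · exact hs.not_dvd_sub (by norm_num) h
        · exact hs.not_dvd_sub (by norm_num) h
      · exact hs.not_dvd_sub (by norm_num) h
  case e8 q =>
    obtain rfl : q = p ^ f₁ := hfl
    left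
    rw [same_fld (M := 30) (by norm_num) hfM]
  all_goals exact absurd hO not_false

end Cfsg.Agent.H290.Cov30
end

-- part: H290/Cov/KE8
section
/-!
# Subgroups of `E₈(q)` of index prime to the classes {24, 30} or {20, 30} (helper290)

`K_E8a`, `K_E8b` : they are the whole group.
-/

set_option autoImplicit false

namespace Cfsg.Agent.H290.Cov30

open Cfsg Cfsg.Agent.OrdDiv Cfsg.Agent.H436 Cfsg.Agent.H902 Cfsg.Agent.H290.ElReg Cfsg.Agent.H290.ElTab
  Cfsg.Agent.H56.Exc Cfsg.Agent.H325.Loc Cfsg.Agent.H915.GN Cfsg.Agent.H264.FKS Cfsg.Agent.H325.Same Cfsg.Agent.H325.IsoExc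
  Cfsg.Agent.H563.KG

theorem tbl_E8a : Tbl 248 .E8 [24, 30] 30 where
  hn := by norm_num
  hb := bndR_248_30
  hs := svR_E8a
  hbS := bndS_30
  hsS := svS_E8a
  he₀ := by unfold Cls; omega
  hmem := by decide
  hle := fun _ => le_seven30

theorem tbl_E8b : Tbl 248 .E8 [20, 30] 30 where
  hn := by norm_num
  hb := bndR_248_30
  hs := svR_E8b
  hbS := bndS_30
  hsS := svS_E8b
  he₀ := by unfold Cls; omega
  hmem := by decide
  hle := fun _ => le_seven30

theorem le_seven'' {s : ℕ} (hs : s.Prime) {n : ℕ} (hn : n = 20 ∨ n = 24 ∨ n = 30) (h : s ∣ n) : s ≤ 7 := by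
  have key : s ∣ 2 ^ 3 * 3 * 5 := by
    rcases hn with rfl | rfl | rfl
    · exact h.trans (by norm_num)
    · exact h.trans (by norm_num)
    · exact h.trans (by norm_num)
  rcases hs.dvd_mul.1 key with h1 | h1
  · rcases hs.dvd_mul.1 h1 with h2 | h2
    · exact (Nat.le_of_dvd (by norm_num) (hs.dvd_of_dvd_pow h2)).trans (by norm_num)
    · exact (Nat.le_of_dvd (by norm_num) h2).trans (by norm_num)
  · exact (Nat.le_of_dvd (by norm_num) h1).trans (by norm_num)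

/-! ### kills -/

theorem kill_psl5 {S : Type*} [Group S] {p f r : ℕ} (hp : p.Prime) (hS : IsNamed (.psl 5 (p ^ (f * 6))) S)
    (hr : Prim (p ^ f) 24 r) (hd : r ∣ Nat.card S) (hP : PIso p r S) : False := by
  have : Fact p.Prime := ⟨hp⟩
  obtain ⟨F, _, _, hF, ⟨e⟩⟩ := hS.real
  have := charP_of_card hp hF
  refine not_piso_psl (K := F) (p := p) (n := 5) (by norm_num) hr.prime ?_ ?_ (hP.congr e)
  · rw [← Nat.card_congr e.toEquiv]
    exact hd
  · rw [Nat.card_eq_fintype_card, hF, pow_mul, ← pow_mul]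
    exact hr.not_dvd_sub (by norm_num)

theorem kill_psl3' {S : Type*} [Group S] {p f r : ℕ} (hp : p.Prime) (hS : IsNamed (.psl 3 (p ^ (f * 10))) S)
    (hr : Prim (p ^ f) 20 r) (hd : r ∣ Nat.card S) (hP : PIso p r S) : False := by
  have : Fact p.Prime := ⟨hp⟩
  obtain ⟨F, _, _, hF, ⟨e⟩⟩ := hS.real
  have := charP_of_card hp hF
  refine not_piso_psl (K := F) (p := p) (n := 3) (by norm_num) hr.prime ?_ ?_ (hP.congr e)
  · rw [← Nat.card_congr e.toEquiv]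
    exact hd
  · rw [Nat.card_eq_fintype_card, hF, pow_mul, ← pow_mul]
    exact hr.not_dvd_sub (by norm_num)

theorem kill_ominus5 {S : Type*} [Group S] {p f r : ℕ} (hp : p.Prime) (hS : IsNamed (.ominus 5 (p ^ (f * 3))) S)
    (hr : Prim (p ^ f) 24 r) (hd : r ∣ Nat.card S) (hP : PIso p r S) : False := by
  have : Fact p.Prime := ⟨hp⟩
  obtain ⟨F, _, _, a, b, hF, hab, ⟨e⟩⟩ := hS.real
  have := charP_of_card hp hF
  refine not_piso_ominus (F := F) (m := 5) (p := p) (r := r) (by norm_num) hab hr.prime ?_ ?_ ?_ (hP.congr e)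
  · rw [← Nat.card_congr e.toEquiv]
    exact hd
  · rw [hF, pow_mul, ← pow_mul]
    exact hr.not_dvd_add (by norm_num)
  · rw [hF, pow_mul, ← pow_mul]
    exact hr.not_dvd_sub (by norm_num)

section E8

variable {F : Type} [Field F] [Fintype F]

/-- the common part: `e = 20` or `24`, with the class 30 -/
theorem core_E8 (tb : OrderTable.{0}) (hcyc : CycFixSolv.{0}) (hcf : CF) {e : ℕ} (he : e = 20 ∨ e = 24)
    (ht : Tbl 248 .E8 [e, 30] 30) {p f : ℕ} [CharP F p] (hp : p.Prime) (hf : 1 ≤ f) (hq : Fintype.card F = p ^ f)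
    (B : Subgroup ↥(Lie.chevE8.group F)) (hoff : Off (p ^ f) [e, 30] B) :
    ∃ (S : Subgroup B) (_ : S.Normal) (_ : IsSimpleGroup S), ¬ IsMulCommutative S ∧
      (∀ c ∈ [e, 30], ∀ r, Prim (p ^ f) c r → r ∣ Nat.card S) ∧ ∃ g, IsNamed g S ∧ HasChar p g := by
  have := Fact.mk hp
  have hfin : Finite ↥(Lie.chevE8.group F) := inferInstance
  have hT := named_e8 (F := F) tb
  rw [hq] at hT
  have hq2 : 2 ≤ p ^ f := hp.two_le.trans (Nat.le_self_pow (by omega) p)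
  have hq1 : 1 ≤ p ^ f := by omega
  have hOL : num (.e8 (p ^ f)) = OL .E8 (p ^ f) := rfl
  have hdT : Nat.card ↥(Lie.chevE8.group F) ∣ OL .E8 (p ^ f) := by
    rw [← hOL, ← hT.eq]
    exact Dvd.intro_left _ rfl
  have hmem : ∀ c ∈ [e, 30], c = 20 ∨ c = 24 ∨ c = 30 := by
    intro c hc
    simp only [List.mem_cons, List.not_mem_nil, or_false] at hc
    omega
  have hcl : ∀ c ∈ [e, 30], Cls c := by
    intro c hc
    have := hmem c hc
    unfold Cls
    omega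
  have h7 : ∀ c ∈ [e, 30], 7 ≤ c := by
    intro c hc
    have := hmem c hc
    omega
  have hnum : ∀ c ∈ [e, 30], ncl c (p ^ f) ∣ num (.e8 (p ^ f)) := by
    intro c hc
    have h1 : ∀ d ∈ [2, 8, 12, 14, 18, 20, 24, 30], (p ^ f) ^ d - 1 ∣ num (.e8 (p ^ f)) := by
      intro d hd
      show _ ∣ (p ^ f) ^ 120 * (((p ^ f) ^ 2 - 1) * ((p ^ f) ^ 8 - 1) * ((p ^ f) ^ 12 - 1) *
        ((p ^ f) ^ 14 - 1) * ((p ^ f) ^ 18 - 1) * ((p ^ f) ^ 20 - 1) * ((p ^ f) ^ 24 - 1) * ((p ^ f) ^ 30 - 1))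
      refine Dvd.dvd.mul_left ?_ _
      have h1 := List.dvd_prod (List.mem_map_of_mem (f := fun d => (p ^ f) ^ d - 1) hd)
      simp only [List.map_cons, List.map_nil, List.prod_cons, List.prod_nil, mul_one] at h1
      simp only [mul_assoc]
      exact h1
    refine (ncl_dvd_Ph c _).trans ((Ph_dvd (hcl c hc) hq1).trans (h1 c ?_))
    rcases hmem c hc with rfl | rfl | rfl <;> decide
  have hnT : ∀ c ∈ [e, 30], ncl c (p ^ f) ∣ Nat.card ↥(Lie.chevE8.group F) := fun c hc =>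
    ncl_dvd_card (hcl c hc) (h7 c hc) hq2 (den_pos hT.cond) (by show 1 ≤ 6; norm_num) hT.eq (hnum c hc)
  have hm20 : ((Ph 20 (p ^ f) : ℕ) : ℤ) = 1 - ((p ^ f : ℕ) : ℤ) ^ 2 + ((p ^ f : ℕ) : ℤ) ^ 4 - ((p ^ f : ℕ) : ℤ) ^ 6 +
      ((p ^ f : ℕ) : ℤ) ^ 8 := by
    rw [cast_Ph20 _ hq1]; ring
  have hm24 : ((Ph 24 (p ^ f) : ℕ) : ℤ) = 1 - ((p ^ f : ℕ) : ℤ) ^ 4 + ((p ^ f : ℕ) : ℤ) ^ 8 := by
    rw [cast_Ph24 _ hq1]; ring
  have hm30 : ((Ph 30 (p ^ f) : ℕ) : ℤ) = 1 + ((p ^ f : ℕ) : ℤ) - ((p ^ f : ℕ) : ℤ) ^ 3 - ((p ^ f : ℕ) : ℤ) ^ 4 -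
      ((p ^ f : ℕ) : ℤ) ^ 5 + ((p ^ f : ℕ) : ℤ) ^ 7 + ((p ^ f : ℕ) : ℤ) ^ 8 := by
    rw [cast_Ph30 _ hq1]; ring
  have hbig : ∀ c ∈ [e, 30], ∀ r, Prim (p ^ f) c r → Big ↥(Lie.chevE8.group F) r (Ph c (p ^ f)) c := by
    intro c hc r hr
    rcases hmem c hc with rfl | rfl | rfl
    · exact big_E8_20 hq hm20 hr
    · exact big_E8_24 hq hm24 hr
    · exact big_E8_30 hq hm30 hr
  obtain ⟨r₀, hr₀⟩ := exists_prim hq2 (show 3 ≤ e by omega) (by omega)
  have hpiso : PIso p r₀ ↥(Lie.chevE8.group F) := piso_E8 (F := F) he (by rw [hq]; exact hr₀)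
  have hord : ∀ c ∈ [e, 30], Ord ↥(Lie.chevE8.group F) (p ^ f) c (Ph c (p ^ f)) :=
    fun c hc r hr x hx => (hbig c hc r hr).card x hx
  have h30 : 30 ∈ [e, 30] := by simp
  obtain ⟨S, hSn, hSs, hSna, hnS, hidx, hbS, g, hg, hch⟩ := core tb hcyc hcf ht (fam := [e, 30]) (fun c hc => hc)
    (M := fun c => Ph c (p ^ f)) (E := fun c => c)
    (e := e) (e' := 30) (by simp) (by simp) (Or.inl (by
      rcases he with rfl | rfl
      · exact dist_20_30 hq2
      · exact dist_24_30 hq2)) hcl h7 hp hf (F := F) fth_E8 hdT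
    hbig (fun c hc => Ph_dvd (hcl c hc) hq1)
    (fun c hc s hs hd => le_seven'' hs (hmem c hc) hd)
    (by
      intro c hc
      simp only [List.mem_cons, List.not_mem_nil, or_false] at hc
      rcases hc with rfl | rfl
      · exact ⟨30, by simp, fun h => by have := Nat.le_of_dvd (by omega) h; omega⟩
      · refine ⟨e, by simp, ?_⟩
        rcases he with rfl | rfl <;> norm_num) hnT (c₀ := e) (by simp) hr₀ hpiso hoff (fun t ht htp htn htB => by
      refine good_E8 (by norm_num) hq2 ((hord 30 h30).sub B) ?_ ht (htn 30 h30)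
      exact off_ncl_dvd hoff h30 (hcl 30 h30) hq1 (hnT 30 h30))
  exact ⟨S, hSn, hSs, hSna, fun c hc r hr => (hbS c hc r hr).2.2, g, hg, hch⟩

/-- **`E₈(q)`, the classes 24, 30.** -/
theorem K_E8a (tb : OrderTable.{0}) (hcyc : CycFixSolv.{0}) (hcf : CF)
    (B : Subgroup ↥(Lie.chevE8.group F)) (hoff : Off (Fintype.card F) [24, 30] B) : B = ⊤ := by
  obtain ⟨p, f, _, hp, hf, hq⟩ := exists_pf F
  have := Fact.mk hp
  have hT := named_e8 (F := F) tb
  rw [hq] at hT hoff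
  have hq2 : 2 ≤ p ^ f := hp.two_le.trans (Nat.le_self_pow (by omega) p)
  obtain ⟨S, hSn, hSs, hSna, hbS, g, hg, hch⟩ := core_E8 tb hcyc hcf (Or.inr rfl) tbl_E8a hp hf hq B hoff
  have hdS : Nat.card S ∣ num (.e8 (p ^ f)) := IsNamed.card_dvd hT S
  obtain ⟨r, hr⟩ := exists_prim hq2 (show 3 ≤ 24 by norm_num) (by omega)
  have hpiso : PIso p r S :=
    ((piso_E8 (F := F) (Or.inr rfl) (by rw [hq]; exact hr) : PIso p r ↥(Lie.chevE8.group F)).sub B).sub S
  have hrS : r ∣ Nat.card S := hbS 24 (by decide) r hr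
  rcases charp_e8_2430 hp hf hg.cond hch hg.eq hdS (fun s hs _ => hbS 24 (by decide) s hs)
    (fun s hs _ => hbS 30 (by decide) s hs) with rfl | rfl | rfl
  · exact eq_top_of_name hT hg
  · exact (kill_psl5 hp hg hr hrS hpiso).elim
  · exact (kill_ominus5 hp hg hr hrS hpiso).elim

/-- **`E₈(q)`, the classes 20, 30.** -/
theorem K_E8b (tb : OrderTable.{0}) (hcyc : CycFixSolv.{0}) (hcf : CF)
    (B : Subgroup ↥(Lie.chevE8.group F)) (hoff : Off (Fintype.card F) [20, 30] B) : B = ⊤ := by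
  obtain ⟨p, f, _, hp, hf, hq⟩ := exists_pf F
  have := Fact.mk hp
  have hT := named_e8 (F := F) tb
  rw [hq] at hT hoff
  have hq2 : 2 ≤ p ^ f := hp.two_le.trans (Nat.le_self_pow (by omega) p)
  obtain ⟨S, hSn, hSs, hSna, hbS, g, hg, hch⟩ := core_E8 tb hcyc hcf (Or.inl rfl) tbl_E8b hp hf hq B hoff
  have hdS : Nat.card S ∣ num (.e8 (p ^ f)) := IsNamed.card_dvd hT S
  obtain ⟨r, hr⟩ := exists_prim hq2 (show 3 ≤ 20 by norm_num) (by omega)
  have hpiso : PIso p r S :=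
    ((piso_E8 (F := F) (Or.inl rfl) (by rw [hq]; exact hr) : PIso p r ↥(Lie.chevE8.group F)).sub B).sub S
  have hrS : r ∣ Nat.card S := hbS 20 (by decide) r hr
  rcases charp_e8_2030 hp hf hg.cond hch hg.eq hdS (fun s hs _ => hbS 20 (by decide) s hs)
    (fun s hs _ => hbS 30 (by decide) s hs) with rfl | rfl
  · exact eq_top_of_name hT hg
  · exact (kill_psl3' hp hg hr hrS hpiso).elim

end E8

end Cfsg.Agent.H290.Cov30
end

private theorem dce_a23e0fff653c : _root_.True := by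
  try have : _root_.True := by simp only [_root_.Cfsg.Agent.H290.Cov30.Ph.eq_1]
  try have : _root_.True := by simp only [_root_.Cfsg.Agent.H290.Cov30.Ph.eq_3]
  try have : _root_.True := by simp only [_root_.Cfsg.Agent.H290.Cov30.Ph.eq_4]
  try have : _root_.True := by simp only [_root_.Cfsg.Agent.H290.Cov30.Ph.eq_2]
  exact _root_.True.intro
end

-- part: H129/E7Common
section
set_option linter.all false
open scoped Cfsg.Agent.FastGrp

-- part: H129/CommDiag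
section
/-!
# Elements commuting with an element of isolated prime order: the diagonal form (helper129)

* `TD.cX_eq_one_iff` : the roots trivial on an element of prime order of the twisted torus;
* `rank_sub_one` : `rank (t - 1)` for a diagonal element `t` is the number of roots `α` with `α(t) ≠ 1`;
* `exists_diag` : `a` of prime order `ℓ` commuting with `x` of isolated prime order: over the algebraic closure `a` is
  conjugate to a diagonal element `t` with `α(t) = 1 ↔ ℓ ∣ Gq α`.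
-/

set_option autoImplicit false
set_option linter.unusedSectionVars false

namespace Cfsg.Agent.H129.CommDiag

open CoxeterSystem Cfsg Cfsg.Lie Cfsg.Lie.ChevalleyDatum
open Cfsg.Agent.ChevalleyStructure Cfsg.Agent.ChevalleyStructure.Elts Cfsg.Agent.ChevalleyStructure.CoxeterGeom
  Cfsg.Agent.ChevalleyStructure.CoxeterGeomTypes Cfsg.Agent.ChevalleyStructure.NPerm
open Cfsg.Agent.Tits.Roots Cfsg.Agent.Tits.Core Cfsg.Agent.Nodes Cfsg.Agent.Nodes.Reps Cfsg.Agent.Nodes.BNOf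
  Cfsg.Agent.Nodes.RGDChev Cfsg.Agent.Nodes.Bruhat Cfsg.Agent.Nodes.SubComb Cfsg.Agent.Nodes.Coroot
open Cfsg.Agent.KFacts.RgdField Cfsg.Agent.KFacts.RgdChevCoord Cfsg.Agent.BpExc.TorCent Cfsg.Agent.BpExc.TorChev
open Cfsg.Agent.GpExc.Field Cfsg.Agent.BpExc.Tow Cfsg.Agent.BpExc.TowChev Cfsg.Agent.BpExc.Fr
  Cfsg.Agent.BpExc.LangFr Cfsg.Agent.LangThm Cfsg.Agent.BpExc Cfsg.Agent.H129.TorusChar Cfsg.Agent.H129.TorusCent
  Cfsg.Agent.H129.TorusTw Cfsg.Agent.H129.TorusMain Cfsg.Agent.H129.TorusUntw Cfsg.Agent.H129.TorAct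
  Cfsg.Agent.H129.WData Cfsg.Agent.H129.UntwTwo Cfsg.Agent.H129.CycT

universe u

section Val

variable {D : ChevalleyDatum} {l : ℕ} {M : CoxeterMatrix (Fin l)} {hp : IsType D l M} {k : Type u} [Field k]
  {W : Type*} [Group W] {cs : CoxeterSystem M W} {σ : MulAut ↥(D.group k)}
  {hN : NSys M (TT D k) (nc hp k)} {w : W} {B : Fin l → Fin l → ℤ} {Q : ℤ} {N : ℕ}
  {n z t : ↥(D.group k)} {u : k}

/-- the characters trivial on an element of prime order -/
theorem cX_eq_one_iff (X : TD hp cs hN w σ B Q N n z t u) (hN0 : N ≠ 0) {r : ℕ} (hr : r.Prime) {j : ℕ}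
    (hj : orderOf (t ^ j) = r) (x : Fin l → ℤ) : cX hp (t ^ j) x = 1 ↔ (r : ℤ) ∣ Gq B Q x := by
  have hone : ∀ y : ℤ, u ^ y = 1 ↔ (N : ℤ) ∣ y := fun y => X.hu.zpow_eq_one_iff_dvd y
  have hj0 : j ≠ 0 := by
    rintro rfl
    rw [pow_zero, orderOf_one] at hj
    exact hr.one_lt.ne hj
  have hgcd : N = r * Nat.gcd N j := by
    have h1 : orderOf (t ^ j) = N / Nat.gcd N j := by rw [orderOf_pow' t hj0, X.htN]
    rw [hj] at h1
    have h2 := Nat.div_mul_cancel (Nat.gcd_dvd_left N j)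
    rw [← h1] at h2
    exact h2.symm
  rw [X.val_pow, hone]
  obtain ⟨m, hm⟩ := Nat.gcd_dvd_right N j
  have hd0 : Nat.gcd N j ≠ 0 := fun h0 => hN0 (by rw [hgcd, h0, mul_zero])
  have hco : Nat.Coprime r m := by
    have h3 : Nat.gcd N j = Nat.gcd (r * Nat.gcd N j) (Nat.gcd N j * m) := by
      rw [← hgcd, ← hm]
    rw [mul_comm r, Nat.gcd_mul_left] at h3
    exact Nat.eq_of_mul_eq_mul_left (Nat.pos_of_ne_zero hd0) (h3.symm.trans (mul_one _).symm)
  have e1 : (N : ℤ) = (Nat.gcd N j : ℤ) * r := by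
    rw [mul_comm]; exact_mod_cast hgcd
  have e2 : (j : ℤ) * Gq B Q x = (Nat.gcd N j : ℤ) * (m * Gq B Q x) := by
    rw [← mul_assoc]; congr 1; exact_mod_cast hm
  rw [e1, e2, mul_dvd_mul_iff_left (Nat.cast_ne_zero.2 hd0)]
  constructor
  · intro h4
    exact (Nat.isCoprime_iff_coprime.2 hco).dvd_of_dvd_mul_left h4
  · intro h4
    exact h4.mul_left _

/-- the matrix of an element of the diagonal torus -/
theorem coe_TT (hp : IsType D l M) {t : ↥(D.group k)} (ht : t ∈ TT D k) :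
    ((t : GL D.Idx k) : Matrix D.Idx D.Idx k) = Matrix.diagonal (Sum.elim (fun _ => (1 : k))
      (fun s : Fin D.nroots => cX hp t (vec D l s))) := by
  have ht' := ht
  rw [Subgroup.mem_subgroupOf] at ht
  obtain ⟨c, hc, e, hact⟩ := Tor.exists_c hp ht
  rw [e]
  congr 1
  funext i
  rcases i with i | s
  · rfl
  · show ∏ i ∈ Finset.range D.rank, c i ^ D.cartan i s = cX hp t (vec D l s)
    rw [cX_vec hp ht' s.2]
    symm
    apply ch_eq hp s.2 ht'
    apply Subtype.ext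
    rw [Subgroup.coe_mul, Subgroup.coe_mul, Subgroup.coe_inv, coe_xc hp s.2, coe_xc hp s.2, hact s s.2, mul_one]

/-- the rank of `t - 1` -/
theorem rank_sub_one (hp : IsType D l M) {t : ↥(D.group k)} (ht : t ∈ TT D k) :
    (((t : GL D.Idx k) : Matrix D.Idx D.Idx k) - 1).rank =
      Nat.card {s : Fin D.nroots // cX hp t (vec D l s) ≠ 1} := by
  classical
  have e1 : ((t : GL D.Idx k) : Matrix D.Idx D.Idx k) - 1 = Matrix.diagonal (Sum.elim (fun _ => (0 : k))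
      (fun s : Fin D.nroots => cX hp t (vec D l s) - 1)) := by
    rw [coe_TT hp ht, ← Matrix.diagonal_one, Matrix.diagonal_sub]
    congr 1
    funext i
    rcases i with i | s
    · show (1 : k) - 1 = 0
      rw [sub_self]
    · rfl
  rw [e1, Matrix.rank_diagonal, ← Nat.card_eq_fintype_card]
  refine Nat.card_congr ⟨fun i => ?_, fun s => ⟨Sum.inr s.1, sub_ne_zero.2 s.2⟩, ?_, ?_⟩
  · rcases i with ⟨i | s, h⟩
    · exact absurd rfl h
    · exact ⟨s, sub_ne_zero.1 h⟩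
  · rintro ⟨i | s, h⟩
    · exact absurd rfl h
    · rfl
  · rintro ⟨s, h⟩
    rfl

/-- conjugate elements have the same rank -/
theorem rank_conj {ι : Type*} [Fintype ι] [DecidableEq ι] (g t : GL ι k) :
    (((g * t * g⁻¹ : GL ι k) : Matrix ι ι k) - 1).rank = ((t : Matrix ι ι k) - 1).rank := by
  have e1 : ((g * t * g⁻¹ : GL ι k) : Matrix ι ι k) - 1 =
      (g : Matrix ι ι k) * ((t : Matrix ι ι k) - 1) * ((g⁻¹ : GL ι k) : Matrix ι ι k) := by
    rw [mul_sub, sub_mul, mul_one, ← Units.val_mul g g⁻¹, mul_inv_cancel, Units.val_one, Units.val_mul, Units.val_mul]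
  have hu : ∀ g : GL ι k, IsUnit ((g : Matrix ι ι k)).det := fun g => by
    rw [← Matrix.isUnit_iff_isUnit_det]
    exact Units.isUnit g
  rw [e1, Matrix.rank_mul_eq_left_of_isUnit_det _ _ (hu _), Matrix.rank_mul_eq_right_of_isUnit_det _ _ (hu _)]

end Val

section Main

variable {D : ChevalleyDatum} {l : ℕ} {M : CoxeterMatrix (Fin l)} (hp : IsType D l M)
  {W : Type*} [Group W] (cs : CoxeterSystem M W)

include hp cs in
/-- **Elements commuting with an element of isolated prime order.** -/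
theorem exists_diag [Finite W] (hl : 0 < l) {F : Type u} [Field F] [Fintype F] {q : ℕ} (hq : Fintype.card F = q)
    {d' : ℕ} {B' : Fin l → Fin l → ℤ} (hB : InvC D l d' B') (hd' : d' ≠ 0)
    {A : Mat l} (hA : ∀ i j, A i j = cartanOf D l i j) {L : List (Fin l × Mat l)} (hL : ChainOK A L)
    {V B : Mat l} {c : Fin l → ℤ} (hcyc : CycOK l (hd L) V B c) {m : ℕ} {R : Fin m → Fin l → ℤ} {prv dep : ℕ → ℕ}
    (hR : RootOK D l (hd L) R prv dep) {N : ℕ} (hfN : fN c (q : ℤ) = N) (hqN : q.Coprime N) {d : ℕ}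
    (hdd : d = d' ∨ d = 1 ∧ ∀ a : F, ∃ b : F, b ^ d' = a) {r : ℕ} (hr : r.Prime) (hrN : r ∣ N) (hrd : ¬ r ∣ d)
    (hrW : ¬ r ∣ Nat.card W) (hG : ∀ s, ¬ (r : ℤ) ∣ Gq B (q : ℤ) (R s)) {a x : ↥(D.group F)} {ℓ : ℕ} (hℓ : ℓ.Prime)
    (ha : orderOf a = ℓ) (hx : orderOf x = r) (hax : Commute a x) :
    ∃ g t' : ↥(D.group (AlgebraicClosure F)), t' ∈ TT D (AlgebraicClosure F) ∧
      emb hp.inList (algebraMap F (AlgebraicClosure F)) a = g * t' * g⁻¹ ∧
      ∀ y, cX hp t' y = 1 ↔ (ℓ : ℤ) ∣ Gq B (q : ℤ) y := by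
  have hlin := lin_refl hp cs hA hL
  have hc := cyc_of hlin hcyc
  obtain ⟨p, e, hpF, hpc, hpk, he, rfl, hk⟩ := exists_closure hq
  have hpN : ¬ p ∣ N := fun h1 => by
    have h2 : p ∣ Nat.gcd (p ^ e) N := Nat.dvd_gcd (dvd_pow_self p he.ne') h1
    rw [hqN] at h2
    exact hpF.out.one_lt.ne' (Nat.dvd_one.1 h2)
  have hN0 : N ≠ 0 := fun h0 => hpN (by rw [h0]; exact dvd_zero p)
  have hd : ∀ y : ↥(D.group (AlgebraicClosure F)), phi D (AlgebraicClosure F) p e y = y →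
      y ^ d ∈ (emb hp.inList (algebraMap F (AlgebraicClosure F))).range := by
    intro y hy
    rcases hdd with rfl | ⟨rfl, hF⟩
    · exact fix_pow_range hp cs _ hq hB hd' hy
    · rw [pow_one]
      exact fix_range hp cs _ hq hB hd' hF hy
  have hgood : ∀ a, IsRoot cs hp.isCartan a → ¬ (r : ℤ) ∣ Gq B ((p ^ e : ℕ) : ℤ) a := fun a ha =>
    not_dvd_G hp cs hlin hc hR hfN hr hrN hqN hG ha
  have he0 : Function.Injective (emb (D := D) hp.inList (algebraMap F (AlgebraicClosure F))) :=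
    emb_injective hp.inList _
  have hfix := phi_emb (k := AlgebraicClosure F) hp (algebraMap F (AlgebraicClosure F)) hq
  obtain ⟨n, z, t, u, X⟩ := TD.exists_of (hp := hp) (cs := cs) (hN := nsys_of_locFin hp cs hk p) hl hk he isFrob_phi
    (fr_phi hp cs) hB hd' (w := cs.wordProd (L.map Prod.fst)) hc hfN hpN
  have hord : orderOf (z * t * z⁻¹) = N := by
    have h3 : z * t * z⁻¹ = MulAut.conj z t := rfl
    rw [h3, ← X.htN]
    exact orderOf_injective (MulAut.conj z).toMonoidHom (MulAut.conj z).injective t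
  have hσz : phi D (AlgebraicClosure F) p e z = z * n := by rw [X.hz]; group
  have hσa : phi D (AlgebraicClosure F) p e (z * t * z⁻¹) = z * t * z⁻¹ := by
    rw [map_mul, map_mul, map_inv, hσz]
    calc z * n * phi D (AlgebraicClosure F) p e t * (z * n)⁻¹ =
        z * (n * phi D (AlgebraicClosure F) p e t * n⁻¹) * z⁻¹ := by group
      _ = z * t * z⁻¹ := by rw [X.hτ]
  have h2 := dvd_card_T0 he0 (hd _ hσa)
  rw [hord] at h2
  have hrT : r ∣ Nat.card ↥(T0 (emb hp.inList (algebraMap F (AlgebraicClosure F))) (z * t * z⁻¹)) :=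
    (hr.dvd_mul.1 (hrN.trans h2)).resolve_left hrd
  have : Finite ↥(D.group F) := inferInstance
  obtain ⟨g, hg1, hg2⟩ := centralizer_conj (isCyclic_T0 he0) hr hrT (fun y hy hyr =>
    X.centralizer_le hk p hN0 he0 hfix hr hrW hgood hy hyr) hx
  have haT := (hg2 a).1 (by rw [Subgroup.mem_centralizer_singleton_iff]; exact hax)
  have hfo : IsOfFinOrder (z * t * z⁻¹) := by
    rw [← orderOf_pos_iff, hord]
    exact Nat.pos_of_ne_zero hN0
  obtain ⟨j, hj⟩ := (hfo.mem_powers_iff_mem_zpowers.2 haT)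
  have hj' : (z * t * z⁻¹) ^ j = emb hp.inList (algebraMap F (AlgebraicClosure F)) (g * a * g⁻¹) := hj
  have e1 : emb hp.inList (algebraMap F (AlgebraicClosure F)) (g * a * g⁻¹) = z * t ^ j * z⁻¹ := by
    rw [← hj', conj_pow]
  have hoj : orderOf (t ^ j) = ℓ := by
    have h2 : orderOf (z * t ^ j * z⁻¹) = orderOf (t ^ j) := by
      have h3 : z * t ^ j * z⁻¹ = MulAut.conj z (t ^ j) := rfl
      rw [h3]
      exact orderOf_injective (MulAut.conj z).toMonoidHom (MulAut.conj z).injective (t ^ j)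
    have h4 : orderOf (g * a * g⁻¹) = orderOf a := by
      have h3 : g * a * g⁻¹ = MulAut.conj g a := rfl
      rw [h3]
      exact orderOf_injective (MulAut.conj g).toMonoidHom (MulAut.conj g).injective a
    rw [← h2, ← e1, orderOf_injective _ he0, h4, ha]
  refine ⟨emb hp.inList (algebraMap F (AlgebraicClosure F)) g⁻¹ * z, t ^ j, pow_mem X.ht j, ?_,
    fun y => cX_eq_one_iff X hN0 hℓ hoj y⟩
  have e2 : emb hp.inList (algebraMap F (AlgebraicClosure F)) a =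
      emb hp.inList (algebraMap F (AlgebraicClosure F)) g⁻¹ *
        emb hp.inList (algebraMap F (AlgebraicClosure F)) (g * a * g⁻¹) *
        emb hp.inList (algebraMap F (AlgebraicClosure F)) g := by
    rw [← map_mul, ← map_mul]
    congr 1
    group
  rw [e2, e1, map_inv]
  group

end Main

end Cfsg.Agent.H129.CommDiag
end

-- part: H129/E7Common
section
/-!
# `E₇(q)`: the tori of order `q⁷ + 1` and `(q + 1)(q⁶ - q³ + 1)` (helper129)

`e7_no_common` : an element of prime order `t`, `t ∣ q + 1`, does not commute with elements of both orders `r` and `s`,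
`r`, `s` primitive prime divisors of `q¹⁴ - 1` and `q¹⁸ - 1`.
-/

set_option autoImplicit false
set_option linter.unusedSectionVars false

namespace Cfsg.Agent.H129.E7Common

open CoxeterSystem Cfsg Cfsg.Lie Cfsg.Lie.ChevalleyDatum
open Cfsg.Agent.ChevalleyStructure Cfsg.Agent.ChevalleyStructure.Elts Cfsg.Agent.ChevalleyStructure.CoxeterGeom
  Cfsg.Agent.ChevalleyStructure.CoxeterGeomTypes Cfsg.Agent.ChevalleyStructure.NPerm
open Cfsg.Agent.Tits.Roots Cfsg.Agent.Tits.Core Cfsg.Agent.Nodes Cfsg.Agent.Nodes.Reps Cfsg.Agent.Nodes.BNOf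
  Cfsg.Agent.Nodes.RGDChev Cfsg.Agent.Nodes.Bruhat Cfsg.Agent.Nodes.SubComb Cfsg.Agent.Nodes.Coroot
open Cfsg.Agent.KFacts.RgdField Cfsg.Agent.KFacts.RgdChevCoord Cfsg.Agent.BpExc.TorCent Cfsg.Agent.BpExc.TorChev
open Cfsg.Agent.GpExc.Field Cfsg.Agent.BpExc.Tow Cfsg.Agent.BpExc.TowChev Cfsg.Agent.BpExc.Fr
  Cfsg.Agent.BpExc.LangFr Cfsg.Agent.LangThm Cfsg.Agent.BpExc Cfsg.Agent.H129.TorusChar Cfsg.Agent.H129.TorusCent
  Cfsg.Agent.H129.TorusTw Cfsg.Agent.H129.TorusMain Cfsg.Agent.H129.TorusUntw Cfsg.Agent.H129.TorAct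
  Cfsg.Agent.H129.WData Cfsg.Agent.H129.UntwTwo Cfsg.Agent.H129.CycT Cfsg.Agent.H129.CycCard
  Cfsg.Agent.H129.RealT Cfsg.Agent.H129.CommDiag Cfsg.Agent.H436

universe u

/-! ### arithmetic -/

theorem gq_neg_one {l : ℕ} (B : Mat l) {t : ℕ} {q : ℤ} (h : (t : ℤ) ∣ q + 1) (y : Fin l → ℤ) :
    (t : ℤ) ∣ Gq B q y - Gq B (-1) y := by
  unfold Gq
  rw [← Finset.sum_sub_distrib]
  refine Finset.dvd_sum fun j _ => ?_
  rw [← mul_sub, ← Finset.sum_sub_distrib]
  refine Dvd.dvd.mul_left (Finset.dvd_sum fun i _ => ?_) _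
  rw [← mul_sub]
  refine Dvd.dvd.mul_left ?_ _
  have h1 := sub_dvd_pow_sub_pow q (-1) (i : ℕ)
  rw [sub_neg_eq_add] at h1
  exact h.trans h1

theorem dvd_iff_neg_one {l : ℕ} (B : Mat l) {t : ℕ} {q : ℤ} (h : (t : ℤ) ∣ q + 1) (y : Fin l → ℤ) :
    (t : ℤ) ∣ Gq B q y ↔ (t : ℤ) ∣ Gq B (-1) y :=
  (dvd_iff_dvd_of_dvd_sub (gq_neg_one B h y))

theorem prim_sub_one {q e r : ℕ} (h : Prim q e r) : e ∣ r - 1 := by
  have : Fact r.Prime := ⟨h.prime⟩
  refine (h.dvd_iff (r - 1)).1 ?_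
  have h1 : ((q : ZMod r)) ≠ 0 := by
    rw [Ne, ZMod.natCast_eq_zero_iff]
    exact h.not_dvd
  have h2 := ZMod.pow_card_sub_one_eq_one h1
  have hq : 1 ≤ q ^ (r - 1) := Nat.one_le_pow _ _ (Nat.pos_of_ne_zero fun h0 => h.not_dvd (h0 ▸ dvd_zero r))
  rw [← ZMod.natCast_eq_zero_iff, Nat.cast_sub hq, Nat.cast_pow, Nat.cast_one, h2, sub_self]

theorem prim_lt {q e r : ℕ} (h : Prim q e r) : e < r := by
  have h1 := h.prime.two_le
  have h2 := Nat.le_of_dvd (by omega) (prim_sub_one h)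
  omega

theorem prim_fourteen {q r : ℕ} (h : Prim q 14 r) :
    (r : ℤ) ∣ 1 - (q : ℤ) + (q : ℤ) ^ 2 - (q : ℤ) ^ 3 + (q : ℤ) ^ 4 - (q : ℤ) ^ 5 + (q : ℤ) ^ 6 := by
  have h1 : (r : ℤ) ∣ (q : ℤ) ^ 7 + 1 := by
    have := h.dvd_add (m := 7) (by norm_num) (by norm_num)
    exact_mod_cast this
  have h2 : ¬ (r : ℤ) ∣ (q : ℤ) + 1 := by
    intro h3
    have h4 := h.not_dvd_add (m := 1) (by norm_num)
    rw [pow_one] at h4
    exact h4 (by exact_mod_cast h3)
  have hr : Prime (r : ℤ) := Nat.prime_iff_prime_int.1 h.prime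
  have e1 : (q : ℤ) ^ 7 + 1 = ((q : ℤ) + 1) *
      (1 - (q : ℤ) + (q : ℤ) ^ 2 - (q : ℤ) ^ 3 + (q : ℤ) ^ 4 - (q : ℤ) ^ 5 + (q : ℤ) ^ 6) := by ring
  rw [e1] at h1
  exact (hr.dvd_or_dvd h1).resolve_left h2

theorem prim_eighteen {q r : ℕ} (h : Prim q 18 r) : (r : ℤ) ∣ 1 - (q : ℤ) ^ 3 + (q : ℤ) ^ 6 := by
  have h1 : (r : ℤ) ∣ (q : ℤ) ^ 9 + 1 := by
    have := h.dvd_add (m := 9) (by norm_num) (by norm_num)
    exact_mod_cast this
  have h2 : ¬ (r : ℤ) ∣ (q : ℤ) ^ 3 + 1 := by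
    intro h3
    have h4 := h.not_dvd_add (m := 3) (by norm_num)
    exact h4 (by exact_mod_cast h3)
  have hr : Prime (r : ℤ) := Nat.prime_iff_prime_int.1 h.prime
  have e1 : (q : ℤ) ^ 9 + 1 = ((q : ℤ) ^ 3 + 1) * (1 - (q : ℤ) ^ 3 + (q : ℤ) ^ 6) := by ring
  rw [e1] at h1
  exact (hr.dvd_or_dvd h1).resolve_left h2

/-! ### the numbers of roots -/

theorem count_14 : (Finset.univ.filter fun s : Fin chevE7.nroots =>
    Gq DataE7m.B (-1) (vec chevE7 7 s) = 1 ∨ Gq DataE7m.B (-1) (vec chevE7 7 s) = -1).card = 70 := by decide +kernel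

theorem count_18 : (Finset.univ.filter fun s : Fin chevE7.nroots =>
    Gq DataE7h.B (-1) (vec chevE7 7 s) ≠ 0).card = 54 := by decide +kernel

/-! ### the diagonal forms -/

variable {F : Type u} [Field F] [Fintype F] {q : ℕ}

theorem diag_14 (hq : Fintype.card F = q) {r : ℕ} (hr : Prim q 14 r) {a x : ↥(chevE7.group F)} {t : ℕ} (ht : t.Prime)
    (ha : orderOf a = t) (hx : orderOf x = r) (hax : Commute a x) :
    ∃ g t' : ↥(chevE7.group (AlgebraicClosure F)), t' ∈ TT chevE7 (AlgebraicClosure F) ∧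
      emb typeE7.inList (algebraMap F (AlgebraicClosure F)) a = g * t' * g⁻¹ ∧
      ∀ y, cX typeE7 t' y = 1 ↔ (t : ℤ) ∣ Gq DataE7m.B (q : ℤ) y := by
  have := finite_W7
  have h := prim_fourteen hr
  have hlt := prim_lt hr
  obtain ⟨m, hm⟩ : ∃ m : ℕ, (m : ℤ) = (q : ℤ) ^ 7 + 1 := ⟨q ^ 7 + 1, by push_cast; ring⟩
  refine exists_diag typeE7 CoxeterMatrix.E₇.toCoxeterSystem (by norm_num) hq TorusChar.invC_E7 (by norm_num)
    DataE7m.hA DataE7m.chainOK DataE7m.cycOK DataE7m.rootOK (N := m) (by rw [DataE7m.fN_eq, hm]; ring)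
    (UntwData.coprime_of_eq (a := (q : ℤ) ^ 6) (by rw [hm]; ring)) (Or.inl rfl) hr.prime
    (dvd_of_int h (w := (q : ℤ) + 1) (by rw [hm]; ring)) (fun h2 => by
      have := Nat.le_of_dvd (by norm_num) h2; omega)
    (not_dvd_W7 hr.prime (by omega) (by omega) (by omega) (by omega)) (fun s hs => ?_) ht ha hx hax
  rcases DataE7m.dvd_of_G h s hs with h | h | h
  · exact not_one hr.prime h
  · exact not_prime hr.prime Nat.prime_two (by omega) h
  · exact not_prime hr.prime (by norm_num : (7 : ℕ).Prime) (by omega) h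

theorem diag_18 (hq : Fintype.card F = q) {r : ℕ} (hr : Prim q 18 r) {a x : ↥(chevE7.group F)} {t : ℕ} (ht : t.Prime)
    (ha : orderOf a = t) (hx : orderOf x = r) (hax : Commute a x) :
    ∃ g t' : ↥(chevE7.group (AlgebraicClosure F)), t' ∈ TT chevE7 (AlgebraicClosure F) ∧
      emb typeE7.inList (algebraMap F (AlgebraicClosure F)) a = g * t' * g⁻¹ ∧
      ∀ y, cX typeE7 t' y = 1 ↔ (t : ℤ) ∣ Gq DataE7h.B (q : ℤ) y := by
  have := finite_W7
  have h := prim_eighteen hr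
  have hlt := prim_lt hr
  obtain ⟨m, hm⟩ : ∃ m : ℕ, (m : ℤ) = (1 - (q : ℤ) ^ 3 + (q : ℤ) ^ 6) * ((q : ℤ) + 1) := by
    have h2 : 0 ≤ (1 - (q : ℤ) ^ 3 + (q : ℤ) ^ 6) * ((q : ℤ) + 1) := by
      have h3 : 0 ≤ (q : ℤ) := Int.natCast_nonneg q
      have h4 : 0 ≤ 1 - (q : ℤ) ^ 3 + (q : ℤ) ^ 6 := by nlinarith [sq_nonneg ((q : ℤ) ^ 3 - 1), sq_nonneg ((q : ℤ) ^ 3)]
      positivity
    exact ⟨_, Int.toNat_of_nonneg h2⟩
  refine exists_diag typeE7 CoxeterMatrix.E₇.toCoxeterSystem (by norm_num) hq TorusChar.invC_E7 (by norm_num)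
    DataE7h.hA DataE7h.chainOK DataE7h.cycOK DataE7h.rootOK (N := m) (by rw [DataE7h.fN_eq, hm]; ring)
    (UntwData.coprime_of_eq (a := 1 - (q : ℤ) ^ 2 - (q : ℤ) ^ 3 + (q : ℤ) ^ 5 + (q : ℤ) ^ 6) (by rw [hm]; ring))
    (Or.inl rfl) hr.prime (dvd_of_int h hm) (fun h2 => by
      have := Nat.le_of_dvd (by norm_num) h2; omega)
    (not_dvd_W7 hr.prime (by omega) (by omega) (by omega) (by omega)) (fun s hs => ?_) ht ha hx hax
  rcases DataE7h.dvd_of_G h s hs with h | h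
  · exact not_one hr.prime h
  · exact not_prime hr.prime Nat.prime_three (by omega) h

/-- **No common neighbour.** -/
theorem e7_no_common {F : Type u} [Field F] [Fintype F] {t r s : ℕ} (ht : t.Prime) (htq : t ∣ Fintype.card F + 1)
    (hr : Prim (Fintype.card F) 14 r) (hs : Prim (Fintype.card F) 18 s) {a x y : ↥(chevE7.group F)}
    (ha : orderOf a = t) (hx : orderOf x = r) (hy : orderOf y = s) (h1 : Commute a x) (h2 : Commute a y) :
    False := by
  obtain ⟨g1, t1, ht1, e1, hv1⟩ := diag_14 rfl hr ht ha hx h1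
  obtain ⟨g2, t2, ht2, e2, hv2⟩ := diag_18 rfl hs ht ha hy h2
  have htz : (t : ℤ) ∣ ((Fintype.card F : ℕ) : ℤ) + 1 := by exact_mod_cast htq
  have k1 := congrArg (fun g : ↥(chevE7.group (AlgebraicClosure F)) =>
    (((g : GL chevE7.Idx (AlgebraicClosure F)) : Matrix chevE7.Idx chevE7.Idx (AlgebraicClosure F)) - 1).rank) (e1.symm.trans e2)
  simp only [Subgroup.coe_mul, Subgroup.coe_inv] at k1
  rw [rank_conj, rank_conj, rank_sub_one typeE7 ht1, rank_sub_one typeE7 ht2] at k1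
  classical
  have c1 : 70 ≤ Nat.card {s : Fin chevE7.nroots // cX typeE7 t1 (vec chevE7 7 s) ≠ 1} := by
    rw [← count_14, Nat.card_eq_fintype_card, ← Fintype.card_coe]
    refine Fintype.card_le_of_injective (fun s => ⟨s.1, ?_⟩) ?_
    · have hs' := (Finset.mem_filter.1 s.2).2
      rw [Ne, hv1, dvd_iff_neg_one _ htz]
      rcases hs' with h | h
      · rw [h]
        exact not_one ht
      · rw [h, dvd_neg]
        exact not_one ht
    · intro a b hab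
      exact Subtype.ext (congrArg (fun z : {s : Fin chevE7.nroots // cX typeE7 t1 (vec chevE7 7 s) ≠ 1} => z.1) hab)
  have c2 : Nat.card {s : Fin chevE7.nroots // cX typeE7 t2 (vec chevE7 7 s) ≠ 1} ≤ 54 := by
    rw [← count_18, Nat.card_eq_fintype_card, ← Fintype.card_coe]
    refine Fintype.card_le_of_injective (fun s => ⟨s.1, Finset.mem_filter.2 ⟨Finset.mem_univ _, ?_⟩⟩) ?_
    · intro h
      apply s.2
      rw [hv2, dvd_iff_neg_one _ htz, h]
      exact dvd_zero _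
    · intro a b hab
      exact Subtype.ext (congrArg (fun z : ↥(Finset.univ.filter fun s : Fin chevE7.nroots =>
        Gq DataE7h.B (-1) (vec chevE7 7 s) ≠ 0) => z.1) hab)
  rw [k1] at c1
  omega

end Cfsg.Agent.H129.E7Common
end
end
end
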